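import Cfsg.Agent.Lib.NoDiv.Setup

/-!
# Cyclic extensions of abelian groups: fixed points and complements
-/

set_option autoImplicit false

open scoped Classical commutatorElement
open CfsgLib CfsgLib.DegGraph

namespace CfsgLib.NoDiv

universe u v

variable {Γ : Type u} [Group Γ]

/-- If every character of the abelian normal subgroup fixed by `y` is fixed by the generator `c`,
then centralised elements of `y` are centralised by `c`. -/
theorem commute_gen_of_fixed [Finite Γ] (A : Subgroup Γ) [A.Normal]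
    (hA : ∀ a ∈ A, ∀ b ∈ A, a * b = b * a) (c : Γ)
    (hc : ∀ g : Γ, ∃ k : ℕ, (c ^ k)⁻¹ * g ∈ A) (y : Γ)
    (hy : ∀ l : A →* ℂˣ, y ∈ stab l → c ∈ stab l) {a : Γ} (ha : a ∈ A) (hya : Commute y a) :
    Commute c a := by
  letI : CommGroup A :=
    { (inferInstance : Group A) with mul_comm := fun a b => Subtype.ext (hA a a.2 b b.2) }
  let D : Γ → (A →* A) := fun g =>
    ((MulAut.conjNormal g : MulAut A).toMonoidHom) / MonoidHom.id A
  have hD : ∀ (g : Γ) (x : A), ((D g x : A) : Γ) = g * x * g⁻¹ * (x : Γ)⁻¹ := fun g x => by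
    simp [D, MonoidHom.div_apply, div_eq_mul_inv]
  have hker : ∀ (g : Γ) (x : A), x ∈ (D g).ker ↔ Commute g x := fun g x => by
    rw [MonoidHom.mem_ker, Subtype.ext_iff, hD, Subgroup.coe_one, mul_inv_eq_one,
      mul_inv_eq_iff_eq_mul]
    rfl
  have hrange : (D c).range ≤ (D y).range := by
    rintro _ ⟨x, rfl⟩
    rw [← QuotientGroup.eq_one_iff]
    refine TwoDeg.eq_of_forall_hom_eq (fun u v => mul_comm u v) fun f => ?_
    rw [map_one]
    have hl : c ∈ stab (f.comp (QuotientGroup.mk' (D y).range)) := hy _ (mem_stab.2 (MonoidHom.ext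
      fun z => by
        show f (QuotientGroup.mk' _ (MulAut.conjNormal y z)) = f (QuotientGroup.mk' _ z)
        refine congrArg f (QuotientGroup.eq.2 ⟨z⁻¹, ?_⟩)
        apply Subtype.ext
        rw [hD]
        simp only [Subgroup.coe_mul, Subgroup.coe_inv, inv_inv, MulAut.conjNormal_apply, mul_inv_rev,
          ← mul_assoc]))
    have h := DFunLike.congr_fun (mem_stab.1 hl) x
    change f (QuotientGroup.mk' _ (MulAut.conjNormal c x)) = f (QuotientGroup.mk' _ x) at h
    show f (QuotientGroup.mk' _ (MulAut.conjNormal c x / x)) = 1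
    rw [map_div, map_div, h, div_self']
  have hle : (D c).ker ≤ (D y).ker := by
    intro x hx
    rw [hker] at hx ⊢
    obtain ⟨k, hk⟩ := hc y
    have h2 : Commute ((c ^ k)⁻¹ * y) x := hA _ hk _ x.2
    have h1 : Commute (c ^ k * ((c ^ k)⁻¹ * y)) x := (hx.pow_left k).mul_left h2
    rwa [mul_inv_cancel_left] at h1
  have hcard : ∀ g, Nat.card (D g).ker * Nat.card (D g).range = Nat.card A := fun g => by
    rw [← Subgroup.index_ker, Subgroup.card_mul_index]
  have h1 := Subgroup.card_le_of_le hrange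
  have h2 : Nat.card (D y).ker ≤ Nat.card (D c).ker := by
    refine Nat.le_of_mul_le_mul_right ?_ (Nat.card_pos (α := (D y).range))
    calc Nat.card (D y).ker * Nat.card (D y).range = Nat.card A := hcard y
      _ = Nat.card (D c).ker * Nat.card (D c).range := (hcard c).symm
      _ ≤ Nat.card (D c).ker * Nat.card (D y).range := Nat.mul_le_mul_left _ h1
  have heq := Subgroup.eq_of_le_of_card_ge hle h2
  exact (hker c ⟨a, ha⟩).1 (heq ▸ (hker y ⟨a, ha⟩).2 hya)

/-- A commutator with `c` that `c` centralises is trivial in coprime order. -/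
theorem eq_one_of_commute_commutator {c x a : Γ} {f n : ℕ} (ha : a = c * x * c⁻¹ * x⁻¹)
    (hca : Commute c a) (hcf : Commute (c ^ f) x) (han : a ^ n = 1) (hcop : n.Coprime f) :
    a = 1 := by
  have h : ∀ k : ℕ, c ^ k * x = a ^ k * x * c ^ k := by
    intro k
    induction k with
    | zero => simp
    | succ k ih =>
      rw [pow_succ' c k, mul_assoc, ih, ← mul_assoc, ← mul_assoc, (hca.pow_right k).eq,
        show a ^ k * c * x * c ^ k = a ^ k * (c * x * c⁻¹ * x⁻¹) * x * c * c ^ k by group, ← ha,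
        ← pow_succ]
      group
  have hf := (h f).symm.trans hcf.eq
  have h1 : a ^ f = 1 := mul_right_cancel (b := x * c ^ f) (by rw [← mul_assoc, hf, one_mul])
  exact orderOf_eq_one_iff.1 (Nat.eq_one_of_dvd_coprimes hcop (orderOf_dvd_of_pow_eq_one han)
    (orderOf_dvd_of_pow_eq_one h1))

section Product

variable {A : Type v} [CommGroup A] (ι : A →* Γ) (σ : MulAut A) (c : Γ)
  (hσ : ∀ a, ι (σ a) = c * ι a * c⁻¹)

include hσ in
theorem map_pow_aut (k : ℕ) (a : A) : ι ((σ ^ k) a) = c ^ k * ι a * (c ^ k)⁻¹ := by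
  induction k generalizing a with
  | zero => simp
  | succ k ih => rw [pow_succ, MulAut.mul_apply, ih, hσ, pow_succ]; group

include hσ in
theorem mul_pow_eq (a : A) (i m : ℕ) :
    (ι a * c ^ i) ^ m = ι (∏ l ∈ Finset.range m, (σ ^ (i * l)) a) * c ^ (i * m) := by
  induction m with
  | zero => simp
  | succ m ih =>
    rw [pow_succ, ih, Finset.prod_range_succ, map_mul, map_pow_aut ι σ c hσ, Nat.mul_succ, pow_add]
    group

theorem prod_fold (i m : ℕ) (a : A) :
    ∏ l' ∈ Finset.range i, (σ ^ l') (∏ l ∈ Finset.range m, (σ ^ (i * l)) a) =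
      ∏ k ∈ Finset.range (i * m), (σ ^ k) a := by
  induction m with
  | zero => simp
  | succ m ih =>
    rw [Nat.mul_succ, Finset.prod_range_add (fun k => (σ ^ k) a)]
    simp only [Finset.prod_range_succ, map_mul, Finset.prod_mul_distrib]
    rw [ih]
    congr 1
    refine Finset.prod_congr rfl fun l _ => ?_
    rw [← MulAut.mul_apply, ← pow_add, add_comm l]

theorem prod_pow_of_fixed {z : A} (hz : σ z = z) (i : ℕ) :
    ∏ l ∈ Finset.range i, (σ ^ l) z = z ^ i := by
  have h : ∀ l : ℕ, (σ ^ l) z = z := fun l => by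
    induction l with
    | zero => rfl
    | succ l ih => rw [pow_succ, MulAut.mul_apply, hz, ih]
  rw [Finset.prod_congr rfl (g := fun _ => z) fun l _ => h l]
  rw [Finset.prod_const, Finset.card_range]

include hσ in
/-- Two complements above the indices `i` and `k` give one above their greatest common divisor. -/
theorem exists_common_complement (hι : Function.Injective ι) {f i k : ℕ} (hi : i ∣ f) (hk : k ∣ f)
    (hg : 0 < i.gcd k) {z a b : A} (hz : ι z = c ^ f) (ha : (ι a * c ^ i) ^ (f / i) = 1)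
    (hb : (ι b * c ^ k) ^ (f / k) = 1) :
    ∃ d : A, (ι d * c ^ i.gcd k) ^ (f / i.gcd k) = 1 := by
  set g := i.gcd k with hgdef
  have hgi : g ∣ i := Nat.gcd_dvd_left i k
  have hgk : g ∣ k := Nat.gcd_dvd_right i k
  have hgf : g ∣ f := hgi.trans hi
  set τ := σ ^ g with hτ
  set e := c ^ g with he
  have hτe : ∀ a, ι (τ a) = e * ι a * e⁻¹ := map_pow_aut ι σ c hσ g
  set F := f / g with hF
  have hzF : ι z = e ^ F := by rw [hz, he, ← pow_mul, Nat.mul_div_cancel' hgf]
  have hzfix : τ z = z := hι (by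
    rw [hτe, hzF, ← pow_succ', pow_succ, mul_inv_cancel_right])
  let Nf : A →* A := ∏ l ∈ Finset.range F, ((τ ^ l : MulAut A)).toMonoidHom
  have hNf : ∀ x, Nf x = ∏ l ∈ Finset.range F, (τ ^ l) x := fun x => by
    simp only [Nf, MonoidHom.finsetProd_apply, MulEquiv.coe_toMonoidHom]
  have key : ∀ (i' : ℕ) (a : A), g * i' ∣ f → (ι a * c ^ (g * i')) ^ (f / (g * i')) = 1 →
      z ^ i' = (Nf a)⁻¹ := by
    intro i' a hdiv h
    have hm : i' * (f / (g * i')) = F := by
      rcases Nat.eq_zero_or_pos g with h0 | h0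
      · omega
      · apply Nat.eq_of_mul_eq_mul_left h0
        rw [← mul_assoc, Nat.mul_div_cancel' hdiv, Nat.mul_div_cancel' hgf]
    rw [pow_mul c g i', ← he, mul_pow_eq ι τ e hτe, hm, ← hzF, ← map_mul, ← map_one ι] at h
    have h2 := congrArg (fun x => ∏ l ∈ Finset.range i', (τ ^ l) x) (hι h)
    simp only [map_mul, map_one, Finset.prod_mul_distrib, Finset.prod_const_one,
      prod_fold, prod_pow_of_fixed τ hzfix, hm] at h2
    rw [hNf]
    exact eq_inv_of_mul_eq_one_right h2
  obtain ⟨i', rfl'⟩ := hgi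
  obtain ⟨k', rfl''⟩ := hgk
  have h1 := key i' a (rfl' ▸ hi) (rfl' ▸ ha)
  have h2 := key k' b (rfl'' ▸ hk) (rfl'' ▸ hb)
  have hbez : (1 : ℤ) = i' * Nat.gcdA i' k' + k' * Nat.gcdB i' k' := by
    have hcop : Nat.gcd i' k' = 1 := by
      have := hgdef
      rw [rfl', rfl'', Nat.gcd_mul_left] at this
      exact Nat.eq_of_mul_eq_mul_left hg (by rw [← this, mul_one])
    rw [← Nat.gcd_eq_gcd_ab, hcop, Nat.cast_one]
  refine ⟨a ^ Nat.gcdA i' k' * b ^ Nat.gcdB i' k', ?_⟩
  rw [← pow_one e, mul_pow_eq ι τ e hτe, one_mul, ← hzF, ← map_mul, ← map_one ι]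
  simp only [one_mul]
  rw [← hNf]
  refine congrArg ι ?_
  rw [map_mul, map_zpow, map_zpow]
  conv_lhs => arg 2; rw [← zpow_one z, hbez, zpow_add, zpow_mul, zpow_mul, zpow_natCast,
    zpow_natCast, h1, h2]
  rw [inv_zpow, inv_zpow, ← mul_inv, mul_inv_cancel]

end Product

end CfsgLib.NoDiv
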