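import Cfsg.Agent.Lib.NoDiv.Linear
import Cfsg.Agent.Lib.NoDiv.Actions
import Cfsg.Agent.Lib.Recog.Action
import Cfsg.Agent.Lib.Char.Normal

/-!
# A layer with abelian quotient: all orbit lengths are equal
-/

set_option autoImplicit false

open scoped Classical commutatorElement
open CfsgLib CfsgLib.DegGraph

namespace CfsgLib.NoDiv

universe u

variable {G : Type u} [Group G]

variable [Finite G]

/-- The index of a subgroup through a normal subgroup. -/
theorem index_eq_relIndex_mul (U N : Subgroup G) [N.Normal] :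
    U.index = U.relIndex N * (U ⊔ N).index := by
  have h1 : (U ⊓ N).relIndex U * U.index = (U ⊓ N).index :=
    Subgroup.relIndex_mul_index inf_le_left
  have h2 : (U ⊓ N).relIndex N * N.index = (U ⊓ N).index :=
    Subgroup.relIndex_mul_index inf_le_right
  have h3 : N.relIndex (U ⊔ N) * (U ⊔ N).index = N.index :=
    Subgroup.relIndex_mul_index le_sup_right
  rw [Subgroup.inf_relIndex_left] at h1
  rw [Subgroup.inf_relIndex_right, ← h3, Subgroup.relIndex_sup_right, ← h1,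
    mul_left_comm] at h2
  exact (Nat.eq_of_mul_eq_mul_left (Nat.pos_of_ne_zero fun h0 => Subgroup.index_ne_zero_of_finite
    (H := U ⊓ N) (by rw [← Subgroup.relIndex_mul_index (inf_le_left : U ⊓ N ≤ U),
      Subgroup.inf_relIndex_left, h0, zero_mul])) h2).symm

/-- Membership of powers of a generator in a subgroup above `N`. -/
theorem pow_mem_iff_dvd (N : Subgroup G) [N.Normal] {c : G}
    (hgen : ∀ g : G, ∃ k : ℕ, (c ^ k)⁻¹ * g ∈ N) (U : Subgroup G) (hNU : N ≤ U) (k : ℕ) :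
    c ^ k ∈ U ↔ U.index ∣ k := by
  set π := QuotientGroup.mk' N
  have hπ : Function.Surjective π := QuotientGroup.mk'_surjective N
  set V := U.map π with hV
  have hgenq : ∀ x : G ⧸ N, ∃ j : ℕ, (π c) ^ j = x := by
    intro x
    obtain ⟨g, rfl⟩ := hπ x
    obtain ⟨j, hj⟩ := hgen g
    exact ⟨j, by rw [← map_pow]; exact QuotientGroup.eq.2 hj⟩
  have hidx : V.index = U.index :=
    Subgroup.index_map_eq U hπ (by rwa [QuotientGroup.ker_mk'])
  have hmem : ∀ x, x ∈ U ↔ π x ∈ V := fun x => by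
    refine ⟨fun h => Subgroup.mem_map_of_mem _ h, fun h => ?_⟩
    obtain ⟨y, hy, hyx⟩ := h
    rw [show x = y * (y⁻¹ * x) by group]
    exact mul_mem hy (hNU (QuotientGroup.eq.1 hyx))
  haveI : V.Normal := ⟨fun y hy g => by
    obtain ⟨a, rfl⟩ := hgenq y
    obtain ⟨b, rfl⟩ := hgenq g
    rwa [(Commute.pow_pow (Commute.refl (π c)) b a).eq, mul_inv_cancel_right]⟩
  have hord : orderOf (QuotientGroup.mk (π c) : (G ⧸ N) ⧸ V) = U.index := by
    rw [← hidx, Subgroup.index_eq_card]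
    refine orderOf_eq_card_of_forall_mem_zpowers fun z => ?_
    obtain ⟨x, rfl⟩ := QuotientGroup.mk_surjective z
    obtain ⟨j, rfl⟩ := hgenq x
    exact ⟨j, by simp only [zpow_natCast, QuotientGroup.mk_pow]⟩
  rw [hmem, map_pow, ← QuotientGroup.eq_one_iff, QuotientGroup.mk_pow,
    ← orderOf_dvd_iff_pow_eq_one, hord]

/-- The top generator of a subgroup modulo `N`. -/
theorem exists_top (N : Subgroup G) [N.Normal] {c : G}
    (hgen : ∀ g : G, ∃ k : ℕ, (c ^ k)⁻¹ * g ∈ N) (U : Subgroup G) :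
    ∃ y ∈ U, ∃ n ∈ N, y = n * c ^ (U ⊔ N).index := by
  obtain ⟨u, hu, n, hn, h⟩ := Subgroup.mem_sup_of_normal_right.1
    ((pow_mem_iff_dvd N hgen (U ⊔ N) le_sup_right _).2 dvd_rfl)
  refine ⟨u, hu, u * n⁻¹ * u⁻¹, (inferInstance : N.Normal).conj_mem _ (inv_mem hn) u, ?_⟩
  rw [← h]
  group

/-- The elements of `N` fixing all linear characters of `L`. -/
def A1 (N L : Subgroup G) [L.Normal] : Subgroup G := N ⊓ (cjHom L).ker

instance (N L : Subgroup G) [N.Normal] [L.Normal] : (A1 N L).Normal :=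
  inferInstanceAs (N ⊓ (cjHom L).ker).Normal

theorem mem_A1 {N L : Subgroup G} [L.Normal] {a : G} :
    a ∈ A1 N L ↔ a ∈ N ∧ ∀ w : L →* ℂˣ, a ∈ stab w := by
  rw [A1, Subgroup.mem_inf, MonoidHom.mem_ker]
  refine and_congr_right' ⟨fun h w => (cjHom_fixed_iff L a w).1 (by rw [h]; rfl),
    fun h => MulEquiv.ext fun w => (cjHom_fixed_iff L a w).2 (h w)⟩

variable {N : Subgroup G} [N.Normal] {q : ℕ}

/-- A layer with abelian quotient and a generator normalising the Sylow subgroup. -/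
structure AbLayer (N : Subgroup G) (q : ℕ) (L Q : Subgroup G) (c : G) : Prop
    extends Layer N q L Q where
  abelian : ∀ a ∈ N, ∀ b ∈ N, ⁅a, b⁆ ∈ L
  normalizes : c ∈ Subgroup.normalizer (Q : Set G)
  gen : ∀ g : G, ∃ k : ℕ, (c ^ k)⁻¹ * g ∈ N
  nontriv : ∃ v : L →* ℂˣ, v ≠ 1

namespace AbLayer

variable {L Q : Subgroup G} [L.Normal] {c : G} (hF : Frob N q) (hA : AbLayer N q L Q c)
include hF hA

theorem L_le_A1 : L ≤ A1 N L := fun l hl =>
  mem_A1.2 ⟨hA.toLayer.L_le_N hF hl, fun w => le_stab L w hl⟩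

/-- Centralised modulo `R` by an outer element means central modulo `R`. -/
theorem central_mod (R : Subgroup G) [R.Normal] (hLR : L ≤ R) (hRN : R ≤ N) {y a : G}
    (hy : y ∉ N) (ha : a ∈ N) (h : ⁅y, a⁆ ∈ R) (g : G) : ⁅a, g⁆ ∈ R := by
  set π := QuotientGroup.mk' R
  have hπ : Function.Surjective π := QuotientGroup.mk'_surjective R
  set A := N.map π
  haveI : A.Normal := (inferInstance : N.Normal).map π hπ
  have hcomm : ∀ x y : G, ⁅x, y⁆ ∈ R ↔ Commute (π x) (π y) := fun x y => by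
    rw [← QuotientGroup.eq_one_iff, ← QuotientGroup.mk'_apply, map_commutatorElement,
      commutatorElement_eq_one_iff_mul_comm]
    rfl
  have hAab : ∀ u ∈ A, ∀ v ∈ A, u * v = v * u := by
    rintro _ ⟨u, hu, rfl⟩ _ ⟨v, hv, rfl⟩
    exact (hcomm u v).1 (hLR (hA.abelian u hu v hv))
  have hgenA : ∀ x : G ⧸ R, ∃ k : ℕ, ((π c) ^ k)⁻¹ * x ∈ A := fun x => by
    obtain ⟨g, rfl⟩ := hπ x
    obtain ⟨k, hk⟩ := hA.gen g
    exact ⟨k, by rw [← map_pow, ← map_inv, ← map_mul]; exact Subgroup.mem_map_of_mem _ hk⟩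
  have hfix : ∀ l : A →* ℂˣ, π y ∈ stab l → π c ∈ stab l := by
    intro l hl
    let l' : N →* ℂˣ := l.comp (π.subgroupMap N)
    have hy' : y ∈ stab l' := mem_stab.2 (MonoidHom.ext fun n => by
      refine Eq.trans ?_ (DFunLike.congr_fun (mem_stab.1 hl) (π.subgroupMap N n))
      exact congrArg l (Subtype.ext (by simp; rfl)))
    have htop := hF.stab_top_of_mem l' hy' hy
    refine mem_stab.2 (MonoidHom.ext fun x => ?_)
    obtain ⟨n, rfl⟩ := MonoidHom.subgroupMap_surjective π N x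
    refine Eq.trans ?_ (DFunLike.congr_fun (mem_stab.1 (htop ▸ Subgroup.mem_top c : c ∈ stab l')) n)
    exact congrArg l (Subtype.ext (by simp; rfl))
  have hc := commute_gen_of_fixed A hAab (π c) hgenA (π y) hfix
    (Subgroup.mem_map_of_mem _ ha) ((hcomm y a).1 h)
  obtain ⟨k, hk⟩ := hA.gen g
  rw [hcomm, show g = c ^ k * ((c ^ k)⁻¹ * g) by group, map_mul, map_pow]
  exact (hc.symm.pow_right k).mul_right (hAab _ (Subgroup.mem_map_of_mem _ ha) _
    (Subgroup.mem_map_of_mem _ hk))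

/-- All moved characters have the same stabiliser inside `N`. -/
theorem inf_stab {v : L →* ℂˣ} (hv : v ≠ 1) : N ⊓ stab v = A1 N L := by
  refine le_antisymm (fun a ha => ?_) (fun a ha => ⟨(mem_A1.1 ha).1, (mem_A1.1 ha).2 v⟩)
  obtain ⟨-, hab, -, hnle⟩ := hA.toLayer.moved_facts hF hv
  obtain ⟨y, hy, hyN⟩ := SetLike.not_le_iff_exists.1 hnle
  exact mem_A1.2 ⟨ha.1, hA.toLayer.fix_all hF
    (hA.central_mod hF L le_rfl (hA.toLayer.L_le_N hF) hyN ha.1 (hab y hy a ha.2)) hv ha.2⟩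

theorem index_stab {v : L →* ℂˣ} (hv : v ≠ 1) :
    (stab v).index = (A1 N L).relIndex N * (stab v ⊔ N).index := by
  rw [index_eq_relIndex_mul (stab v) N, ← hA.inf_stab hF hv, inf_comm,
    Subgroup.inf_relIndex_right]

theorem eq_one_of_mem {x : G} (hxL : x ∈ L) (hxQ : x ∈ Q) : x = 1 := by
  haveI : Fact q.Prime := ⟨hF.prime⟩
  obtain ⟨k, hk⟩ := IsPGroup.iff_card.1 hA.pgroup
  exact orderOf_eq_one_iff.1 (Nat.eq_one_of_dvd_coprimes
    ((hF.prime.coprime_iff_not_dvd.2 hA.coprime).pow_left k)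
    (hk ▸ Subgroup.orderOf_dvd_natCard Q hxQ) (Subgroup.orderOf_dvd_natCard L hxL))

theorem comm_Q {x z : G} (hx : x ∈ Q) (hz : z ∈ Q) : x * z = z * x :=
  commutatorElement_eq_one_iff_mul_comm.1 (hA.eq_one_of_mem hF
    (hA.abelian x (hA.le_N hx) z (hA.le_N hz))
    (mul_mem (mul_mem (mul_mem hx hz) (inv_mem hx)) (inv_mem hz)))

theorem conj_mem {x : G} (hx : x ∈ Q) (k : ℕ) : c ^ k * x * (c ^ k)⁻¹ ∈ Q :=
  (Subgroup.mem_normalizer_iff.1 (pow_mem hA.normalizes k) x).1 hx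

theorem comm_mem {x : G} (hx : x ∈ Q) : ⁅c, x⁆ ∈ Q := by
  have h := hA.conj_mem hF hx 1
  rw [pow_one] at h
  exact mul_mem h (inv_mem hx)

/-- The commutators of `c` with `Q`. -/
theorem exists_E : ∃ E : Subgroup G, E ≤ Q ∧ (∀ k : ℕ, ∀ e ∈ E, c ^ k * e * (c ^ k)⁻¹ ∈ E) ∧
    (∀ y e, y ∉ N → e ∈ E → ⁅y, e⁆ ∈ A1 N L → e = 1) ∧ ∃ e ∈ E, e ∉ A1 N L := by
  let D : Q →* G :=
    { toFun := fun x => ⁅c, (x : G)⁆
      map_one' := by simp [commutatorElement_def]
      map_mul' := fun x z => by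
        have h := hA.comm_Q hF (hA.comm_mem hF x.2)
          (mul_mem (mul_mem (hA.conj_mem hF z.2 1) (inv_mem z.2)) (one_mem Q))
        simp only [Subgroup.coe_mul, commutatorElement_def, pow_one, mul_one] at h ⊢
        have h2 := hA.comm_Q hF x.2 (hA.comm_mem hF z.2)
        simp only [commutatorElement_def] at h2
        calc c * (↑x * ↑z) * c⁻¹ * (↑x * ↑z)⁻¹
            = (c * x * c⁻¹) * ((c * z * c⁻¹ * (z : G)⁻¹) * (x : G)⁻¹) := by group
          _ = (c * x * c⁻¹) * ((x : G)⁻¹ * ((x : G) * (c * z * c⁻¹ * (z : G)⁻¹)) * (x : G)⁻¹) := by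
            group
          _ = (c * x * c⁻¹) * ((x : G)⁻¹ * ((c * z * c⁻¹ * (z : G)⁻¹) * (x : G)) * (x : G)⁻¹) := by
            rw [h2]
          _ = _ := by group }
  have hDQ : D.range ≤ Q := by
    rintro _ ⟨x, rfl⟩
    exact hA.comm_mem hF x.2
  -- elements of the image centralised modulo `L` by `c` are trivial
  have hkey : ∀ x : Q, ⁅c, D x⁆ ∈ L → D x = 1 := by
    intro x hx
    have hcx : Commute c (D x) := commutatorElement_eq_one_iff_mul_comm.1
      (hA.eq_one_of_mem hF hx (hA.comm_mem hF (hDQ ⟨x, rfl⟩)))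
    have hf : Commute (c ^ N.index) (x : G) := commutatorElement_eq_one_iff_mul_comm.1
      (hA.eq_one_of_mem hF (hA.abelian _ (Subgroup.pow_index_mem N c) _ (hA.le_N x.2))
        (mul_mem (hA.conj_mem hF x.2 _) (inv_mem x.2)))
    haveI : Fact q.Prime := ⟨hF.prime⟩
    obtain ⟨k, hk⟩ := IsPGroup.iff_card.1 hA.pgroup
    refine eq_one_of_commute_commutator (rfl : D x = c * x * c⁻¹ * (x : G)⁻¹) hcx hf
      (n := q ^ k) ?_ ((hF.prime.coprime_iff_not_dvd.2 hF.not_dvd).pow_left k)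
    rw [← hk]
    exact orderOf_dvd_iff_pow_eq_one.1 (Subgroup.orderOf_dvd_natCard Q (hDQ ⟨x, rfl⟩))
  have hA1 : ∀ x : Q, D x ∈ A1 N L → D x = 1 := by
    intro x hx
    obtain ⟨v, hv⟩ := hA.nontriv
    obtain ⟨-, hab, -, hnle⟩ := hA.toLayer.moved_facts hF hv
    obtain ⟨y, hy, hyN⟩ := SetLike.not_le_iff_exists.1 hnle
    refine hkey x ?_
    have h1 := hA.central_mod hF L le_rfl (hA.toLayer.L_le_N hF) hyN (mem_A1.1 hx).1
      (hab y hy _ ((mem_A1.1 hx).2 v)) c
    rw [← commutatorElement_inv]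
    exact inv_mem h1
  refine ⟨D.range, hDQ, fun k e he => ?_, fun y e hy he h => ?_, ?_⟩
  · obtain ⟨x, rfl⟩ := he
    refine ⟨⟨_, hA.conj_mem hF x.2 k⟩, ?_⟩
    show ⁅c, c ^ k * (x : G) * (c ^ k)⁻¹⁆ = _
    simp only [D, MonoidHom.coe_mk, OneHom.coe_mk, commutatorElement_def]
    group
  · obtain ⟨x, rfl⟩ := he
    have h1 := hA.central_mod hF (A1 N L) (hA.L_le_A1 hF) inf_le_left hy
      (hA.le_N (hDQ ⟨x, rfl⟩)) h c
    have h2 : ⁅c, D x⁆ ∈ A1 N L := by rw [← commutatorElement_inv]; exact inv_mem h1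
    refine hkey x ?_
    rw [show ⁅c, D x⁆ = 1 from hA1 ⟨D x, hDQ ⟨x, rfl⟩⟩ h2]
    exact one_mem L
  · by_contra hcon
    push Not at hcon
    obtain ⟨l, hlq, hl⟩ := hF.moved
    refine hF.ne_one (Subgroup.index_eq_one.2 ((Subgroup.eq_top_iff' N).2 fun g => ?_))
    obtain ⟨k, hk⟩ := hA.gen g
    have hc : c ∈ stab l := by
      haveI := hA.sup_normal
      have hLl : ∀ n : N, (n : G) ∈ L → l n = 1 := fun n hn => by
        have h4 := hA.le_comm hn
        rw [← Subgroup.map_subtype_commutator] at h4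
        obtain ⟨m, hm, hml⟩ := h4
        rw [show n = m from Subtype.ext hml.symm]
        exact MonoidHom.mem_ker.1 (Abelianization.commutator_subset_ker l hm)
      refine mem_stab.2 (MonoidHom.ext fun n => ?_)
      show l (MulAut.conjNormal c n) = l n
      set d : N := MulAut.conjNormal c n * n⁻¹ with hd
      have hq1 : l d ^ q = 1 := DFunLike.congr_fun hlq d
      have hm : ¬ q ∣ (L ⊔ Q).relIndex N := fun h =>
        hA.sylow (h.trans (Subgroup.relIndex_dvd_of_le_left N le_sup_right))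
      haveI : ((L ⊔ Q).subgroupOf N).Normal := Subgroup.normal_subgroupOf
      set m := (L ⊔ Q).relIndex N
      obtain ⟨z, hz, x, hx, hzx⟩ := Subgroup.mem_sup_of_normal_left.1
        (Subgroup.pow_index_mem ((L ⊔ Q).subgroupOf N) n)
      have hzl : l ⟨z, hA.toLayer.L_le_N hF hz⟩ = 1 := hLl _ hz
      have hzl' : l (MulAut.conjNormal c ⟨z, hA.toLayer.L_le_N hF hz⟩) = 1 :=
        hLl _ ((inferInstance : L.Normal).conj_mem z hz c)
      have hnx : n ^ m = ⟨z, hA.toLayer.L_le_N hF hz⟩ * ⟨x, hA.le_N hx⟩ := Subtype.ext hzx.symm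
      have hDx : D ⟨x, hx⟩ = 1 := hA1 ⟨x, hx⟩ (hcon _ ⟨⟨x, hx⟩, rfl⟩)
      have hcx : MulAut.conjNormal c (⟨x, hA.le_N hx⟩ : N) = ⟨x, hA.le_N hx⟩ :=
        Subtype.ext (by
          have := commutatorElement_eq_one_iff_mul_comm.1 hDx
          simp [this])
      have h2 : l d ^ m = 1 := by
        rw [hd, map_mul, map_inv, mul_pow, inv_pow, ← map_pow, ← map_pow, ← map_pow, hnx, map_mul,
          map_mul, map_mul, hzl, hzl', hcx, mul_inv_cancel]
      have h3 : l d = 1 := orderOf_eq_one_iff.1 (Nat.eq_one_of_dvd_coprimes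
        (hF.prime.coprime_iff_not_dvd.2 hm) (orderOf_dvd_of_pow_eq_one hq1)
        (orderOf_dvd_of_pow_eq_one h2))
      rw [hd, map_mul, map_inv, mul_inv_eq_one] at h3
      exact h3
    rw [show g = c ^ k * ((c ^ k)⁻¹ * g) by group]
    exact mul_mem (pow_mem (hl hc) k) hk

/-- An outer element with trivial power in `N / A1` fixes a moved character. -/
theorem exists_fixed {y : G} (hy : ∀ k : ℕ, y ^ k ∈ N → y ^ k ∈ A1 N L) :
    ∃ u : L →* ℂˣ, u ≠ 1 ∧ y ∈ stab u := by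
  obtain ⟨E, hEQ, hEc, hEfix, e₀, he₀, he₀A⟩ := hA.exists_E hF
  set R := A1 N L
  set π := QuotientGroup.mk' R
  let φ : G ⧸ R →* MulAut (L →* ℂˣ) :=
    QuotientGroup.lift R (cjHom L) (inf_le_right : R ≤ (cjHom L).ker)
  haveI := Fintype.ofFinite (E.map π)
  haveI := Fintype.ofFinite (Subgroup.zpowers (π y))
  haveI : Fact q.Prime := ⟨hF.prime⟩
  refine Exists.elim (Recog.exists_norm_ne_one (V := L →* ℂˣ) φ (E.map π)
    (Subgroup.zpowers (π y)) ?_ ?_ ?_ ?_) fun w hw => ?_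
  · intro h hh f hf
    obtain ⟨j, rfl⟩ := (isOfFinOrder_of_finite _).mem_powers_iff_mem_zpowers.2 hh
    obtain ⟨e, he, rfl⟩ := hf
    obtain ⟨k, hk⟩ := hA.gen (y ^ j)
    set n := (c ^ k)⁻¹ * y ^ j
    refine ⟨c ^ k * e * (c ^ k)⁻¹, hEc k e he, ?_⟩
    show π (c ^ k * e * (c ^ k)⁻¹) = π y ^ j * π e * (π y ^ j)⁻¹
    rw [← map_pow, show y ^ j = c ^ k * n by simp [n]]
    have hne : π n * π e = π e * π n := commutatorElement_eq_one_iff_mul_comm.1 (by
      rw [← map_commutatorElement]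
      exact (QuotientGroup.eq_one_iff _).2 (hA.L_le_A1 hF (hA.abelian n hk e (hA.le_N (hEQ he)))))
    simp only [map_mul, map_inv, mul_inv_rev]
    rw [show π (c ^ k) * π n * π e * ((π n)⁻¹ * (π (c ^ k))⁻¹) =
      π (c ^ k) * (π n * π e * (π n)⁻¹) * (π (c ^ k))⁻¹ by group, hne, mul_inv_cancel_right]
  · intro f hf h hh h1 hcomm
    obtain ⟨j, rfl⟩ := (isOfFinOrder_of_finite _).mem_powers_iff_mem_zpowers.2 hh
    obtain ⟨e, he, rfl⟩ := hf
    have hj : y ^ j ∉ N := fun hj => h1 (by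
      show π y ^ j = 1
      rw [← map_pow]
      exact (QuotientGroup.eq_one_iff _).2 (hy j hj))
    rw [hEfix (y ^ j) e hj he ((QuotientGroup.eq_one_iff _).1 (by
      show π ⁅y ^ j, e⁆ = 1
      rw [map_commutatorElement, commutatorElement_eq_one_iff_mul_comm, map_pow]
      exact hcomm)), map_one]
  · obtain ⟨k, hk⟩ := IsPGroup.iff_card.1 ((hA.pgroup.to_le hEQ).map π)
    rw [hk]
    refine ((hF.prime.coprime_iff_not_dvd.2 fun hd => ?_).pow_left k)
    obtain ⟨x, hx⟩ := exists_prime_orderOf_dvd_card' q hd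
    have hx1 : x = 1 := by
      refine MonoidHom.ext fun l => orderOf_eq_one_iff.1 (Nat.eq_one_of_dvd_coprimes
        (hF.prime.coprime_iff_not_dvd.2 hA.coprime) (orderOf_dvd_of_pow_eq_one ?_)
        (orderOf_dvd_of_pow_eq_one ?_))
      · rw [← MonoidHom.pow_apply, ← hx, pow_orderOf_eq_one, MonoidHom.one_apply]
      · rw [← map_pow, pow_card_eq_one', map_one]
    rw [hx1, orderOf_one] at hx
    exact hF.prime.ne_one hx.symm
  · obtain ⟨w, hw⟩ : ∃ w, φ (π e₀) w ≠ w := by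
      by_contra h
      push Not at h
      exact he₀A (mem_A1.2 ⟨hA.le_N (hEQ he₀), fun w => (cjHom_fixed_iff L e₀ w).1 (h w)⟩)
    exact ⟨π e₀, Subgroup.mem_map_of_mem _ he₀, w, hw⟩
  · refine ⟨_, hw, ?_⟩
    have h1 : φ (π y) (∏ h : Subgroup.zpowers (π y), φ (h : G ⧸ R) w) =
        ∏ h : Subgroup.zpowers (π y), φ (h : G ⧸ R) w := by
      rw [map_prod]
      refine Fintype.prod_equiv (Equiv.mulLeft
        (⟨π y, Subgroup.mem_zpowers _⟩ : Subgroup.zpowers (π y))) _ _ fun h => ?_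
      rw [← MulAut.mul_apply, ← map_mul]
      rfl
    exact (cjHom_fixed_iff L y _).1 h1

/-- A subgroup with stabiliser-sized intersection with `N` lies below some stabiliser top. -/
theorem exists_fixed_top (U : Subgroup G) (hU : U ⊓ N ≤ A1 N L) :
    ∃ u : L →* ℂˣ, u ≠ 1 ∧ (stab u ⊔ N).index ∣ (U ⊔ N).index := by
  obtain ⟨y, hy, n, hn, hyn⟩ := exists_top N hA.gen U
  obtain ⟨u, hu1, hu⟩ := hA.exists_fixed hF (y := y) fun k hk => hU ⟨pow_mem hy k, hk⟩
  refine ⟨u, hu1, (pow_mem_iff_dvd N hA.gen _ le_sup_right _).1 ?_⟩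
  rw [show c ^ (U ⊔ N).index = n⁻¹ * y by rw [hyn]; group]
  exact mul_mem (Subgroup.mem_sup_right (inv_mem hn)) (Subgroup.mem_sup_left hu)

/-- All orbit lengths coincide. -/
theorem top_eq {v w : L →* ℂˣ} (hv : v ≠ 1) (hw : w ≠ 1) :
    (stab v ⊔ N).index = (stab w ⊔ N).index := by
  set R := A1 N L
  set π := QuotientGroup.mk' R
  have hπ : Function.Surjective π := QuotientGroup.mk'_surjective R
  set A := N.map π
  haveI : A.Normal := (inferInstance : N.Normal).map π hπ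
  letI : CommGroup A :=
    { (inferInstance : Group A) with
      mul_comm := by
        rintro ⟨_, a, ha, rfl⟩ ⟨_, b, hb, rfl⟩
        refine Subtype.ext ?_
        show π a * π b = π b * π a
        rw [← commutatorElement_eq_one_iff_mul_comm, ← map_commutatorElement]
        exact (QuotientGroup.eq_one_iff _).2 (hA.L_le_A1 hF (hA.abelian a ha b hb)) }
  set f := N.index with hf
  set i := (stab v ⊔ N).index
  set k := (stab w ⊔ N).index
  have hi : i ∣ f := Subgroup.index_dvd_of_le le_sup_right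
  have hk : k ∣ f := Subgroup.index_dvd_of_le le_sup_right
  have hg : 0 < i.gcd k :=
    Nat.gcd_pos_of_pos_left _ (Nat.pos_of_ne_zero Subgroup.index_ne_zero_of_finite)
  have hpow : ∀ (u : L →* ℂˣ), u ≠ 1 → ∀ y ∈ stab u, ∀ n ∈ N, y = n * c ^ (stab u ⊔ N).index →
      (π n * π c ^ (stab u ⊔ N).index) ^ (f / (stab u ⊔ N).index) = 1 := by
    intro u hu y hy n hn hyn
    set j := (stab u ⊔ N).index with hj
    rw [← map_pow, ← map_mul, ← hyn, ← map_pow]
    refine (QuotientGroup.eq_one_iff _).2 ((hA.inf_stab hF hu).le ⟨?_, pow_mem hy _⟩)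
    show y ^ (f / j) ∈ N
    rw [← QuotientGroup.eq_one_iff, QuotientGroup.mk_pow, hyn, QuotientGroup.mk_mul,
      (QuotientGroup.eq_one_iff n).2 hn, one_mul, ← QuotientGroup.mk_pow,
      QuotientGroup.eq_one_iff, ← pow_mul,
      Nat.mul_div_cancel' (Subgroup.index_dvd_of_le le_sup_right : j ∣ f)]
    exact Subgroup.pow_index_mem N c
  obtain ⟨yv, hyv, nv, hnv, hev⟩ := exists_top N hA.gen (stab v)
  obtain ⟨yw, hyw, nw, hnw, hew⟩ := exists_top N hA.gen (stab w)
  obtain ⟨d, hd⟩ := exists_common_complement A.subtype (MulAut.conjNormal (π c)) (π c)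
    (fun a => MulAut.conjNormal_apply (π c) a) A.subtype_injective hi hk hg
    (z := ⟨π (c ^ f), Subgroup.mem_map_of_mem _ (Subgroup.pow_index_mem N c)⟩)
    (a := ⟨π nv, Subgroup.mem_map_of_mem _ hnv⟩) (b := ⟨π nw, Subgroup.mem_map_of_mem _ hnw⟩)
    (by simp [map_pow]) (hpow v hv yv hyv nv hnv hev) (hpow w hw yw hyw nw hnw hew)
  obtain ⟨n, hn, hdn⟩ := d.2
  set g := i.gcd k
  have hgf : g ∣ f := (Nat.gcd_dvd_left i k).trans hi
  obtain ⟨u, hu, hyu⟩ := hA.exists_fixed hF (y := n * c ^ g) fun m hm => by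
    have h1 : c ^ (g * m) ∈ N := by
      rw [← QuotientGroup.eq_one_iff, QuotientGroup.mk_pow, pow_mul, ← QuotientGroup.mk_pow]
      rw [← QuotientGroup.eq_one_iff, QuotientGroup.mk_pow, QuotientGroup.mk_mul,
        (QuotientGroup.eq_one_iff n).2 hn, one_mul] at hm
      exact hm
    have h2 := (pow_mem_iff_dvd N hA.gen N le_rfl _).1 h1
    obtain ⟨F, hF'⟩ := hgf
    rw [← hf, hF'] at h2
    obtain ⟨r, hr⟩ := Nat.dvd_of_mul_dvd_mul_left hg h2
    rw [hr, pow_mul]
    refine pow_mem ((QuotientGroup.eq_one_iff (N := R) _).1 ?_) r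
    have hFeq : f / g = F := by rw [hF', Nat.mul_div_cancel_left _ hg]
    show π ((n * c ^ g) ^ F) = 1
    rw [map_pow, map_mul, hdn, map_pow, ← hFeq]
    exact hd
  have hug : (stab u ⊔ N).index ∣ g := (pow_mem_iff_dvd N hA.gen _ le_sup_right _).1 (by
    rw [show c ^ g = n⁻¹ * (n * c ^ g) by group]
    exact mul_mem (Subgroup.mem_sup_right (inv_mem hn)) (Subgroup.mem_sup_left hyu))
  have heq : ∀ x : L →* ℂˣ, x ≠ 1 → g ∣ (stab x ⊔ N).index →
      (stab u ⊔ N).index = (stab x ⊔ N).index := by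
    intro x hx hgx
    obtain ⟨χ, hχ⟩ := (hA.toLayer.moved_facts hF hu).1
    obtain ⟨φ, hφ⟩ := (hA.toLayer.moved_facts hF hx).1
    have h := hF.hnd χ φ (hχ ▸ hA.toLayer.stab_index_gt hF hu) (by
      rw [hχ, hφ, hA.index_stab hF hu, hA.index_stab hF hx]
      exact Nat.mul_dvd_mul_left _ (hug.trans hgx))
    rw [hχ, hφ, hA.index_stab hF hu, hA.index_stab hF hx] at h
    exact Nat.eq_of_mul_eq_mul_left
      (Nat.pos_of_ne_zero Subgroup.index_ne_zero_of_finite : 0 < ((A1 N L).subgroupOf N).index) h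
  exact (heq v hv (Nat.gcd_dvd_left i k)).symm.trans (heq w hw (Nat.gcd_dvd_right i k))

/-- The common orbit length. -/
theorem exists_orbit_length : ∃ X j : ℕ, X = (A1 N L).relIndex N * j ∧
    (∀ v : L →* ℂˣ, v ≠ 1 → (stab v ⊔ N).index = j ∧ (stab v).index = X) ∧
    (∃ χ : Cfsg.IrrCharacter G, Cfsg.charDegree (χ : G → ℂ) = X) ∧ q ∣ X ∧
    ¬ N.index ∣ X ∧ 1 < X ∧
    ∀ U : Subgroup G, U ⊓ N ≤ A1 N L → X ∣ U.index := by
  haveI := Fintype.ofFinite G
  haveI := Fintype.ofFinite L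
  haveI := Fintype.ofFinite N
  obtain ⟨v₀, hv₀⟩ := hA.nontriv
  have hX : ∀ v : L →* ℂˣ, v ≠ 1 → (stab v).index = (stab v₀).index := fun v hv => by
    rw [hA.index_stab hF hv, hA.index_stab hF hv₀, hA.top_eq hF hv hv₀]
  obtain ⟨χ, hχ⟩ := (hA.toLayer.moved_facts hF hv₀).1
  have hq : q ∣ (stab v₀).index := by
    obtain ⟨χ', hχ'⟩ := Blk83.exists_over L ⟨_, Char.isIrrCharacter_linear v₀⟩
    rw [← (hA.toLayer.moved_facts hF hv₀).2.2.1 χ' hχ']
    obtain ⟨ψ, hψ⟩ := DegGraph.exists_constituent_res χ' N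
    refine (hF.q_dvd ψ fun h1 => ?_).trans (degree_dvd_of_constituent N χ' ψ hψ)
    have hLN := hA.toLayer.L_le_N hF
    -- a linear constituent is trivial on `L`, hence so are all its conjugates
    have hres := Char.restrict_eq_smul_sum_conj N (χ' : G → ℂ) χ'.2 (ψ : N → ℂ) ψ.2 hψ
    obtain ⟨μ, hμ⟩ := CharDeep.Lin.exists_hom_of_deg_one (Char.IsIrrCharacter.isCharacter ψ.2)
      (by rw [← CharTools.irr_degree_cast, h1, Nat.cast_one])
    have hker : ∀ n : N, (n : G) ∈ L → μ n = 1 := fun n hn => by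
      have h4 := hA.le_comm hn
      rw [← Subgroup.map_subtype_commutator] at h4
      obtain ⟨m, hm, hml⟩ := h4
      rw [show n = m from Subtype.ext hml.symm]
      exact MonoidHom.mem_ker.1 (Abelianization.commutator_subset_ker μ hm)
    have hconst : ∀ l : L, (χ' : G → ℂ) l = (χ' : G → ℂ) 1 := by
      intro l
      have e1 := congrFun hres ⟨(l : G), hLN l.2⟩
      have e2 := congrFun hres 1
      simp only [Subgroup.coe_one] at e1 e2
      rw [e1, e2]
      have hfin : {φ : N → ℂ | ∃ g : G, φ = CharTwist.conjFun N (ψ : N → ℂ) g}.Finite :=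
        (Set.finite_range fun g : G => CharTwist.conjFun N (ψ : N → ℂ) g).subset (by
          rintro _ ⟨g, rfl⟩; exact ⟨g, rfl⟩)
      simp only [finsum_mem_eq_finite_toFinset_sum _ hfin, Pi.smul_apply, Finset.sum_apply]
      refine congrArg _ (Finset.sum_congr rfl fun φ hφ => ?_)
      obtain ⟨g, rfl⟩ := (Set.Finite.mem_toFinset _).1 hφ
      simp only [CharTwist.conjFun, hμ]
      rw [hker _ ((inferInstance : L.Normal).conj_mem l l.2 g),
        hker _ (by simp [L.one_mem])]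
    obtain ⟨w, hw⟩ := not_forall.1 fun h => hv₀ (MonoidHom.ext h)
    apply hχ'
    show Cfsg.classInner (fun l : L => (χ' : G → ℂ) l) (fun l => (v₀ l : ℂ)) = 0
    rw [show (fun l : L => (χ' : G → ℂ) l) = (χ' : G → ℂ) 1 • (fun _ : L => (1 : ℂ)) from
      funext fun l => by rw [hconst l, Pi.smul_apply, smul_eq_mul, mul_one],
      Char.classInner_smul_left, Char.classInner_irr_of_ne Char.isIrrCharacter_principal
        (Char.isIrrCharacter_linear v₀) (fun h => hw (Units.ext (congrFun h w).symm)), mul_zero]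
  refine ⟨_, _, hA.index_stab hF hv₀, fun v hv => ⟨hA.top_eq hF hv hv₀, hX v hv⟩, ⟨χ, hχ⟩, hq,
    fun hf => hF.not_dvd ?_, hA.toLayer.stab_index_gt hF hv₀, fun U hU => ?_⟩
  · rwa [← hF.eq_index (hχ.symm ▸ hf), hχ]
  · obtain ⟨u, hu, hdvd⟩ := hA.exists_fixed_top hF U hU
    rw [← hX u hu, hA.index_stab hF hu, index_eq_relIndex_mul U N,
      ← Subgroup.inf_relIndex_right U N]
    exact mul_dvd_mul (Subgroup.relIndex_dvd_of_le_left N hU) hdvd

end AbLayer

end CfsgLib.NoDiv
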