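import Mathlib

/-!
# Spaces of alternating forms without degenerate members
-/

set_option autoImplicit false

open scoped Classical
open Matrix

namespace CfsgLib.NoDiv

universe u v

/-- The determinant of an alternating matrix over a field is a square. -/
theorem isSquare_det_alt {F : Type u} [Field F] (n : ℕ) : ∀ M : Matrix (Fin n) (Fin n) F,
    (∀ i j, M j i = -M i j) → (∀ i, M i i = 0) → IsSquare M.det := by
  induction n using Nat.strong_induction_on with
  | _ n ih =>
    intro M hs hd
    by_cases h0 : ∀ i j, M i j = 0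
    · rcases Nat.eq_zero_or_pos n with rfl | hn
      · exact ⟨1, by rw [Matrix.det_isEmpty, one_mul]⟩
      · haveI : Nonempty (Fin n) := ⟨⟨0, hn⟩⟩
        exact ⟨0, by rw [show M = 0 from Matrix.ext h0, Matrix.det_zero, mul_zero]⟩
    push Not at h0
    obtain ⟨i, j, hij⟩ := h0
    have hne : i ≠ j := fun h => hij (h ▸ hd i)
    let T := {x : Fin n // x ≠ i ∧ x ≠ j}
    let g : Fin 2 ⊕ T → Fin n := Sum.elim ![i, j] fun x => x.1
    have hg : Function.Bijective g := by
      constructor
      · rintro (a | a) (b | b) h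
        · fin_cases a <;> fin_cases b <;> simp [g] at h ⊢
          · exact hne h
          · exact hne h.symm
        · exfalso; fin_cases a <;> simp [g] at h
          · exact b.2.1 h.symm
          · exact b.2.2 h.symm
        · exfalso; fin_cases b <;> simp [g] at h
          · exact a.2.1 h
          · exact a.2.2 h
        · simp only [g, Sum.elim_inr] at h
          exact congrArg _ (Subtype.ext h)
      · intro x
        by_cases hi : x = i
        · exact ⟨.inl 0, by simp [g, hi]⟩
        by_cases hj : x = j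
        · exact ⟨.inl 1, by simp [g, hj]⟩
        exact ⟨.inr ⟨x, hi, hj⟩, rfl⟩
    let e : Fin 2 ⊕ T ≃ Fin n := Equiv.ofBijective g hg
    let e' := Fintype.equivFin T
    set B := M.submatrix e e with hB
    have hdet : B.det = M.det := Matrix.det_submatrix_equiv_self e M
    have hlt : Fintype.card T < n := by
      have := Fintype.card_congr e
      rw [Fintype.card_sum, Fintype.card_fin, Fintype.card_fin] at this
      omega
    set A := B.toBlocks₁₁ with hA
    have hAd : A.det = M i j * M i j := by
      rw [Matrix.det_fin_two]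
      show M i i * M j j - M i j * M j i = _
      rw [hd, hs i j]; ring
    haveI : Invertible A.det := invertibleOfNonzero (hAd ▸ mul_ne_zero hij hij)
    haveI : Invertible A := Matrix.invertibleOfDetInvertible A
    set S := B.toBlocks₂₂ - B.toBlocks₂₁ * ⅟A * B.toBlocks₁₂ with hS
    have hdet2 : M.det = A.det * S.det := by
      rw [← hdet]
      conv_lhs => rw [← Matrix.fromBlocks_toBlocks B]
      exact Matrix.det_fromBlocks₁₁ _ _ _ _
    set a := M i j with ha
    have hinv : ⅟A = !![0, -a⁻¹; a⁻¹, 0] := by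
      refine invOf_eq_right_inv ?_
      rw [show A = !![0, a; -a, 0] by
        ext p r
        fin_cases p <;> fin_cases r
        · exact hd i
        · rfl
        · exact hs i j
        · exact hd j]
      ext p r
      fin_cases p <;> fin_cases r <;> simp [Matrix.mul_apply, Fin.sum_univ_two, hij]
    have hval : ∀ x y : T, S x y =
        M x y - a⁻¹ * (M i x.1 * M j y.1 - M j x.1 * M i y.1) := by
      intro x y
      rw [hS, Matrix.sub_apply, Matrix.mul_apply, Fin.sum_univ_two, Matrix.mul_apply,
        Matrix.mul_apply, Fin.sum_univ_two, Fin.sum_univ_two, hinv]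
      show M x y - ((M x.1 i * 0 + M x.1 j * a⁻¹) * M i y.1 +
        (M x.1 i * -a⁻¹ + M x.1 j * 0) * M j y.1) = _
      rw [hs i x.1, hs j x.1]
      ring
    have hsq := ih _ hlt (S.submatrix e'.symm e'.symm) (fun p r => by
        simp only [Matrix.submatrix_apply, hval]
        rw [hs (e'.symm p).1 (e'.symm r).1]
        ring) (fun p => by
        simp only [Matrix.submatrix_apply, hval]
        rw [hd]
        ring)
    rw [Matrix.det_submatrix_equiv_self] at hsq
    rw [hdet2, hAd]
    exact IsSquare.mul ⟨a, rfl⟩ hsq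

/-- A polynomial which is a square in the fraction field is a square. -/
theorem exists_sqrt_det {F : Type u} [Field F] {σ : Type v} (n : ℕ)
    (M : Matrix (Fin n) (Fin n) (MvPolynomial σ F))
    (hs : ∀ i j, M j i = -M i j) (hd : ∀ i, M i i = 0) : IsSquare M.det := by
  set K := FractionRing (MvPolynomial σ F)
  set f := algebraMap (MvPolynomial σ F) K
  obtain ⟨r, hr⟩ := isSquare_det_alt (F := K) n (f.mapMatrix M)
    (fun i j => by simp [hs i j]) (fun i => by simp [hd i])
  rw [← RingHom.map_det] at hr
  have hint : IsIntegral (MvPolynomial σ F) r :=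
    IsIntegral.of_pow (n := 2) two_pos (by rw [pow_two, ← hr]; exact isIntegral_algebraMap)
  obtain ⟨s, hs'⟩ := IsIntegrallyClosed.isIntegral_iff.1 hint
  exact ⟨s, IsFractionRing.injective (MvPolynomial σ F) K (by rw [map_mul, hs']; exact hr)⟩

variable {p : ℕ} [Fact p.Prime]

/-- Alternating forms all nondegenerate: their space has at most half the dimension. -/
theorem two_mul_finrank_le {V W : Type u} [AddCommGroup V] [AddCommGroup W] [Module (ZMod p) V]
    [Module (ZMod p) W] [Module.Finite (ZMod p) V] [Module.Finite (ZMod p) W] [Nontrivial V]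
    (B : V →ₗ[ZMod p] V →ₗ[ZMod p] W) (halt : ∀ v, B v v = 0)
    (hnd : ∀ l : W →ₗ[ZMod p] ZMod p, l ≠ 0 → ∀ v, v ≠ 0 → ∃ w, l (B v w) ≠ 0) :
    2 * Module.finrank (ZMod p) W ≤ Module.finrank (ZMod p) V := by
  set n := Module.finrank (ZMod p) V
  set s := Module.finrank (ZMod p) W
  by_contra hlt
  push Not at hlt
  let bV := Module.finBasis (ZMod p) V
  let bW := Module.finBasis (ZMod p) W
  let M : Matrix (Fin n) (Fin n) (MvPolynomial (Fin s) (ZMod p)) := fun i j =>
    ∑ k, MvPolynomial.C (bW.repr (B (bV i) (bV j)) k) * MvPolynomial.X k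
  have hskew : ∀ v w, B v w = -B w v := fun v w => by
    have h := halt (v + w)
    simp only [map_add, LinearMap.add_apply, halt, add_zero, zero_add] at h
    exact (neg_eq_of_add_eq_zero_right h).symm
  have hs : ∀ i j, M j i = -M i j := fun i j => by
    simp only [M, hskew (bV j) (bV i), map_neg, Finsupp.coe_neg, Pi.neg_apply, neg_mul,
      Finset.sum_neg_distrib]
  have hd : ∀ i, M i i = 0 := fun i => by simp [M, halt]
  obtain ⟨f, hf⟩ := exists_sqrt_det n M hs hd
  -- the value at a point is the determinant of the corresponding form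
  have heval : ∀ x : Fin s → ZMod p, MvPolynomial.eval x M.det =
      Matrix.det (fun i j => ∑ k, x k * bW.repr (B (bV i) (bV j)) k) := by
    intro x
    rw [RingHom.map_det]
    congr 1
    ext i j
    show MvPolynomial.eval x (M i j) = _
    simp [M, mul_comm]
    rfl
  have hzero : ∀ x, MvPolynomial.eval x f = 0 ↔ x = 0 := by
    intro x
    constructor
    · intro h
      by_contra hx
      let l : W →ₗ[ZMod p] ZMod p := (Fintype.linearCombination (ZMod p) x).comp
        (bW.equivFun.toLinearMap)
      have hl : ∀ w, l w = ∑ k, x k * bW.repr w k := fun w => by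
        simp [l, Fintype.linearCombination_apply, mul_comm]
      have hl0 : l ≠ 0 := by
        obtain ⟨k, hk⟩ := Function.ne_iff.1 hx
        intro h0
        apply hk
        have h2 := LinearMap.congr_fun h0 (bW k)
        rw [hl, LinearMap.zero_apply] at h2
        simpa [Finsupp.single_apply, eq_comm] using h2
      have hdet0 : Matrix.det (fun i j => ∑ k, x k * bW.repr (B (bV i) (bV j)) k) = 0 := by
        rw [← heval, hf, map_mul, h, mul_zero]
      obtain ⟨v, hv, hv0⟩ := Matrix.exists_vecMul_eq_zero_iff.2 hdet0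
      set a := ∑ i, v i • bV i with ha
      have ha0 : a ≠ 0 := fun h0 =>
        hv (funext (Fintype.linearIndependent_iff.1 bV.linearIndependent v h0))
      obtain ⟨w, hw⟩ := hnd l hl0 a ha0
      apply hw
      have hB : l.comp (B a) = 0 := bV.ext fun j => by
        rw [LinearMap.comp_apply, LinearMap.zero_apply]
        have h3 := congrFun hv0 j
        simp only [Matrix.vecMul, dotProduct, Pi.zero_apply] at h3
        rw [← h3, ha, map_sum, LinearMap.sum_apply, map_sum]
        refine Finset.sum_congr rfl fun i _ => ?_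
        rw [map_smul, LinearMap.smul_apply, map_smul, smul_eq_mul, hl]
      exact LinearMap.congr_fun hB w
    · rintro rfl
      have h0 : MvPolynomial.eval (0 : Fin s → ZMod p) M.det = 0 := by
        rw [heval]
        haveI : Nonempty (Fin n) := ⟨⟨0, Module.finrank_pos⟩⟩
        refine (congrArg Matrix.det (Matrix.ext fun i j => ?_)).trans
          (Matrix.det_zero (n := Fin n) (R := ZMod p))
        simp
      rw [hf, map_mul, mul_self_eq_zero] at h0
      exact h0
  have hM : ∀ i j, (M i j).totalDegree ≤ 1 := fun i j =>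
    (MvPolynomial.totalDegree_finset_sum _ _).trans (Finset.sup_le fun k _ =>
      (MvPolynomial.totalDegree_mul _ _).trans (by simp))
  have hdeg : M.det.totalDegree ≤ n := by
    rw [Matrix.det_apply]
    refine (MvPolynomial.totalDegree_finset_sum _ _).trans (Finset.sup_le fun τ _ => ?_)
    rcases Int.units_eq_one_or (Equiv.Perm.sign τ) with h | h <;> rw [h] <;>
      simp only [one_smul, Units.neg_smul, MvPolynomial.totalDegree_neg] <;>
      refine (MvPolynomial.totalDegree_finset_prod _ _).trans
        ((Finset.sum_le_sum fun i _ => hM (τ i) i).trans (by simp))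
  have hfdeg : f.totalDegree < Fintype.card (Fin s) := by
    rw [Fintype.card_fin]
    rcases eq_or_ne f 0 with rfl | hf0
    · rw [MvPolynomial.totalDegree_zero]; omega
    rw [hf, MvPolynomial.totalDegree_mul_of_isDomain hf0 hf0] at hdeg
    omega
  have hdvd := char_dvd_card_solutions p hfdeg
  haveI : Unique {x : Fin s → ZMod p // MvPolynomial.eval x f = 0} :=
    ⟨⟨⟨0, (hzero 0).2 rfl⟩⟩, fun x => Subtype.ext ((hzero _).1 x.2)⟩
  rw [Fintype.card_unique] at hdvd
  exact (Fact.out : p.Prime).one_lt.not_ge (Nat.le_of_dvd one_pos hdvd)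

/-- Additive form of the bound. -/
theorem two_mul_finrank_le' {V W : Type u} [AddCommGroup V] [AddCommGroup W] [Finite V] [Finite W]
    [Nontrivial V] (hV : ∀ v : V, p • v = 0) (hW : ∀ w : W, p • w = 0) (β : V →+ V →+ W)
    (halt : ∀ v, β v v = 0)
    (hnd : ∀ l : W →+ ZMod p, l ≠ 0 → ∀ v, v ≠ 0 → ∃ w, l (β v w) ≠ 0) :
    Nat.card W * Nat.card W ≤ Nat.card V := by
  obtain ⟨instV⟩ : Nonempty (Module (ZMod p) V) := ⟨AddCommGroup.zmodModule hV⟩
  obtain ⟨instW⟩ : Nonempty (Module (ZMod p) W) := ⟨AddCommGroup.zmodModule hW⟩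
  haveI : Module.Finite (ZMod p) V := Module.Finite.of_finite
  haveI : Module.Finite (ZMod p) W := Module.Finite.of_finite
  let B : V →ₗ[ZMod p] V →ₗ[ZMod p] W :=
    LinearMap.mk₂ (ZMod p) (fun a c => β a c) (fun a b c => by simp)
      (fun r a c => ZMod.map_smul (β.flip c) r a) (fun a b c => map_add (β a) b c)
      (fun r a c => ZMod.map_smul (β a) r c)
  have h := two_mul_finrank_le (p := p) B halt fun l hl v hv => hnd l.toAddMonoidHom
    (fun h0 => hl (LinearMap.ext fun w => DFunLike.congr_fun h0 w)) v hv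
  rw [Module.natCard_eq_pow_finrank (K := ZMod p) (V := W),
    Module.natCard_eq_pow_finrank (K := ZMod p) (V := V), ← pow_add, Nat.card_zmod]
  exact Nat.pow_le_pow_right (Fact.out : p.Prime).pos (by omega)

/-- Group form: a commutator-like pairing with all nontrivial characters nondegenerate. -/
theorem card_sq_le {A Z : Type u} [CommGroup A] [CommGroup Z] [Finite A] [Finite Z] [Nontrivial A]
    (hZ : ∀ z : Z, z ^ p = 1) (β : A →* A →* Z) (halt : ∀ a, β a a = 1)
    (hnd : ∀ χ : Z →* ℂˣ, χ ≠ 1 → ∀ a, a ≠ 1 → ∃ b, χ (β a b) ≠ 1) :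
    Nat.card Z * Nat.card Z ≤ Nat.card A := by
  by_cases hZ1 : Nat.card Z = 1
  · rw [hZ1, one_mul]; exact Nat.one_le_iff_ne_zero.2 Nat.card_pos.ne'
  have hA : ∀ a : A, a ^ p = 1 := by
    intro a
    obtain ⟨z, hz⟩ : ∃ z : Z, z ≠ 1 := by
      by_contra h
      push Not at h
      exact hZ1 (Nat.card_eq_one_iff_unique.2 ⟨⟨fun x y => (h x).trans (h y).symm⟩, ⟨1⟩⟩)
    haveI : NeZero (Monoid.exponent Z : ℂ) :=
      ⟨Nat.cast_ne_zero.2 Monoid.exponent_ne_zero_of_finite⟩
    obtain ⟨χ, hχ⟩ := CommGroup.exists_apply_ne_one_of_hasEnoughRootsOfUnity Z ℂ hz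
    by_contra h
    obtain ⟨b, hb⟩ := hnd χ (fun h0 => hχ (by rw [h0, MonoidHom.one_apply])) _ h
    rw [map_pow, MonoidHom.pow_apply, hZ, map_one] at hb
    exact hb rfl
  let β' : Additive A →+ Additive A →+ Additive Z :=
    AddMonoidHom.mk' (fun a => MonoidHom.toAdditive (β a.toMul)) fun a b => AddMonoidHom.ext fun c =>
      congrArg Additive.ofMul (DFunLike.congr_fun (map_mul β a.toMul b.toMul) c.toMul)
  refine two_mul_finrank_le' (p := p) (V := Additive A) (W := Additive Z) (fun x => hA x.toMul)
    (fun x => hZ x.toMul) β' (fun a => congrArg Additive.ofMul (halt a.toMul)) fun l hl a ha => ?_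
  let ψ : Multiplicative (ZMod p) →* ℂˣ := (ZMod.stdAddChar (N := p)).toMonoidHom.toHomUnits
  let χ : Z →* ℂˣ := ψ.comp (AddMonoidHom.toMultiplicativeRight l)
  have hχ1 : ∀ z, χ z = 1 ↔ l (Additive.ofMul z) = 0 := fun z => by
    rw [Units.ext_iff]
    show ZMod.stdAddChar (l (Additive.ofMul z)) = 1 ↔ _
    rw [← AddChar.map_zero_eq_one (ZMod.stdAddChar (N := p))]
    exact ZMod.injective_stdAddChar.eq_iff
  obtain ⟨b, hb⟩ := hnd χ (fun h0 => hl (AddMonoidHom.ext fun z =>
    (hχ1 z.toMul).1 (by rw [h0, MonoidHom.one_apply]))) a.toMul ha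
  exact ⟨Additive.ofMul b, fun h0 => hb ((hχ1 _).2 h0)⟩

end CfsgLib.NoDiv
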