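import Cfsg.Agent.Lib.NoDiv.ClassFour

/-!
# Commutator pairings between the terms of the lower central series
-/

set_option autoImplicit false

open scoped Classical commutatorElement

namespace CfsgLib.NoDiv

universe u v w z

variable (P : Type u) [Group P]

/-- The third term. -/
abbrev g3 : Subgroup P := ⁅commutator P, (⊤ : Subgroup P)⁆

/-- The fourth term. -/
abbrev g4 : Subgroup P := ⁅g3 P, (⊤ : Subgroup P)⁆

/-- The fifth term. -/
abbrev g5 : Subgroup P := ⁅g4 P, (⊤ : Subgroup P)⁆

variable {P}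

theorem three_le {H K L N : Subgroup P} [N.Normal] (h1 : ⁅⁅K, L⁆, H⁆ ≤ N)
    (h2 : ⁅⁅L, H⁆, K⁆ ≤ N) : ⁅⁅H, K⁆, L⁆ ≤ N := by
  have key : ∀ S : Subgroup P, S ≤ N ↔ S.map (QuotientGroup.mk' N) = ⊥ := fun S => by
    rw [Subgroup.map_eq_bot_iff, QuotientGroup.ker_mk']
  rw [key, Subgroup.map_commutator, Subgroup.map_commutator] at h1 h2 ⊢
  exact Subgroup.commutator_commutator_eq_bot_of_rotate h1 h2

theorem g3_le : g3 P ≤ commutator P := Subgroup.commutator_le_left _ _

theorem g4_le : g4 P ≤ g3 P := Subgroup.commutator_le_left _ _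

theorem g5_le : g5 P ≤ g4 P := Subgroup.commutator_le_left _ _

theorem g2g2 : ⁅commutator P, commutator P⁆ ≤ g4 P := by
  have h : ⁅⁅(⊤ : Subgroup P), (⊤ : Subgroup P)⁆, commutator P⁆ ≤ g4 P := by
    refine three_le ?_ le_rfl
    rw [Subgroup.commutator_comm (⊤ : Subgroup P)]
  rwa [← commutator_def] at h

theorem g3g2 : ⁅g3 P, commutator P⁆ ≤ g5 P := by
  have h : ⁅⁅(⊤ : Subgroup P), (⊤ : Subgroup P)⁆, g3 P⁆ ≤ g5 P := by
    refine three_le ?_ le_rfl
    rw [Subgroup.commutator_comm (⊤ : Subgroup P)]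
  rw [← commutator_def] at h
  rwa [Subgroup.commutator_comm]

theorem g3g3 : ⁅g3 P, g3 P⁆ ≤ g5 P :=
  (Subgroup.commutator_mono le_rfl g3_le).trans g3g2

theorem g2g2_le_g3 : ⁅commutator P, commutator P⁆ ≤ g3 P := g2g2.trans g4_le

/-- A normal subgroup of a nilpotent group equal to its commutator with the group is trivial. -/
theorem eq_bot_of_commutator_eq [Group.IsNilpotent P] {H : Subgroup P}
    (h : ⁅H, (⊤ : Subgroup P)⁆ = H) : H = ⊥ := by
  obtain ⟨n, hn⟩ := Subgroup.nilpotent_iff_lowerCentralSeries.1 (inferInstance : Group.IsNilpotent P)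
  have hall : ∀ k, H ≤ (⊤ : Subgroup P).lowerCentralSeries k := fun k => by
    induction k with
    | zero => exact le_top
    | succ k ih =>
      rw [← h]
      exact Subgroup.commutator_mono ih le_rfl
  exact le_bot_iff.1 (hn ▸ hall n)

theorem map_g3 {K : Type v} [Group K] (e : P →* K) (he : Function.Surjective e) :
    (g3 P).map e = g3 K := by
  simp only [g3, commutator_def, Subgroup.map_commutator, Subgroup.map_top_of_surjective e he]

theorem map_g4 {K : Type v} [Group K] (e : P →* K) (he : Function.Surjective e) :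
    (g4 P).map e = g4 K := by
  simp only [g4, Subgroup.map_commutator, map_g3 e he, Subgroup.map_top_of_surjective e he]

theorem map_commutator_top {K : Type v} [Group K] (e : P →* K) (he : Function.Surjective e) :
    (commutator P).map e = commutator K := by
  simp only [commutator_def, Subgroup.map_commutator, Subgroup.map_top_of_surjective e he]

/-- The bimultiplicative map of commutators with values in a central layer. -/
def commBil {X : Type v} {Y : Type w} {Z : Type z} [Group X] [Group Y] [CommGroup Z] (i : X →* P)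
    (j : Y →* P) (C : Subgroup P) [C.Normal] (h : ∀ x y, ⁅i x, j y⁆ ∈ C) (π : C →* Z)
    (hπ : ∀ (g : P) (z : C),
      π ⟨g * z * g⁻¹, (inferInstance : C.Normal).conj_mem z z.2 g⟩ = π z) : X →* Y →* Z :=
  MonoidHom.mk' (fun x => MonoidHom.mk' (fun y => π ⟨⁅i x, j y⁆, h x y⟩) fun y y' => by
    rw [← hπ (j y) ⟨⁅i x, j y'⁆, h x y'⟩, ← map_mul]
    refine congrArg π (Subtype.ext ?_)
    simp only [map_mul, Subgroup.coe_mul, commutatorElement_def, mul_inv_rev]
    group) fun x x' => MonoidHom.ext fun y => by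
    simp only [MonoidHom.mk'_apply, MonoidHom.mul_apply]
    rw [mul_comm, ← hπ (i x) ⟨⁅i x', j y⁆, h x' y⟩, ← map_mul]
    refine congrArg π (Subtype.ext ?_)
    simp only [map_mul, Subgroup.coe_mul, commutatorElement_def, mul_inv_rev]
    group

@[simp] theorem commBil_apply {X : Type v} {Y : Type w} {Z : Type z} [Group X] [Group Y]
    [CommGroup Z] (i : X →* P) (j : Y →* P) (C : Subgroup P) [C.Normal]
    (h : ∀ x y, ⁅i x, j y⁆ ∈ C) (π : C →* Z)
    (hπ : ∀ (g : P) (z : C),
      π ⟨g * z * g⁻¹, (inferInstance : C.Normal).conj_mem z z.2 g⟩ = π z) (x : X) (y : Y) :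
    commBil i j C h π hπ x y = π ⟨⁅i x, j y⁆, h x y⟩ := rfl

/-- A pairing descends to the quotients by subgroups in its kernels. -/
def descend {X : Type v} {Y : Type w} {Z : Type z} [Group X] [Group Y] [CommGroup Z]
    (β : X →* Y →* Z) (A : Subgroup X) [A.Normal] (B : Subgroup Y) [B.Normal]
    (hA : A ≤ β.ker) (hB : ∀ b ∈ B, ∀ x, β x b = 1) : X ⧸ A →* Y ⧸ B →* Z :=
  (QuotientGroup.lift B (QuotientGroup.lift A β hA).flip fun b hb => by
    rw [MonoidHom.mem_ker]
    refine MonoidHom.ext fun a => ?_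
    induction a using QuotientGroup.induction_on with
    | H x => exact hB b hb x).flip

@[simp] theorem descend_mk {X : Type v} {Y : Type w} {Z : Type z} [Group X] [Group Y] [CommGroup Z]
    (β : X →* Y →* Z) (A : Subgroup X) [A.Normal] (B : Subgroup Y) [B.Normal]
    (hA : A ≤ β.ker) (hB : ∀ b ∈ B, ∀ x, β x b = 1) (x : X) (y : Y) :
    descend β A B hA hB (QuotientGroup.mk x) (QuotientGroup.mk y) = β x y := rfl

variable (P)

/-- The second layer. -/
abbrev L2 : Type u := ↥(commutator P) ⧸ (g3 P).subgroupOf (commutator P)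

/-- The third layer. -/
abbrev L3 : Type u := ↥(g3 P) ⧸ (g4 P).subgroupOf (g3 P)

theorem comm_quotient_of_le {H K : Subgroup P} [(K.subgroupOf H).Normal] (h : ⁅H, H⁆ ≤ K)
    (a b : ↥H ⧸ K.subgroupOf H) : a * b = b * a := by
  induction a using QuotientGroup.induction_on with
  | H x => induction b using QuotientGroup.induction_on with
    | H y =>
      rw [← QuotientGroup.mk_mul, ← QuotientGroup.mk_mul, QuotientGroup.eq, Subgroup.mem_subgroupOf]
      have := h (Subgroup.commutator_mem_commutator (inv_mem y.2) (inv_mem x.2))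
      simpa [commutatorElement_def, mul_assoc] using this

instance instCommGroupL2 : CommGroup (L2 P) :=
  { (inferInstance : Group (L2 P)) with mul_comm := comm_quotient_of_le P g2g2_le_g3 }

instance instCommGroupL3 : CommGroup (L3 P) :=
  { (inferInstance : Group (L3 P)) with mul_comm := comm_quotient_of_le P (g3g3.trans g5_le) }

variable {P}

/-- The class in the second layer. -/
abbrev cl2 : ↥(commutator P) →* L2 P := QuotientGroup.mk' _

/-- The class in the third layer. -/
abbrev cl3 : ↥(g3 P) →* L3 P := QuotientGroup.mk' _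

theorem cl2_eq_one {z : ↥(commutator P)} : cl2 z = 1 ↔ (z : P) ∈ g3 P :=
  QuotientGroup.eq_one_iff z

theorem cl3_eq_one {z : ↥(g3 P)} : cl3 z = 1 ↔ (z : P) ∈ g4 P := QuotientGroup.eq_one_iff z

theorem mem_g3_of_comm {x y : P} (hx : x ∈ commutator P) : ⁅x, y⁆ ∈ g3 P :=
  Subgroup.commutator_mem_commutator hx (Subgroup.mem_top y)

theorem cl2_conj (g : P) (z : ↥(commutator P)) :
    cl2 ⟨g * z * g⁻¹, (inferInstance : (commutator P).Normal).conj_mem z z.2 g⟩ = cl2 z := by
  rw [← div_eq_one, ← map_div, cl2_eq_one]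
  have h := inv_mem (mem_g3_of_comm (y := g) z.2)
  simpa [commutatorElement_def, div_eq_mul_inv, mul_assoc] using h

theorem cl3_conj (g : P) (z : ↥(g3 P)) :
    cl3 ⟨g * z * g⁻¹, (inferInstance : (g3 P).Normal).conj_mem z z.2 g⟩ = cl3 z := by
  rw [← div_eq_one, ← map_div, cl3_eq_one]
  have h := inv_mem (Subgroup.commutator_mem_commutator z.2 (Subgroup.mem_top g) : ⁅(z : P), g⁆ ∈ g4 P)
  simpa [commutatorElement_def, div_eq_mul_inv, mul_assoc] using h

variable (P)

/-- The pairing of the first layer into the second. -/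
def c2 : Abelianization P →* Abelianization P →* L2 P :=
  descend (commBil (MonoidHom.id P) (MonoidHom.id P) (commutator P)
      (fun x y => Subgroup.commutator_mem_commutator (Subgroup.mem_top x) (Subgroup.mem_top y))
      cl2 cl2_conj) (commutator P) (commutator P)
    (fun a ha => MonoidHom.ext fun y => cl2_eq_one.2 (mem_g3_of_comm ha))
    (fun b hb x => cl2_eq_one.2 (by
      rw [show g3 P = ⁅(⊤ : Subgroup P), commutator P⁆ from Subgroup.commutator_comm _ _]
      exact Subgroup.commutator_mem_commutator (Subgroup.mem_top x) hb))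

/-- The pairing of the second and first layers into the third. -/
def c3 : L2 P →* Abelianization P →* L3 P :=
  descend (commBil (commutator P).subtype (MonoidHom.id P) (g3 P)
      (fun x y => mem_g3_of_comm x.2) cl3 cl3_conj) ((g3 P).subgroupOf (commutator P)) (commutator P)
    (fun a ha => MonoidHom.ext fun y => cl3_eq_one.2
      (Subgroup.commutator_mem_commutator ha (Subgroup.mem_top y)))
    (fun b hb x => cl3_eq_one.2 (g2g2 (Subgroup.commutator_mem_commutator x.2 hb)))

variable {P}

theorem c2_apply (x y : P) :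
    c2 P (Abelianization.of x) (Abelianization.of y) =
      cl2 ⟨⁅x, y⁆, Subgroup.commutator_mem_commutator (Subgroup.mem_top x) (Subgroup.mem_top y)⟩ :=
  rfl

theorem c3_apply (u : ↥(commutator P)) (y : P) :
    c3 P (cl2 u) (Abelianization.of y) = cl3 ⟨⁅(u : P), y⁆, mem_g3_of_comm u.2⟩ := rfl

theorem of_surj (a : Abelianization P) : ∃ x : P, Abelianization.of x = a :=
  QuotientGroup.mk_surjective a

theorem c2_self (a : Abelianization P) : c2 P a a = 1 := by
  obtain ⟨x, rfl⟩ := of_surj a
  rw [c2_apply, cl2_eq_one]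
  simp

theorem c2_skew (a b : Abelianization P) : c2 P b a = (c2 P a b)⁻¹ := by
  have h := c2_self (a * b)
  simp only [map_mul, MonoidHom.mul_apply, c2_self, one_mul, mul_one] at h
  exact eq_inv_of_mul_eq_one_left h

theorem of_conj (y z : P) : Abelianization.of (y * z * y⁻¹) = Abelianization.of z := by
  rw [map_mul, map_mul, map_inv, mul_inv_cancel_comm]

theorem hallWitt (x y z : P) :
    ⁅⁅x, y⁆, y * z * y⁻¹⁆ * ⁅⁅y, z⁆, z * x * z⁻¹⁆ * ⁅⁅z, x⁆, x * y * x⁻¹⁆ = 1 := by
  simp only [commutatorElement_def]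
  group

/-- The Jacobi identity in the third layer. -/
theorem jacobi (a b d : Abelianization P) :
    c3 P (c2 P a b) d * c3 P (c2 P b d) a * c3 P (c2 P d a) b = 1 := by
  obtain ⟨x, rfl⟩ := of_surj a
  obtain ⟨y, rfl⟩ := of_surj b
  obtain ⟨z, rfl⟩ := of_surj d
  simp only [c2_apply]
  rw [← of_conj y z, ← of_conj z x, ← of_conj x y, c3_apply, c3_apply, c3_apply, ← map_mul,
    ← map_mul, cl3_eq_one]
  simp only [Subgroup.coe_mul, of_conj, hallWitt]
  exact one_mem _

end CfsgLib.NoDiv
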