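import Cfsg.Agent.Lib.NoDiv.Camina

/-!
# Camina groups with an automorphism have class at most three
-/

set_option autoImplicit false
set_option maxHeartbeats 1000000

open scoped Classical commutatorElement
open CfsgLib

namespace CfsgLib.NoDiv

universe u

variable {P : Type u} [Group P]

/-- A functional on the fourth term killing the fifth. -/
structure Fn (φ : ↥(g4 P) →* ℂˣ) : Prop where
  five : ∀ z : g4 P, (z : P) ∈ g5 P → φ z = 1

namespace Fn

variable {φ : ↥(g4 P) →* ℂˣ} (hφ : Fn φ)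
include hφ

theorem conj (g : P) (z : g4 P) :
    φ ⟨g * z * g⁻¹, (inferInstance : (g4 P).Normal).conj_mem z z.2 g⟩ = φ z := by
  rw [← div_eq_one, ← map_div]
  refine hφ.five _ ?_
  have h := inv_mem (Subgroup.commutator_mem_commutator z.2 (Subgroup.mem_top g) : ⁅(z : P), g⁆ ∈ g5 P)
  simpa [commutatorElement_def, div_eq_mul_inv, mul_assoc] using h

/-- The pairing on the second layer. -/
def om : L2 P →* L2 P →* ℂˣ :=
  descend (commBil (commutator P).subtype (commutator P).subtype (g4 P)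
      (fun x y => g2g2 (Subgroup.commutator_mem_commutator x.2 y.2)) φ hφ.conj)
    ((g3 P).subgroupOf (commutator P)) ((g3 P).subgroupOf (commutator P))
    (fun a ha => MonoidHom.ext fun y => hφ.five _
      (g3g2 (Subgroup.commutator_mem_commutator ha y.2)))
    (fun b hb x => hφ.five _ (g3g2 (by
      rw [Subgroup.commutator_comm]
      exact Subgroup.commutator_mem_commutator x.2 (Subgroup.mem_subgroupOf.1 hb))))

theorem om_apply (u v : ↥(commutator P)) :
    hφ.om (cl2 u) (cl2 v) =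
      φ ⟨⁅(u : P), v⁆, g2g2 (Subgroup.commutator_mem_commutator u.2 v.2)⟩ := rfl

/-- The pairing of the third and first layers. -/
def th3 : L3 P →* Abelianization P →* ℂˣ :=
  descend (commBil (g3 P).subtype (MonoidHom.id P) (g4 P)
      (fun x y => Subgroup.commutator_mem_commutator x.2 (Subgroup.mem_top y)) φ hφ.conj)
    ((g4 P).subgroupOf (g3 P)) (commutator P)
    (fun a ha => MonoidHom.ext fun y => hφ.five _
      (Subgroup.commutator_mem_commutator ha (Subgroup.mem_top y)))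
    (fun b hb x => hφ.five _ (g3g2 (Subgroup.commutator_mem_commutator x.2 hb)))

theorem th3_apply (z : g3 P) (y : P) :
    hφ.th3 (cl3 z) (Abelianization.of y) =
      φ ⟨⁅(z : P), y⁆, Subgroup.commutator_mem_commutator z.2 (Subgroup.mem_top y)⟩ := rfl

/-- Invariance of the pairing under an automorphism fixing the functional. -/
theorem inv_five (t : MulAut P) (z : g4 P) (hz : (z : P) ∈ g5 P) :
    φ ⟨t z, mem_g4_map t z.2⟩ = 1 := hφ.five _ (by
  have h := Subgroup.mem_map_of_mem t.toMonoidHom hz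
  rw [g5, Subgroup.map_commutator, map_g4 t.toMonoidHom t.surjective,
    Subgroup.map_top_of_surjective t.toMonoidHom t.surjective] at h
  exact h)

/-- The functional composed with an automorphism. -/
theorem comp (t : MulAut P) :
    Fn (φ.comp ((t.toMonoidHom.comp (g4 P).subtype).codRestrict (g4 P)
      fun z => mem_g4_map t z.2)) :=
  ⟨fun z hz => hφ.inv_five t z hz⟩

theorem om_skew (u v : L2 P) : hφ.om v u = (hφ.om u v)⁻¹ := by
  obtain ⟨u, rfl⟩ := QuotientGroup.mk_surjective u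
  obtain ⟨v, rfl⟩ := QuotientGroup.mk_surjective v
  show hφ.om (cl2 v) (cl2 u) = (hφ.om (cl2 u) (cl2 v))⁻¹
  rw [hφ.om_apply, hφ.om_apply, ← map_inv]
  exact congrArg φ (Subtype.ext (commutatorElement_inv _ _).symm)

/-- The Jacobi identity in the fourth term. -/
theorem J4 (w : L2 P) (a b : Abelianization P) :
    hφ.th3 (c3 P w a) b = hφ.th3 (c3 P w b) a * hφ.om w (c2 P a b) := by
  obtain ⟨x, rfl⟩ := of_surj a
  obtain ⟨y, rfl⟩ := of_surj b
  obtain ⟨v, rfl⟩ := QuotientGroup.mk_surjective w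
  have h1 : hφ.th3 (c3 P (cl2 v) (Abelianization.of x)) (Abelianization.of (x * y * x⁻¹)) *
      hφ.om (c2 P (Abelianization.of x) (Abelianization.of y))
        (cl2 ⟨y * v * y⁻¹, (inferInstance : (commutator P).Normal).conj_mem v v.2 y⟩) *
      hφ.th3 (c3 P (cl2 v) (Abelianization.of y))⁻¹ (Abelianization.of (v * x * (v : P)⁻¹)) = 1 := by
    rw [c2_apply, c3_apply, c3_apply, ← map_inv, hφ.th3_apply, hφ.th3_apply, hφ.om_apply,
      ← map_mul, ← map_mul]
    refine (congrArg φ (Subtype.ext ?_)).trans (map_one φ)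
    simp only [Subgroup.coe_mul, Subgroup.coe_inv, Subgroup.coe_one, commutatorElement_inv]
    exact hallWitt (v : P) x y
  rw [of_conj, of_conj, cl2_conj, map_inv, MonoidHom.inv_apply, mul_inv_eq_one] at h1
  show hφ.th3 (c3 P (cl2 v) _) _ = hφ.th3 (c3 P (cl2 v) _) _ * hφ.om (cl2 v) _
  rw [hφ.om_skew (c2 P _ _) (cl2 v), ← h1, mul_inv_cancel_right]

end Fn

theorem fn_prod {ι : Type*} (s : Finset ι) (φ : ι → (↥(g4 P) →* ℂˣ)) (h : ∀ i ∈ s, Fn (φ i)) :
    Fn (∏ i ∈ s, φ i) :=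
  ⟨fun z hz => by
    rw [MonoidHom.finsetProd_apply]
    exact Finset.prod_eq_one fun i hi => (h i hi).five z hz⟩

/-- A chosen representative. -/
noncomputable def sec (a : Abelianization P) : P := Classical.choose (of_surj a)

theorem of_sec (a : Abelianization P) : Abelianization.of (sec a) = a :=
  Classical.choose_spec (of_surj a)

theorem mem_g3_of_c2 {a b : Abelianization P} (h : c2 P a b = 1) {x y : P}
    (hx : Abelianization.of x = a) (hy : Abelianization.of y = b) : ⁅x, y⁆ ∈ g3 P := by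
  subst hx hy
  rw [c2_apply, cl2_eq_one] at h
  exact h

theorem cl3_mul_right {x a b : P} (ha : ⁅x, a⁆ ∈ g3 P) (hb : ⁅x, b⁆ ∈ g3 P)
    (hab : ⁅x, a * b⁆ ∈ g3 P) :
    cl3 ⟨⁅x, a * b⁆, hab⟩ = cl3 ⟨⁅x, a⁆, ha⟩ * cl3 ⟨⁅x, b⁆, hb⟩ := by
  rw [← cl3_conj a ⟨⁅x, b⁆, hb⟩, ← map_mul]
  refine congrArg cl3 (Subtype.ext ?_)
  simp only [Subgroup.coe_mul, commutatorElement_def]
  group

theorem cl3_right_comm (x : P) (w : ↥(commutator P)) (h : ⁅x, (w : P)⁆ ∈ g3 P) :
    cl3 ⟨⁅x, (w : P)⁆, h⟩ = c3 P (cl2 w)⁻¹ (Abelianization.of x) := by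
  rw [map_inv, MonoidHom.inv_apply, c3_apply, ← map_inv]
  exact congrArg cl3 (Subtype.ext (commutatorElement_inv (w : P) x).symm)

/-- Extension of a functional along a homomorphism to a finite abelian group. -/
theorem exists_ext_hom {G A : Type u} [Group G] [CommGroup A] [Finite A] (ι : G →* A)
    (φ : G →* ℂˣ) (h : ι.ker ≤ φ.ker) : ∃ Ψ : A →* ℂˣ, ∀ g, Ψ (ι g) = φ g := by
  haveI : NeZero (Monoid.exponent A : ℂ) :=
    ⟨Nat.cast_ne_zero.2 Monoid.exponent_ne_zero_of_finite⟩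
  obtain ⟨Ψ, hΨ⟩ := MonoidHom.domRestrict_surjective ℂ ι.range
    (MonoidHom.liftOfSurjective ι.rangeRestrict ι.rangeRestrict_surjective
      ⟨φ, fun g hg => h (MonoidHom.mem_ker.2 (congrArg Subtype.val (MonoidHom.mem_ker.1 hg)))⟩)
  refine ⟨Ψ, fun g => ?_⟩
  have h2 := DFunLike.congr_fun hΨ (ι.rangeRestrict g)
  rw [MonoidHom.liftOfRightInverse_comp_apply] at h2
  exact h2

namespace Cam

variable [Finite P] {q : ℕ} {σ : MulAut P} {f : ℕ} (hC : Cam q σ f)
include hC

theorem g4_lt (h : g4 P ≠ ⊥) : g4 P ≠ g3 P ∧ g5 P ≠ g4 P := by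
  haveI := hC.nilpotent
  exact ⟨fun he => h (he.trans (eq_bot_of_commutator_eq he)),
    fun he => h (eq_bot_of_commutator_eq he)⟩

/-- A functional on the fourth term has a pairing with a kernel. -/
theorem exists_kernel {φ : ↥(g4 P) →* ℂˣ} (hφ : Fn φ) (hne : φ ≠ 1) :
    ∃ a : Abelianization P, a ≠ 1 ∧ ∀ v, hφ.th3 v a = 1 := by
  by_contra hcon
  push Not at hcon
  have hinj : Function.Injective hφ.th3.flip := by
    rw [injective_iff_map_eq_one]
    intro a ha
    by_contra h1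
    obtain ⟨v, hv⟩ := hcon a h1
    exact hv (DFunLike.congr_fun ha v)
  haveI : Finite (L3 P →* ℂˣ) := by infer_instance
  have h1 := Nat.card_le_card_of_injective _ hinj
  rw [Four.card_hom] at h1
  -- the centraliser count
  obtain ⟨a, ha⟩ := hC.exists_ne_one
  obtain ⟨x, rfl⟩ := of_surj a
  have hx := hC.of_ne_one ha rfl
  let K : Subgroup P := φ.ker.map (g4 P).subtype
  haveI : K.Normal := ⟨by
    rintro _ ⟨z, hz, rfl⟩ g
    exact ⟨⟨g * z * g⁻¹, (inferInstance : (g4 P).Normal).conj_mem z z.2 g⟩,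
      MonoidHom.mem_ker.2 ((hφ.conj g z).trans (MonoidHom.mem_ker.1 hz)), rfl⟩⟩
  let π := QuotientGroup.mk' K
  let C : Subgroup P := (Subgroup.centralizer {π x}).comap π
  have hmemC : ∀ z, z ∈ C ↔ π ⁅z, x⁆ = 1 := fun z => by
    rw [Subgroup.mem_comap, Subgroup.mem_centralizer_singleton_iff, map_commutatorElement,
      commutatorElement_eq_one_iff_mul_comm]
  have hK4 : K ≤ g4 P := Subgroup.map_subtype_le _
  have hK2 : K ≤ commutator P := hK4.trans (g4_le.trans g3_le)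
  -- index
  have hidx : K.relIndex (commutator P) ≤ C.index := by
    choose y hy using fun g : ↥(commutator P) => hC.camina hx g.2
    rw [Subgroup.relIndex, Subgroup.index_eq_card, Subgroup.index_eq_card]
    refine Nat.card_le_card_of_injective
      (fun r : ↥(commutator P) ⧸ K.subgroupOf (commutator P) => (QuotientGroup.mk (y r.out) : P ⧸ C))
      fun r r' h => ?_
    rw [← QuotientGroup.out_eq' r, ← QuotientGroup.out_eq' r', QuotientGroup.eq,
      Subgroup.mem_subgroupOf, ← QuotientGroup.eq_one_iff, ← QuotientGroup.mk'_apply,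
      Subgroup.coe_mul, Subgroup.coe_inv, map_mul, map_inv, inv_mul_eq_one, ← hy r.out, ← hy r'.out,
      map_commutatorElement, map_commutatorElement]
    have hmem := (hmemC _).1 (QuotientGroup.eq.1 h)
    rw [map_commutatorElement, map_mul, map_inv, commutatorElement_eq_one_iff_mul_comm] at hmem
    rw [commutatorElement_def, commutatorElement_def]
    have h2 : Commute ((π (y r.out))⁻¹ * π (y r'.out)) (π x) := hmem
    calc π x * π (y r.out) * (π x)⁻¹ * (π (y r.out))⁻¹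
        = π x * π (y r.out) * ((π (y r.out))⁻¹ * π (y r'.out) * (π x)⁻¹ *
            ((π (y r.out))⁻¹ * π (y r'.out))⁻¹) * (π (y r.out))⁻¹ := by
          rw [h2.inv_right.eq, mul_inv_cancel_right]
      _ = π x * π (y r'.out) * (π x)⁻¹ * (π (y r'.out))⁻¹ := by group
  -- the part inside the third term
  let h3 : ↥(g3 P) →* ℂˣ := (hφ.th3.flip (Abelianization.of x)).comp cl3
  have hker : h3.ker.map (g3 P).subtype ≤ C := by
    rintro _ ⟨z, hz, rfl⟩
    rw [hmemC]
    exact (QuotientGroup.eq_one_iff _).2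
      ⟨⟨⁅(z : P), x⁆, Subgroup.commutator_mem_commutator z.2 (Subgroup.mem_top x)⟩,
        MonoidHom.mem_ker.2 ((hφ.th3_apply z x).symm.trans (MonoidHom.mem_ker.1 hz)), rfl⟩
  have hlt : Nat.card (h3.ker.map (g3 P).subtype) < Nat.card C := by
    refine lt_of_le_of_ne (Subgroup.card_le_of_le hker) fun he => hx ?_
    have hxC : x ∈ C := (hmemC x).2 (by rw [commutatorElement_self, map_one])
    rw [← Subgroup.eq_of_le_of_card_ge hker he.ge] at hxC
    exact g3_le (Subgroup.map_subtype_le _ hxC)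
  rw [Subgroup.card_map_of_injective (g3 P).subtype_injective] at hlt
  have e1 := C.card_mul_index
  have e2 : Nat.card (Abelianization P) * Nat.card ↥(commutator P) = Nat.card P :=
    (Subgroup.card_eq_card_quotient_mul_card_subgroup (commutator P)).symm
  have e3 : Nat.card K * K.relIndex (commutator P) = Nat.card ↥(commutator P) := by
    rw [Subgroup.relIndex, ← Nat.card_congr (Subgroup.subgroupOfEquivOfLe hK2).toEquiv]
    exact Subgroup.card_mul_index _
  have e4 : Nat.card h3.ker * Nat.card h3.range = Nat.card ↥(g3 P) := by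
    rw [← Subgroup.index_ker]
    exact Subgroup.card_mul_index _
  have e5 : Nat.card (L3 P) * Nat.card ↥(g4 P) = Nat.card ↥(g3 P) := by
    rw [← Nat.card_congr (Subgroup.subgroupOfEquivOfLe (g4_le (P := P))).toEquiv]
    exact (Subgroup.card_eq_card_quotient_mul_card_subgroup _).symm
  have e6 : Nat.card K * Nat.card φ.range = Nat.card ↥(g4 P) := by
    rw [Subgroup.card_map_of_injective (g4 P).subtype_injective, ← Subgroup.index_ker]
    exact Subgroup.card_mul_index _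
  have e7 : Nat.card h3.range ≤ Nat.card φ.range := by
    haveI : Finite φ.range := Finite.of_surjective _ φ.rangeRestrict_surjective
    refine Subgroup.card_le_of_le ?_
    rintro _ ⟨z, rfl⟩
    exact ⟨⟨⁅(z : P), x⁆, Subgroup.commutator_mem_commutator z.2 (Subgroup.mem_top x)⟩,
      (hφ.th3_apply z x).symm⟩
  have hC1 : Nat.card C ≤ Nat.card (Abelianization P) * Nat.card K := by
    refine Nat.le_of_mul_le_mul_right (?_ : _ * C.index ≤ _ * C.index)
      (Nat.pos_of_ne_zero Subgroup.index_ne_zero_of_finite)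
    rw [e1, ← e2, ← e3, mul_assoc]
    exact Nat.mul_le_mul_left _ (Nat.mul_le_mul_left _ hidx)
  have hC2 : Nat.card (L3 P) * Nat.card K ≤ Nat.card h3.ker := by
    haveI : Finite φ.range := Finite.of_surjective _ φ.rangeRestrict_surjective
    refine Nat.le_of_mul_le_mul_right (?_ : _ * Nat.card φ.range ≤ _ * Nat.card φ.range) Nat.card_pos
    rw [mul_assoc, e6, e5, ← e4]
    exact Nat.mul_le_mul_left _ e7
  exact absurd ((hC2.trans_lt hlt).trans_le hC1)
    (not_lt.2 (Nat.mul_le_mul_right _ h1))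

/-- An invariant extension of an invariant functional to the third term. -/
theorem exists_invariant_ext {φ : ↥(g4 P) →* ℂˣ} (hφ : Fn φ) (t : MulAut P) (ht : t ^ f = 1)
    (hinv : ∀ z : g4 P, φ ⟨t z, mem_g4_map t z.2⟩ = φ z) :
    ∃ φ' : ↥(g3 P) →* ℂˣ, (∀ (z : g4 P), φ' ⟨z, g4_le z.2⟩ = φ z) ∧
      ∀ z : g3 P, φ' ⟨t z, mem_g3_map t z.2⟩ = φ' z := by
  haveI : Fact q.Prime := ⟨hC.prime⟩
  -- a root of `φ`
  obtain ⟨r, hr⟩ : ∃ r : ℕ, (φ ^ f) ^ r = φ := by
    refine exists_pow_eq_self_of_coprime (G := ↥(g4 P) →* ℂˣ) ?_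
    obtain ⟨k, hk⟩ := IsPGroup.iff_card.1 (hC.pgroup.to_subgroup (g4 P))
    refine Nat.Coprime.coprime_dvd_right (orderOf_dvd_of_pow_eq_one (n := q ^ k) ?_)
      ((hC.prime.coprime_iff_not_dvd.2 hC.not_dvd).symm.pow_right k)
    ext z
    rw [MonoidHom.pow_apply, ← map_pow, ← hk, pow_card_eq_one', map_one, MonoidHom.one_apply]
  have hψ : Fn (φ ^ r) := ⟨fun z hz => by rw [MonoidHom.pow_apply, hφ.five z hz, one_pow]⟩
  -- an extension
  letI : CommGroup (↥(g3 P) ⧸ (g5 P).subgroupOf (g3 P)) :=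
    { (inferInstance : Group _) with mul_comm := comm_quotient_of_le P g3g3 }
  let ι : ↥(g4 P) →* ↥(g3 P) ⧸ (g5 P).subgroupOf (g3 P) :=
    (QuotientGroup.mk' _).comp (Subgroup.inclusion g4_le)
  obtain ⟨Ψ, hΨ⟩ := exists_ext_hom ι (φ ^ r) fun z hz => by
    rw [MonoidHom.mem_ker] at hz
    simp only [ι, MonoidHom.coe_comp, Function.comp_apply, QuotientGroup.mk'_apply,
      QuotientGroup.eq_one_iff, Subgroup.mem_subgroupOf, Subgroup.coe_inclusion] at hz
    exact MonoidHom.mem_ker.2 (hψ.five z hz)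
  let θ : ↥(g3 P) →* ℂˣ := Ψ.comp (QuotientGroup.mk' _)
  have hθ : ∀ z : g4 P, θ ⟨z, g4_le z.2⟩ = (φ ^ r) z := fun z => hΨ z
  let S : ℕ → (↥(g3 P) →* ↥(g3 P)) := fun i =>
    ((t ^ i).toMonoidHom.comp (g3 P).subtype).codRestrict (g3 P) fun z => mem_g3_map (t ^ i) z.2
  have hinvi : ∀ (i : ℕ) (z : g4 P), φ ⟨(t ^ i) z, mem_g4_map (t ^ i) z.2⟩ = φ z := by
    intro i
    induction i with
    | zero => intro z; exact congrArg φ (Subtype.ext rfl)
    | succ i ih =>
      intro z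
      refine Eq.trans ?_ ((hinv ⟨(t ^ i) z, mem_g4_map (t ^ i) z.2⟩).trans (ih z))
      exact congrArg φ (Subtype.ext (show (t ^ (i + 1)) (z : P) = t ((t ^ i) z) by
        rw [pow_succ', MulAut.mul_apply]))
  refine ⟨∏ i ∈ Finset.range f, θ.comp (S i), fun z => ?_, fun z => ?_⟩
  · rw [MonoidHom.finsetProd_apply, Finset.prod_congr rfl fun i _ =>
      (show θ.comp (S i) ⟨z, g4_le z.2⟩ = (φ ^ r) z from
        (hθ ⟨(t ^ i) z, mem_g4_map (t ^ i) z.2⟩).trans (by
          rw [MonoidHom.pow_apply, MonoidHom.pow_apply, hinvi])), Finset.prod_const,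
      Finset.card_range]
    rw [← MonoidHom.pow_apply, ← pow_mul, mul_comm, pow_mul, hr]
  · rw [MonoidHom.finsetProd_apply, MonoidHom.finsetProd_apply]
    let a : ℕ → ℂˣ := fun i => θ.comp (S i) z
    have hstep : ∀ i, θ.comp (S i) ⟨t z, mem_g3_map t z.2⟩ = a (i + 1) := fun i =>
      congrArg θ (Subtype.ext (show (t ^ i) (t z) = (t ^ (i + 1)) z by
        rw [pow_succ, MulAut.mul_apply]))
    rw [Finset.prod_congr rfl fun i _ => hstep i]
    have haf : a f = a 0 := congrArg θ (Subtype.ext (show (t ^ f) (z : P) = (t ^ 0) z by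
      rw [ht, pow_zero]))
    refine mul_right_cancel (b := a 0) ?_
    show _ = (∏ i ∈ Finset.range f, a i) * a 0
    conv_rhs => rw [← haf]
    rw [← Finset.prod_range_succ, Finset.prod_range_succ']

/-- The mixed term of the Hall–Witt identity vanishes. -/
theorem mixed {m : ℕ} (hm : ¬ f ∣ m) (h2 : ∀ x ∈ commutator P, (σ ^ m) x * x⁻¹ ∈ g3 P)
    {φ : ↥(g4 P) →* ℂˣ} (hφ : Fn φ) (φ' : ↥(g3 P) →* ℂˣ)
    (hext : ∀ (z : g4 P), φ' ⟨z, g4_le z.2⟩ = φ z)
    (hinv' : ∀ z : g3 P, φ' ⟨(σ ^ m) z, mem_g3_map _ z.2⟩ = φ' z)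
    (u : ↥(commutator P)) (hu : ∀ v, hφ.om (cl2 u) v = 1)
    (b : P) (hb : ∀ v, hφ.th3 v (Abelianization.of b) = 1) :
    φ' ⟨⁅(u : P), b⁆, mem_g3_of_comm u.2⟩ = 1 := by
  set t := σ ^ m with htdef
  have hinv : ∀ z : g4 P, φ ⟨t z, mem_g4_map t z.2⟩ = φ z := fun z => by
    rw [← hext, ← hext]
    exact hinv' ⟨z, g4_le z.2⟩
  have hmul : ∀ (u : ↥(commutator P)) (a d : P), (∀ v, hφ.th3 v (Abelianization.of a) = 1) →
      φ' ⟨⁅(u : P), a * d⁆, mem_g3_of_comm u.2⟩ =
        φ' ⟨⁅(u : P), a⁆, mem_g3_of_comm u.2⟩ * φ' ⟨⁅(u : P), d⁆, mem_g3_of_comm u.2⟩ := by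
    intro u a d ha
    set z : g3 P := ⟨⁅(u : P), d⁆, mem_g3_of_comm u.2⟩ with hz
    have h := ha (cl3 z⁻¹)
    rw [hφ.th3_apply, ← hext] at h
    have e : (⟨⁅(u : P), a * d⁆, mem_g3_of_comm u.2⟩ : g3 P) =
        ⟨⁅(u : P), a⁆, mem_g3_of_comm u.2⟩ *
          (z * ⟨⁅((z⁻¹ : g3 P) : P), a⁆, g4_le (Subgroup.commutator_mem_commutator (z⁻¹).2
            (Subgroup.mem_top a))⟩) := by
      refine Subtype.ext ?_
      simp only [hz, Subgroup.coe_mul, Subgroup.coe_inv, commutatorElement_def]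
      group
    rw [e, map_mul, map_mul, h, mul_one]
  let R' : Subgroup (Abelianization P) := hφ.th3.flip.ker
  have hR' : ∀ a, a ∈ R' ↔ ∀ v, hφ.th3 v a = 1 := fun a => by
    rw [MonoidHom.mem_ker]
    exact ⟨fun h v => DFunLike.congr_fun h v, fun h => MonoidHom.ext h⟩
  have hTR : ∀ y : P, Abelianization.of y ∈ R' → Abelianization.of (t y) ∈ R' := by
    intro y hy
    rw [hR'] at hy ⊢
    intro v
    obtain ⟨z, rfl⟩ := QuotientGroup.mk_surjective v
    have hz : t.symm (z : P) ∈ g3 P := mem_g3_map t.symm z.2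
    rw [show (QuotientGroup.mk z : L3 P) = cl3 z from rfl, hφ.th3_apply, ← hy (cl3 ⟨_, hz⟩),
      hφ.th3_apply]
    refine Eq.trans ?_ (hinv _)
    refine congrArg φ (Subtype.ext ?_)
    show ⁅(z : P), t y⁆ = t ⁅t.symm (z : P), y⁆
    rw [show t ⁅t.symm (z : P), y⁆ = ⁅t (t.symm (z : P)), t y⁆ from
      map_commutatorElement t.toMonoidHom _ _, MulEquiv.apply_symm_apply]
  let T : R' →* R' := ((Abelianization.map t.toMonoidHom).comp R'.subtype).codRestrict R' fun a => by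
    obtain ⟨y, hy⟩ := of_surj (a : Abelianization P)
    show Abelianization.map t.toMonoidHom (a : Abelianization P) ∈ R'
    rw [← hy]
    exact hTR y (hy ▸ a.2)
  letI : CommGroup R' := Subgroup.toCommGroup R'
  obtain ⟨⟨a', ha'⟩, hT⟩ := surjective_div T (fun a ha => by
    obtain ⟨y, hy⟩ := of_surj (a : Abelianization P)
    refine Subtype.ext (hy ▸ (QuotientGroup.eq_one_iff y).2 (hC.fpf m hm y ?_))
    refine (QuotientGroup.eq_one_iff _).1 ?_
    show Abelianization.of (t y * y⁻¹) = 1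
    rw [map_mul, map_inv, mul_inv_eq_one]
    have h := congrArg Subtype.val ha
    exact (congrArg (Abelianization.map t.toMonoidHom) hy).trans (h.trans hy.symm))
    ⟨Abelianization.of b, (hR' _).2 hb⟩
  obtain ⟨y, rfl⟩ := of_surj a'
  have hy : ∀ v, hφ.th3 v (Abelianization.of y) = 1 := (hR' _).1 ha'
  have hd : ∀ v, hφ.th3 v (Abelianization.of (t y * y⁻¹)) = 1 := by
    refine (hR' _).1 ?_
    rw [map_mul, map_inv]
    exact mul_mem (hTR y ha') (inv_mem ha')
  have hv : (t y * y⁻¹)⁻¹ * b ∈ commutator P := by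
    refine (QuotientGroup.eq_one_iff _).1 ?_
    show Abelianization.of _ = 1
    rw [map_mul, map_inv, inv_mul_eq_one, map_mul, map_inv, ← div_eq_mul_inv]
    exact congrArg Subtype.val hT
  rw [show b = t y * y⁻¹ * ((t y * y⁻¹)⁻¹ * b) by group] at *
  rw [hmul u _ _ hd]
  have hu2 : φ' ⟨⁅(u : P), (t y * y⁻¹)⁻¹ * b⁆, mem_g3_of_comm u.2⟩ = 1 := by
    have h := hu (cl2 ⟨_, hv⟩)
    rw [hφ.om_apply, ← hext] at h
    convert h using 3
    group
  rw [show (t y * y⁻¹)⁻¹ * (t y * y⁻¹ * ((t y * y⁻¹)⁻¹ * b)) = (t y * y⁻¹)⁻¹ * b by group] at *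
  rw [hu2, mul_one]
  have h3 := hmul u _ y hd
  rw [inv_mul_cancel_right] at h3
  have htu : φ' ⟨⁅(u : P), t y⁆, mem_g3_of_comm u.2⟩ =
      φ' ⟨⁅(u : P), y⁆, mem_g3_of_comm u.2⟩ := by
    set z := (σ ^ m) u * (u : P)⁻¹ with hzdef
    have hz : z ∈ g3 P := h2 u u.2
    have hzy := hy
    have h5 : φ ⟨⁅z, t y⁆, Subgroup.commutator_mem_commutator hz (Subgroup.mem_top _)⟩ = 1 :=
      (hR' _).1 (hTR y ha') (cl3 ⟨z, hz⟩)
    rw [← hinv' ⟨⁅(u : P), y⁆, mem_g3_of_comm u.2⟩]
    have e : (⟨t ⁅(u : P), y⁆, mem_g3_map t (mem_g3_of_comm u.2)⟩ : g3 P) =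
        (⟨z * ⁅(u : P), t y⁆ * z⁻¹,
          (inferInstance : (g3 P).Normal).conj_mem _ (mem_g3_of_comm u.2) z⟩ : g3 P) *
          ⟨⁅z, t y⁆, g4_le (Subgroup.commutator_mem_commutator hz (Subgroup.mem_top _))⟩ := by
      refine Subtype.ext ?_
      show t ⁅(u : P), y⁆ = z * ⁅(u : P), t y⁆ * z⁻¹ * ⁅z, t y⁆
      rw [show t ⁅(u : P), y⁆ = ⁅t (u : P), t y⁆ from map_commutatorElement t.toMonoidHom _ _,
        show t (u : P) = z * u by rw [hzdef, htdef, inv_mul_cancel_right]]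
      simp only [commutatorElement_def]
      group
    have h6 : φ' ⟨z * ⁅(u : P), t y⁆ * z⁻¹,
        (inferInstance : (g3 P).Normal).conj_mem _ (mem_g3_of_comm u.2) z⟩ =
        φ' ⟨⁅(u : P), t y⁆, mem_g3_of_comm u.2⟩ := by
      rw [show (⟨z * ⁅(u : P), t y⁆ * z⁻¹,
          (inferInstance : (g3 P).Normal).conj_mem _ (mem_g3_of_comm u.2) z⟩ : g3 P) =
        ⟨z, hz⟩ * ⟨⁅(u : P), t y⁆, mem_g3_of_comm u.2⟩ * (⟨z, hz⟩ : g3 P)⁻¹ from rfl,
        map_mul, map_mul, map_inv, mul_inv_cancel_comm]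
    rw [e, map_mul, h6, hext ⟨⁅z, t y⁆, Subgroup.commutator_mem_commutator hz (Subgroup.mem_top _)⟩,
      h5, mul_one]
  rw [htu] at h3
  exact mul_right_cancel (h3.symm.trans (one_mul _).symm)

/-- The pairings of a fourth term yield the abstract configuration. -/
theorem false_of_fn {m : ℕ} (hm : ¬ f ∣ m) (h2 : ∀ x ∈ commutator P, (σ ^ m) x * x⁻¹ ∈ g3 P)
    (hne : g4 P ≠ g3 P) {φ : ↥(g4 P) →* ℂˣ} (hφ : Fn φ) (hφ1 : φ ≠ 1)
    (hinv : hφ.om ≠ 1 → ∀ z : g4 P, φ ⟨(σ ^ m) z, mem_g4_map _ z.2⟩ = φ z) : False := by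
  let X : Subgroup (L3 P) := hφ.th3.ker
  let cX : L3 P →* L3 P ⧸ X := QuotientGroup.mk' X
  let c3X : L2 P →* Abelianization P →* L3 P ⧸ X :=
    MonoidHom.mk' (fun w => cX.comp (c3 P w)) fun w w' => MonoidHom.ext fun a => by simp
  let th : Abelianization P →* (L3 P ⧸ X) →* ℂˣ := (QuotientGroup.lift X hφ.th3 le_rfl).flip
  have hth : ∀ a v, th a (cX v) = hφ.th3 v a := fun a v => rfl
  have hthker : ∀ a, th a = 1 → ∀ v, hφ.th3 v a = 1 := fun a ha v =>
    (hth a v).symm.trans (DFunLike.congr_fun ha _)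
  let gv : Abelianization P → Abelianization P → L3 P ⧸ X := fun a b =>
    if h : c2 P a b = 1 then cX (cl3 ⟨⁅sec a, sec b⁆, mem_g3_of_c2 h (of_sec a) (of_sec b)⟩) else 1
  have hgv : ∀ a b (h : c2 P a b = 1), gv a b =
      cX (cl3 ⟨⁅sec a, sec b⁆, mem_g3_of_c2 h (of_sec a) (of_sec b)⟩) := fun a b h => dif_pos h
  obtain ⟨φ3, hφ3⟩ : ∃ φ3 : L3 P →* ℂˣ, φ3 ≠ 1 := by
    by_contra hcon
    push Not at hcon
    refine hne (le_antisymm g4_le fun z hz => ?_)
    exact (cl3_eq_one (z := ⟨z, hz⟩)).1 (Four.eq_one_of_forall fun χ => by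
      rw [hcon χ, MonoidHom.one_apply])
  refine Four.false
    ({ q := q
       prime := hC.prime
       odd := hC.odd hm h2 φ3 hφ3
       exp₁ := hC.exp1
       exp₃ := fun x => ?_
       c2 := c2 P
       c3 := c3X
       th := th
       om := hφ.om
       alt2 := c2_self
       surj2 := fun a => hC.c2_surjective
       card1 := (hC.macdonald φ3 hφ3).1
       J3 := fun a b d => ?_
       J4 := fun u a b => ?_
       omAlt := fun u => ?_
       left := fun x hx => ?_
       isotropic := fun χ hχ a b ha hb => ?_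
       kerTh := ?_
       thNe := ?_
       g := gv
       gSurj := fun a ha v => ?_
       gSelf := fun a => ?_
       gSkew := fun a b => ?_
       gRight := fun a b b' h h' => ?_
       gZero := fun hom a y d ha hta hty hay hd => ?_ } :
      Four (Abelianization P) (L2 P) (L3 P ⧸ X))
  · induction x using QuotientGroup.induction_on with
    | H v => rw [← QuotientGroup.mk_pow, hC.exp3]; rfl
  · show cX _ * cX _ * cX _ = 1
    rw [← map_mul, ← map_mul, jacobi, map_one]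
  · show th b (cX (c3 P u a)) = th a (cX (c3 P u b)) * hφ.om u (c2 P a b)
    rw [hth, hth]
    exact hφ.J4 u a b
  · obtain ⟨v, rfl⟩ := QuotientGroup.mk_surjective u
    show hφ.om (cl2 v) (cl2 v) = 1
    rw [hφ.om_apply]
    exact (congrArg φ (Subtype.ext (commutatorElement_self _))).trans (map_one φ)
  · induction x using QuotientGroup.induction_on with
    | H v => exact (QuotientGroup.eq_one_iff v).2 (MonoidHom.mem_ker.2 (MonoidHom.ext fun a => hx a))
  · refine (hC.macdonald (χ.comp cX) (fun h => hχ (MonoidHom.ext fun v => ?_))).2.2.2 a b ha hb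
    obtain ⟨w, rfl⟩ := QuotientGroup.mk'_surjective X v
    exact DFunLike.congr_fun h w
  · obtain ⟨a, ha, hv⟩ := hC.exists_kernel hφ hφ1
    refine ⟨a, ha, MonoidHom.ext fun x => ?_⟩
    obtain ⟨v, rfl⟩ := QuotientGroup.mk'_surjective X x
    exact hv v
  · intro h
    refine hφ1 ?_
    have hle : g4 P ≤ φ.ker.map (g4 P).subtype := Subgroup.commutator_le.2 fun z hz y _ =>
      ⟨⟨⁅z, y⁆, Subgroup.commutator_mem_commutator hz (Subgroup.mem_top y)⟩,
        MonoidHom.mem_ker.2 (DFunLike.congr_fun (DFunLike.congr_fun h (Abelianization.of y))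
          (cX (cl3 ⟨z, hz⟩))), rfl⟩
    refine MonoidHom.ext fun z => ?_
    obtain ⟨z', hz', he⟩ := hle z.2
    rw [Subtype.ext he] at hz'
    exact hz'
  · obtain ⟨w, rfl⟩ := QuotientGroup.mk'_surjective X v
    obtain ⟨z, rfl⟩ := QuotientGroup.mk_surjective w
    obtain ⟨y, hy⟩ := hC.camina (hC.of_ne_one ha (of_sec a)) (g3_le z.2)
    have hc : c2 P a (Abelianization.of y) = 1 := by
      rw [← of_sec a, c2_apply, cl2_eq_one]
      show ⁅sec a, y⁆ ∈ g3 P
      rw [hy]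
      exact z.2
    set b := Abelianization.of y with hb
    have hw : (sec b)⁻¹ * y ∈ commutator P := (QuotientGroup.eq_one_iff _).1 (by
      show Abelianization.of _ = 1
      rw [map_mul, map_inv, of_sec, inv_mul_cancel])
    refine ⟨b, (cl2 ⟨_, hw⟩)⁻¹, hc, ?_⟩
    rw [hgv a b hc]
    show cX (cl3 z) = cX _ * cX (c3 P _ a)
    have h3 : ⁅sec a, (sec b)⁻¹ * y⁆ ∈ g3 P :=
      (Subgroup.commutator_comm (⊤ : Subgroup P) (commutator P)).le
        (Subgroup.commutator_mem_commutator (Subgroup.mem_top _) hw)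
    have e := cl3_right_comm (sec a) ⟨_, hw⟩ h3
    rw [of_sec] at e
    rw [← map_mul, ← e]
    rw [← cl3_mul_right (mem_g3_of_c2 hc (of_sec a) (of_sec b)) h3 (by
      rw [mul_inv_cancel_left, hy]; exact z.2)]
    refine congrArg (fun z => cX (cl3 z)) (Subtype.ext ?_)
    show (z : P) = ⁅sec a, sec b * ((sec b)⁻¹ * y)⁆
    rw [mul_inv_cancel_left, hy]
  · show gv a a = 1
    rw [hgv a a (c2_self a)]
    exact (congrArg (fun z => cX (cl3 z)) (Subtype.ext (commutatorElement_self _) :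
      (⟨⁅sec a, sec a⁆, mem_g3_of_c2 (c2_self a) (of_sec a) (of_sec a)⟩ : g3 P) = 1)).trans (by rw [map_one, map_one])
  · show gv b a = (gv a b)⁻¹
    by_cases h : c2 P a b = 1
    · have h' : c2 P b a = 1 := by rw [c2_skew, h, inv_one]
      rw [hgv a b h, hgv b a h', ← map_inv, ← map_inv]
      exact congrArg (fun z => cX (cl3 z)) (Subtype.ext (commutatorElement_inv _ _).symm)
    · have h' : ¬ c2 P b a = 1 := fun h' => h (by rw [c2_skew, h', inv_one])
      simp only [gv, dif_neg h, dif_neg h', inv_one]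
  · have hbb : c2 P a (b * b') = 1 := by rw [map_mul, h, h', one_mul]
    have hw : (sec b * sec b')⁻¹ * sec (b * b') ∈ commutator P :=
      (QuotientGroup.eq_one_iff _).1 (by
        show Abelianization.of _ = 1
        rw [map_mul, map_inv, map_mul, of_sec, of_sec, of_sec, inv_mul_cancel])
    refine ⟨(cl2 ⟨_, hw⟩)⁻¹, ?_⟩
    rw [hgv a b h, hgv a b' h', hgv a _ hbb]
    show cX _ = cX _ * cX _ * cX (c3 P _ a)
    have h3 : ⁅sec a, (sec b * sec b')⁻¹ * sec (b * b')⁆ ∈ g3 P :=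
      (Subgroup.commutator_comm (⊤ : Subgroup P) (commutator P)).le
        (Subgroup.commutator_mem_commutator (Subgroup.mem_top _) hw)
    have hsb : ⁅sec a, sec b * sec b'⁆ ∈ g3 P :=
      mem_g3_of_c2 (b := b * b') hbb (of_sec a) (by rw [map_mul, of_sec, of_sec])
    have e := cl3_right_comm (sec a) ⟨_, hw⟩ h3
    rw [of_sec] at e
    rw [← map_mul, ← map_mul, ← e]
    rw [← cl3_mul_right (mem_g3_of_c2 h (of_sec a) (of_sec b))
      (mem_g3_of_c2 h' (of_sec a) (of_sec b')) hsb, ← cl3_mul_right hsb h3 (by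
        rw [mul_inv_cancel_left]; exact mem_g3_of_c2 hbb (of_sec a) (of_sec _))]
    exact congrArg (fun z => cX (cl3 z)) (Subtype.ext (by
      show ⁅sec a, sec (b * b')⁆ = ⁅sec a, sec b * sec b' * ((sec b * sec b')⁻¹ * sec (b * b'))⁆
      rw [mul_inv_cancel_left]))
  · show th d (gv a y) = 1
    rw [hgv a y hay, hth]
    obtain ⟨φ', hext, hinv'⟩ := hC.exists_invariant_ext hφ (σ ^ m)
      (by rw [← pow_mul, mul_comm, pow_mul, hC.pow, one_pow]) (hinv hom)
    have hta' := hthker a hta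
    have hty' := hthker y hty
    -- the radical value of `[y, d]`
    have hjac := jacobi a y d
    rw [hay, map_one, MonoidHom.one_apply, one_mul] at hjac
    have hJ : ∀ (w : L2 P) (r e : Abelianization P), (∀ v, hφ.th3 v r = 1) →
        hφ.th3 (c3 P w r) e = hφ.om w (c2 P r e) := fun w r e hr => by
      rw [hφ.J4, hr, one_mul]
    have hw2 : ∀ v, hφ.om (c2 P d a) v = 1 := fun v => by
      rw [c2_skew, map_inv, MonoidHom.inv_apply, inv_eq_one, hφ.om_skew, hd v, inv_one]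
    have hw1 : ∀ v, hφ.om (c2 P y d) v = 1 := fun v => by
      obtain ⟨e, rfl⟩ := hC.c2_surjective ha v
      have h := congrArg (fun z => hφ.th3 z e) hjac
      simp only [map_mul, MonoidHom.mul_apply, map_one, MonoidHom.one_apply] at h
      rwa [hJ _ a e hta', hJ _ y e hty', hw2, mul_one] at h
    -- the Hall–Witt identity
    obtain ⟨x, hx⟩ : ∃ x, sec a = x := ⟨_, rfl⟩
    obtain ⟨y', hy'⟩ : ∃ x, sec y = x := ⟨_, rfl⟩
    obtain ⟨z, hz⟩ : ∃ x, sec d = x := ⟨_, rfl⟩
    have ex : Abelianization.of x = a := hx ▸ of_sec a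
    have ey : Abelianization.of y' = y := hy' ▸ of_sec y
    have ez : Abelianization.of z = d := hz ▸ of_sec d
    subst hx hy' hz
    set x := sec a
    set y' := sec y
    set z := sec d
    have hxy : ⁅x, y'⁆ ∈ g3 P := mem_g3_of_c2 hay ex ey
    have hyz : ⁅y', z⁆ ∈ commutator P :=
      Subgroup.commutator_mem_commutator (Subgroup.mem_top _) (Subgroup.mem_top _)
    have hzx : ⁅z, x⁆ ∈ commutator P :=
      Subgroup.commutator_mem_commutator (Subgroup.mem_top _) (Subgroup.mem_top _)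
    have m2 := hC.mixed hm h2 hφ φ' hext hinv' ⟨_, hyz⟩
      (fun v => by rw [← c2_apply, ey, ez]; exact hw1 v) (z * x * z⁻¹)
      (fun v => by rw [of_conj, ex]; exact hta' v)
    have m3 := hC.mixed hm h2 hφ φ' hext hinv' ⟨_, hzx⟩
      (fun v => by rw [← c2_apply, ez, ex]; exact hw2 v) (x * y' * x⁻¹)
      (fun v => by rw [of_conj, ey]; exact hty' v)
    rw [← ez, ← of_conj y' z, hφ.th3_apply, ← hext]
    have e : (⟨⁅⁅x, y'⁆, y' * z * y'⁻¹⁆,
        g4_le (Subgroup.commutator_mem_commutator hxy (Subgroup.mem_top _))⟩ : g3 P) *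
        ⟨⁅⁅y', z⁆, z * x * z⁻¹⁆, mem_g3_of_comm hyz⟩ *
        ⟨⁅⁅z, x⁆, x * y' * x⁻¹⁆, mem_g3_of_comm hzx⟩ = 1 := Subtype.ext (hallWitt x y' z)
    have h := congrArg φ' e
    rw [map_mul, map_mul, m2, m3, mul_one, mul_one, map_one] at h
    exact h

/-- **Class at most three.** -/
theorem g4_eq_bot {m : ℕ} (hm : ¬ f ∣ m)
    (h2 : ∀ x ∈ commutator P, (σ ^ m) x * x⁻¹ ∈ g3 P) : g4 P = ⊥ := by
  by_contra h
  obtain ⟨hne3, hne5⟩ := hC.g4_lt h
  obtain ⟨φ, hφ, hφ1⟩ : ∃ φ : ↥(g4 P) →* ℂˣ, Fn φ ∧ φ ≠ 1 := by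
    letI : CommGroup (↥(g4 P) ⧸ (g5 P).subgroupOf (g4 P)) :=
      { (inferInstance : Group _) with
        mul_comm := comm_quotient_of_le P (Subgroup.commutator_mono le_rfl le_top) }
    obtain ⟨z, hz, hz5⟩ := SetLike.exists_of_lt (lt_of_le_of_ne g5_le hne5)
    by_contra hcon
    push Not at hcon
    refine hz5 (Subgroup.mem_subgroupOf.1 ((QuotientGroup.eq_one_iff
      (N := (g5 P).subgroupOf (g4 P)) (⟨z, hz⟩ : g4 P)).1 (Four.eq_one_of_forall fun χ => ?_)))
    have h := hcon (χ.comp (QuotientGroup.mk' _)) ⟨fun w hw => by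
      rw [MonoidHom.comp_apply, show QuotientGroup.mk' _ w = 1 from (QuotientGroup.eq_one_iff w).2 hw,
        map_one]⟩
    exact DFunLike.congr_fun h ⟨z, hz⟩
  by_cases hom : ∃ (φ : ↥(g4 P) →* ℂˣ) (hφ : Fn φ), hφ.om ≠ 1
  swap
  · push Not at hom
    exact hC.false_of_fn hm h2 hne3 hφ hφ1 fun h => absurd (hom φ hφ) h
  obtain ⟨ψ, hψ, hom⟩ := hom
  let S : ℕ → (↥(g4 P) →* ↥(g4 P)) := fun i =>
    (((σ ^ m) ^ i).toMonoidHom.comp (g4 P).subtype).codRestrict (g4 P) fun z => mem_g4_map _ z.2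
  let Φ : ↥(g4 P) →* ℂˣ := ∏ i ∈ Finset.range f, ψ.comp (S i)
  have hΦ : Fn Φ := fn_prod _ _ fun i _ => hψ.comp _
  have homΦ : ∀ u v, hΦ.om u v = hψ.om u v ^ f := by
    intro u v
    obtain ⟨u, rfl⟩ := QuotientGroup.mk_surjective u
    obtain ⟨v, rfl⟩ := QuotientGroup.mk_surjective v
    show hΦ.om (cl2 u) (cl2 v) = hψ.om (cl2 u) (cl2 v) ^ f
    rw [hΦ.om_apply, MonoidHom.finsetProd_apply, Finset.prod_congr rfl fun i hi => ?_,
      Finset.prod_const, Finset.card_range]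
    have hfix : ∀ (i : ℕ) (w : ↥(commutator P)),
        cl2 ⟨((σ ^ m) ^ i) w, mem_commutator_map _ w.2⟩ = cl2 w := by
      intro i
      induction i with
      | zero => intro w; exact congrArg cl2 (Subtype.ext rfl)
      | succ i ih =>
        intro w
        refine Eq.trans ?_ ((cl2_fixed h2 ⟨_, mem_commutator_map ((σ ^ m) ^ i) w.2⟩).trans (ih w))
        exact congrArg cl2 (Subtype.ext (show ((σ ^ m) ^ (i + 1)) (w : P) =
          (σ ^ m) (((σ ^ m) ^ i) w) by rw [pow_succ', MulAut.mul_apply]))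
    rw [← hfix i u, ← hfix i v, hψ.om_apply]
    exact congrArg ψ (Subtype.ext (map_commutatorElement ((σ ^ m) ^ i).toMonoidHom _ _))
  refine hC.false_of_fn hm h2 hne3 hΦ (fun h1 => hom ?_) fun _ z => ?_
  · refine MonoidHom.ext fun u => MonoidHom.ext fun v => ?_
    refine orderOf_eq_one_iff.1 (Nat.eq_one_of_dvd_coprimes
      (hC.prime.coprime_iff_not_dvd.2 hC.not_dvd) (orderOf_dvd_of_pow_eq_one ?_)
      (orderOf_dvd_of_pow_eq_one ?_))
    · rw [← map_pow, hC.exp2, map_one]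
    · rw [← homΦ]
      obtain ⟨u, rfl⟩ := QuotientGroup.mk_surjective u
      obtain ⟨v, rfl⟩ := QuotientGroup.mk_surjective v
      show hΦ.om (cl2 u) (cl2 v) = 1
      rw [hΦ.om_apply, h1, MonoidHom.one_apply]
  · rw [MonoidHom.finsetProd_apply, MonoidHom.finsetProd_apply]
    let a : ℕ → ℂˣ := fun i => ψ.comp (S i) z
    have hstep : ∀ i, ψ.comp (S i) ⟨(σ ^ m) z, mem_g4_map _ z.2⟩ = a (i + 1) := fun i =>
      congrArg ψ (Subtype.ext (show ((σ ^ m) ^ i) ((σ ^ m) z) = ((σ ^ m) ^ (i + 1)) z by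
        rw [pow_succ ((σ ^ m)), MulAut.mul_apply]))
    rw [Finset.prod_congr rfl fun i _ => hstep i]
    have haf : a f = a 0 := congrArg ψ (Subtype.ext (show ((σ ^ m) ^ f) (z : P) = ((σ ^ m) ^ 0) z by
      rw [← pow_mul, mul_comm, pow_mul, hC.pow, one_pow, pow_zero]))
    refine mul_right_cancel (b := a 0) ?_
    show _ = (∏ i ∈ Finset.range f, a i) * a 0
    conv_rhs => rw [← haf]
    rw [← Finset.prod_range_succ, Finset.prod_range_succ']

end Cam

end CfsgLib.NoDiv
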