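import Cfsg.Agent.Lib.ThreeDeg.Tools
import Cfsg.Agent.Lib.DegGraph.Cyclic
import Cfsg.Agent.Lib.CharDeep.LinearExt
import Cfsg.Agent.Lib.Char.CliffordOver
import Cfsg.Prelude.Def_DegreeGraph

/-!
# Groups without proper divisibility among nonlinear character degrees: generalities
-/

set_option autoImplicit false

open scoped Classical commutatorElement
open CfsgLib

namespace CfsgLib.NoDiv

universe u

variable {G : Type u} [Group G] [Finite G]

/-- No nonlinear degree properly divides another one. -/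
def Nd (G : Type u) [Group G] : Prop :=
  ∀ χ φ : Cfsg.IrrCharacter G, 1 < Cfsg.charDegree (χ : G → ℂ) →
    Cfsg.charDegree (χ : G → ℂ) ∣ Cfsg.charDegree (φ : G → ℂ) →
    Cfsg.charDegree (χ : G → ℂ) = Cfsg.charDegree (φ : G → ℂ)

theorem nd_of_degrees
    (h : ∀ a ∈ Cfsg.charDegrees G, ∀ b ∈ Cfsg.charDegrees G, 1 < a → a < b → ¬ a ∣ b) : Nd G :=
  fun χ φ h1 h2 => (Nat.le_of_dvd (CharTools.irr_degree_pos φ) h2).eq_or_lt.resolve_right
    fun hlt => h _ ⟨χ, rfl⟩ _ ⟨φ, rfl⟩ h1 hlt h2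

theorem deg_gt {χ : Cfsg.IrrCharacter G} (h : Cfsg.charDegree (χ : G → ℂ) ≠ 1) :
    1 < Cfsg.charDegree (χ : G → ℂ) :=
  lt_of_le_of_ne (CharTools.irr_degree_pos χ) (Ne.symm h)

theorem nd_quotient (hnd : Nd G) (W : Subgroup G) [W.Normal] : Nd (G ⧸ W) := by
  intro χ φ h1 h2
  obtain ⟨χ', hχ⟩ := ThreeDeg.degree_quotient W χ
  obtain ⟨φ', hφ⟩ := ThreeDeg.degree_quotient W φ
  rw [← hχ] at h1 h2 ⊢
  rw [← hφ] at h2 ⊢
  exact hnd χ' φ' h1 h2

/-- Clifford and Gallagher: the degrees over an extendible character. -/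
theorem exists_degree_over (N : Subgroup G) [N.Normal] (θ : N → ℂ)
    (hθ : Cfsg.IsIrrCharacter N θ) (T : Subgroup G)
    (hT : ∀ g, g ∈ T ↔ CharTwist.conjFun N θ g = θ) (hNT : N ≤ T) (η : T → ℂ)
    (hη : Cfsg.IsIrrCharacter T η) (hηN : ∀ n : N, η ⟨n, hNT n.2⟩ = θ n)
    (β : Cfsg.IrrCharacter (T ⧸ N.subgroupOf T)) :
    ∃ χ : Cfsg.IrrCharacter G, Cfsg.charDegree (χ : G → ℂ) =
      T.index * Cfsg.charDegree θ * Cfsg.charDegree (β : T ⧸ N.subgroupOf T → ℂ) := by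
  haveI := Fintype.ofFinite G
  haveI := Fintype.ofFinite N
  haveI := Fintype.ofFinite T
  haveI := Fintype.ofFinite (N.subgroupOf T)
  let e : N.subgroupOf T ≃* N := Subgroup.subgroupOfEquivOfLe hNT
  have hres : (fun m : N.subgroupOf T => η m) = θ ∘ e := funext fun m => hηN (e m)
  have hirr : Cfsg.IsIrrCharacter (N.subgroupOf T) (fun m : N.subgroupOf T => η m) := by
    rw [hres]; exact CharTwist.isIrrCharacter_comp_equiv hθ e
  obtain ⟨h1, -, -⟩ := CharDeep.Gal.quotient_bijection (N.subgroupOf T) hη hirr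
  obtain ⟨hψ, -⟩ := h1 _ β.2
  set ψ : T → ℂ := ((β : T ⧸ N.subgroupOf T → ℂ) ∘ QuotientGroup.mk' (N.subgroupOf T)) * η with hψdef
  have hb : ∀ n : N, ψ ⟨n, hNT n.2⟩ = (β : T ⧸ N.subgroupOf T → ℂ) 1 * θ n := fun n => by
    simp only [hψdef, Pi.mul_apply, Function.comp_apply, QuotientGroup.mk'_apply, hηN]
    rw [(QuotientGroup.eq_one_iff (⟨(n : G), hNT n.2⟩ : T)).2 n.2]
  have hind := CfsgLib.Clifford.isIrrCharacter_indFun N T hNT hθ hT hψ (by
    rw [show (fun n : N => ψ ⟨n, hNT n.2⟩) = (β : T ⧸ N.subgroupOf T → ℂ) 1 • θ from funext hb,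
      Char.classInner_smul_left, Char.classInner_irr_self hθ, mul_one]
    exact CharTools.irr_apply_one_ne_zero β)
  refine ⟨⟨_, hind⟩, Nat.cast_injective (R := ℂ) ?_⟩
  rw [CharTools.irr_degree_cast]
  show Cfsg.indFun T ψ 1 = _
  rw [Char.indFun_apply_one, Nat.cast_mul, Nat.cast_mul,
    CharTools.irr_degree_cast β, CharTools.degree_cast (Char.IsIrrCharacter.isCharacter hθ)]
  have := hb 1
  simp only [Subgroup.coe_one] at this
  rw [show (1 : T) = ⟨(1 : G), T.one_mem⟩ from rfl, this]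
  ring

/-- The inertia index times the degree of a constituent divides the degree. -/
theorem index_mul_dvd (N : Subgroup G) [N.Normal] [Fintype N] (χ : Cfsg.IrrCharacter G)
    (θ : Cfsg.IrrCharacter N)
    (h : Cfsg.classInner (fun n : N => (χ : G → ℂ) n) (θ : N → ℂ) ≠ 0) :
    (CharTwist.inertia N (θ : N → ℂ)).index * Cfsg.charDegree (θ : N → ℂ) ∣
      Cfsg.charDegree (χ : G → ℂ) := by
  rw [mul_comm]
  exact Blk83.dvd_of_constituent N χ θ h

/-- Over an extendible moved or nonlinear character: one degree and abelian inertia quotient. -/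
theorem over_extendible (hnd : Nd G) (N : Subgroup G) [N.Normal] [Fintype N]
    (θ : Cfsg.IrrCharacter N) (T : Subgroup G)
    (hT : ∀ g, g ∈ T ↔ CharTwist.conjFun N (θ : N → ℂ) g = (θ : N → ℂ)) (hNT : N ≤ T)
    (η : T → ℂ) (hη : Cfsg.IsIrrCharacter T η) (hηN : ∀ n : N, η ⟨n, hNT n.2⟩ = (θ : N → ℂ) n)
    (h1 : 1 < T.index * Cfsg.charDegree (θ : N → ℂ)) :
    (∃ χ : Cfsg.IrrCharacter G,
      Cfsg.charDegree (χ : G → ℂ) = T.index * Cfsg.charDegree (θ : N → ℂ)) ∧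
    (∀ a ∈ T, ∀ b ∈ T, ⁅a, b⁆ ∈ N) ∧
    ∀ χ : Cfsg.IrrCharacter G,
      Cfsg.classInner (fun n : N => (χ : G → ℂ) n) (θ : N → ℂ) ≠ 0 →
      Cfsg.charDegree (χ : G → ℂ) = T.index * Cfsg.charDegree (θ : N → ℂ) := by
  haveI := Fintype.ofFinite G
  obtain ⟨χ₀, hχ₀⟩ : ∃ χ : Cfsg.IrrCharacter G,
      Cfsg.charDegree (χ : G → ℂ) = T.index * Cfsg.charDegree (θ : N → ℂ) := by
    obtain ⟨χ, hχ⟩ := exists_degree_over N (θ : N → ℂ) θ.2 T hT hNT η hη hηN Char.principalIrr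
    have h1 : Cfsg.charDegree ((Char.principalIrr :
      Cfsg.IrrCharacter (T ⧸ N.subgroupOf T)) : (T ⧸ N.subgroupOf T) → ℂ) = 1 :=
      CharTools.charDegree_principal
    exact ⟨χ, hχ.trans ((congrArg (_ * ·) h1).trans (mul_one _))⟩
  refine ⟨⟨χ₀, hχ₀⟩, fun a ha b hb => ?_, fun χ hχ => ?_⟩
  · have hlin : ∀ β : Cfsg.IrrCharacter (T ⧸ N.subgroupOf T),
        Cfsg.charDegree (β : T ⧸ N.subgroupOf T → ℂ) = 1 := by
      intro β
      obtain ⟨χ, hχ⟩ := exists_degree_over N (θ : N → ℂ) θ.2 T hT hNT η hη hηN β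
      have h2 := hnd χ₀ χ (hχ₀ ▸ h1) (hχ₀ ▸ hχ ▸ dvd_mul_right _ _)
      rw [hχ₀, hχ] at h2
      exact (Nat.eq_of_mul_eq_mul_left (by omega) ((mul_one _).trans h2)).symm
    have h3 := TwoDeg.comm_of_degree_one hlin (QuotientGroup.mk (⟨a, ha⟩ : T))
      (QuotientGroup.mk ⟨b, hb⟩)
    rw [← commutatorElement_eq_one_iff_mul_comm, ← QuotientGroup.mk'_apply,
      ← QuotientGroup.mk'_apply, ← map_commutatorElement, QuotientGroup.mk'_apply,
      QuotientGroup.eq_one_iff, Subgroup.mem_subgroupOf] at h3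
    simpa [commutatorElement_def] using h3
  · have hi : (CharTwist.inertia N (θ : N → ℂ)) = T := by
      ext g; exact (hT g).symm
    have h2 := index_mul_dvd N χ θ hχ
    rw [hi] at h2
    exact (hnd χ₀ χ (hχ₀ ▸ h1) (hχ₀ ▸ h2)).symm.trans hχ₀

/-- An invariant character extends when the order is prime to the index. -/
theorem exists_extension (N : Subgroup G) [N.Normal] (θ : N → ℂ) (hθ : Cfsg.IsIrrCharacter N θ)
    (hinv : ∀ (g : G) (n : N),
      θ ⟨g * n * g⁻¹, (inferInstance : N.Normal).conj_mem (n : G) n.2 g⟩ = θ n)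
    (hcop : N.index.Coprime (Nat.card N)) :
    ∃ η : G → ℂ, Cfsg.IsIrrCharacter G η ∧ ∀ n : N, η n = θ n := by
  haveI := Fintype.ofFinite N
  obtain ⟨δ, hδ⟩ := CharDeep.Extend.exists_det_hom N θ hθ
  obtain ⟨μ, hμ, -⟩ := CharDeep.Lin.exists_ext_coprime δ (fun g n => Units.ext (by
    have h := CharDeep.Extend.det_invariant N θ hinv hθ g n
    rw [hδ] at h
    exact h)) (Nat.Coprime.coprime_dvd_right (orderOf_dvd_of_pow_eq_one (by
      ext n
      rw [MonoidHom.pow_apply, ← map_pow, pow_card_eq_one', map_one, MonoidHom.one_apply])) hcop)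
  exact CharDeep.Extend.extends_of_det N θ hθ hinv _
    (CharTools.irr_degree_cast ⟨θ, hθ⟩).symm
    (Nat.Coprime.coprime_dvd_right (CharTools.degree_dvd_card (⟨θ, hθ⟩ : Cfsg.IrrCharacter N)) hcop)
    μ (fun n => by rw [hμ, hδ])

end CfsgLib.NoDiv
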