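import Cfsg.Agent.Lib.NoDiv.Bracket
import Cfsg.Agent.Lib.Char.Complete
import Cfsg.Agent.Lib.NoDiv.Tools

/-!
# Camina groups with an automorphism: the first three layers
-/

set_option autoImplicit false

open scoped Classical commutatorElement
open CfsgLib

namespace CfsgLib.NoDiv

universe u

variable {P : Type u} [Group P] [Finite P]

/-- A `q`-group whose nonlinear characters vanish outside the derived subgroup and are fixed by
some nontrivial power of an automorphism which acts without fixed points on the abelianization. -/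
structure Cam (q : ℕ) (σ : MulAut P) (f : ℕ) : Prop where
  prime : q.Prime
  pgroup : IsPGroup q P
  nonab : commutator P ≠ ⊥
  pow : σ ^ f = 1
  not_dvd : ¬ q ∣ f
  fpf : ∀ m, ¬ f ∣ m → ∀ x, (σ ^ m) x * x⁻¹ ∈ commutator P → x ∈ commutator P
  vanish : ∀ θ : Cfsg.IrrCharacter P, Cfsg.charDegree (θ : P → ℂ) ≠ 1 →
    ∀ x, x ∉ commutator P → (θ : P → ℂ) x = 0
  moved : ∀ θ : Cfsg.IrrCharacter P, Cfsg.charDegree (θ : P → ℂ) ≠ 1 →
    ∃ m, ¬ f ∣ m ∧ ∀ x, (θ : P → ℂ) ((σ ^ m) x) = (θ : P → ℂ) x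

omit [Finite P] in
theorem mem_commutator_map (s : MulAut P) {x : P} (hx : x ∈ commutator P) : s x ∈ commutator P :=
  map_commutator_top s.toMonoidHom s.surjective ▸ Subgroup.mem_map_of_mem s.toMonoidHom hx

omit [Finite P] in
theorem mem_g3_map (s : MulAut P) {x : P} (hx : x ∈ g3 P) : s x ∈ g3 P :=
  map_g3 s.toMonoidHom s.surjective ▸ Subgroup.mem_map_of_mem s.toMonoidHom hx

omit [Finite P] in
theorem mem_g4_map (s : MulAut P) {x : P} (hx : x ∈ g4 P) : s x ∈ g4 P :=
  map_g4 s.toMonoidHom s.surjective ▸ Subgroup.mem_map_of_mem s.toMonoidHom hx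

/-- An endomorphism without fixed points has no fixed character and is onto. -/
theorem surjective_div {V : Type*} [CommGroup V] [Finite V] (t : V →* V)
    (h : ∀ x, t x = x → x = 1) : Function.Surjective fun x => t x / x := by
  refine Finite.injective_iff_surjective.1 fun x y hxy => div_eq_one.1 (h _ ?_)
  simp only [div_eq_div_iff_mul_eq_mul] at hxy
  rw [map_div, div_eq_div_iff_mul_eq_mul, hxy]
  exact mul_comm _ _

/-- A fixed point gives a fixed character. -/
theorem eq_one_of_no_fixed_char {V : Type u} [CommGroup V] [Finite V] (t : V →* V)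
    (h : ∀ χ : V →* ℂˣ, χ.comp t = χ → χ = 1) {x : V} (hx : t x = x) : x = 1 := by
  let D : V →* V := t / MonoidHom.id V
  have hrange : D.range = ⊤ := by
    rw [Subgroup.eq_top_iff']
    intro v
    rw [← QuotientGroup.eq_one_iff]
    refine Four.eq_one_of_forall fun χ => ?_
    have h2 : χ.comp (QuotientGroup.mk' D.range) = 1 := h _ (MonoidHom.ext fun w => by
      show χ (QuotientGroup.mk' D.range (t w)) = χ (QuotientGroup.mk' D.range w)
      rw [← div_eq_one, ← map_div, ← map_div,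
        show QuotientGroup.mk' D.range (t w / w) = 1 from (QuotientGroup.eq_one_iff _).2 ⟨w, rfl⟩,
        map_one])
    exact DFunLike.congr_fun h2 v
  have hinj : Function.Injective D :=
    Finite.injective_iff_surjective.2 (MonoidHom.range_eq_top.1 hrange)
  refine hinj ?_
  rw [map_one]
  show t x / x = 1
  rw [hx, div_self']

omit [Finite P] in
/-- The radical pairing of a character of the third layer. -/
def psi (φ : L3 P →* ℂˣ) : Abelianization P →* L2 P →* ℂˣ :=
  MonoidHom.mk' (fun a => φ.comp ((c3 P).flip a)) fun a b => MonoidHom.ext fun w => by simp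

omit [Finite P] in
@[simp] theorem psi_apply (φ : L3 P →* ℂˣ) (a : Abelianization P) (w : L2 P) :
    psi φ a w = φ (c3 P w a) := rfl

namespace Cam

variable {q : ℕ} {σ : MulAut P} {f : ℕ} (hC : Cam q σ f)
include hC

theorem nilpotent : Group.IsNilpotent P := by
  haveI : Fact q.Prime := ⟨hC.prime⟩
  exact hC.pgroup.isNilpotent

theorem g3_ne : g3 P ≠ commutator P := fun h => by
  haveI := hC.nilpotent
  exact hC.nonab (eq_bot_of_commutator_eq h)

theorem g2_ne_top : commutator P ≠ ⊤ := fun h => by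
  haveI := hC.nilpotent
  refine hC.nonab (eq_bot_of_commutator_eq ?_)
  rw [h, ← commutator_def, h]

/-- Outside the derived subgroup every commutator value is attained. -/
theorem camina {x g : P} (hx : x ∉ commutator P) (hg : g ∈ commutator P) :
    ∃ y, ⁅x, y⁆ = g := by
  haveI := Fintype.ofFinite P
  have hx' : x⁻¹ ∉ commutator P := fun h => hx (inv_mem_iff.1 h)
  have hxg : x⁻¹ * g ∉ commutator P := fun h => hx' (by simpa using mul_mem h (inv_mem hg))
  have hc : IsConj x⁻¹ (x⁻¹ * g) := Char.isConj_of_forall_eq fun χ hχ => by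
    by_cases h1 : Cfsg.charDegree χ = 1
    · obtain ⟨μ, hμ⟩ := CharDeep.Lin.exists_hom_of_deg_one (Char.IsIrrCharacter.isCharacter hχ)
        ((CharTools.irr_degree_cast (⟨χ, hχ⟩ : Cfsg.IrrCharacter P)).symm.trans
          ((congrArg Nat.cast h1).trans Nat.cast_one))
      rw [hμ, hμ, map_mul, MonoidHom.mem_ker.1 (Abelianization.commutator_subset_ker μ hg), mul_one]
    · exact (hC.vanish ⟨χ, hχ⟩ h1 _ hx').trans (hC.vanish ⟨χ, hχ⟩ h1 _ hxg).symm
  obtain ⟨y, hy⟩ := isConj_iff.1 hc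
  refine ⟨y, ?_⟩
  rw [commutatorElement_def, show x * y * x⁻¹ * y⁻¹ = x * (y * x⁻¹ * y⁻¹) by group, hy,
    mul_inv_cancel_left]

theorem of_ne_one {a : Abelianization P} (ha : a ≠ 1) {x : P} (hx : Abelianization.of x = a) :
    x ∉ commutator P := fun h =>
  ha (hx ▸ (QuotientGroup.eq_one_iff x).2 h)

theorem c2_surjective {a : Abelianization P} (ha : a ≠ 1) : Function.Surjective (c2 P a) := by
  obtain ⟨x, rfl⟩ := of_surj a
  intro w
  obtain ⟨g, rfl⟩ := QuotientGroup.mk_surjective w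
  obtain ⟨y, hy⟩ := hC.camina (hC.of_ne_one ha rfl) g.2
  refine ⟨Abelianization.of y, ?_⟩
  rw [c2_apply]
  exact congrArg cl2 (Subtype.ext hy)

theorem exists_ne_one : ∃ a : Abelianization P, a ≠ 1 := by
  obtain ⟨x, hx⟩ : ∃ x : P, x ∉ commutator P := by
    by_contra h
    push Not at h
    exact hC.g2_ne_top ((Subgroup.eq_top_iff' _).2 h)
  exact ⟨Abelianization.of x, fun h => hx ((QuotientGroup.eq_one_iff x).1 h)⟩

theorem one_lt_B : 1 < Nat.card (L2 P) := by
  rw [Finite.one_lt_card_iff_nontrivial]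
  obtain ⟨g, hg, hg3⟩ := SetLike.exists_of_lt (lt_of_le_of_ne g3_le hC.g3_ne)
  exact ⟨⟨cl2 ⟨g, hg⟩, 1, fun h => hg3 (cl2_eq_one.1 h)⟩⟩

theorem exp2 (w : L2 P) : w ^ q = 1 := by
  haveI : Fact q.Prime := ⟨hC.prime⟩
  have hp : IsPGroup q (Abelianization P) := hC.pgroup.to_quotient _
  obtain ⟨a₀, ha₀⟩ := hC.exists_ne_one
  haveI : Nontrivial (Abelianization P) := ⟨⟨a₀, 1, ha₀⟩⟩
  obtain ⟨k, hk0, hk⟩ := hp.nontrivial_iff_card.1 inferInstance
  obtain ⟨y, hy⟩ := exists_prime_orderOf_dvd_card' (G := Abelianization P) q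
    (hk ▸ dvd_pow_self q hk0.ne')
  obtain ⟨b, rfl⟩ := hC.c2_surjective (a := y)
    (fun h => hC.prime.ne_one (by rw [← hy, h, orderOf_one])) w
  rw [← MonoidHom.pow_apply, ← map_pow, ← hy, pow_orderOf_eq_one, map_one, MonoidHom.one_apply]

theorem exp1 (a : Abelianization P) : a ^ q = 1 := by
  by_contra h
  obtain ⟨g, hg, hg3⟩ := SetLike.exists_of_lt (lt_of_le_of_ne g3_le hC.g3_ne)
  obtain ⟨b, hb⟩ := hC.c2_surjective h (cl2 ⟨g, hg⟩)
  refine hg3 (cl2_eq_one.1 ?_ : (⟨g, hg⟩ : ↥(commutator P)).1 ∈ g3 P)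
  rw [← hb, map_pow, MonoidHom.pow_apply, hC.exp2]

omit hC in
theorem L3_generated {Z : Type*} [Group Z] (φ : L3 P →* Z)
    (h : ∀ w a, φ (c3 P w a) = 1) : φ = 1 := by
  have hle : g3 P ≤ ((φ.comp cl3).ker).map (g3 P).subtype := by
    refine Subgroup.commutator_le.2 fun u hu y _ => ⟨⟨⁅u, y⁆, mem_g3_of_comm hu⟩, ?_, rfl⟩
    exact MonoidHom.mem_ker.2 (h (cl2 ⟨u, hu⟩) (Abelianization.of y))
  refine MonoidHom.ext fun v => ?_
  obtain ⟨z, rfl⟩ := QuotientGroup.mk_surjective v
  obtain ⟨z', hz', he⟩ := hle z.2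
  rw [Subtype.ext he] at hz'
  exact hz'

theorem exp3 (v : L3 P) : v ^ q = 1 := by
  refine DFunLike.congr_fun (L3_generated (powMonoidHom q : L3 P →* L3 P) fun w a => ?_) v
  rw [powMonoidHom_apply, ← map_pow, hC.exp1, map_one]

theorem card_sq : Nat.card (L2 P) * Nat.card (L2 P) ≤ Nat.card (Abelianization P) := by
  haveI : Fact q.Prime := ⟨hC.prime⟩
  obtain ⟨a₀, ha₀⟩ := hC.exists_ne_one
  haveI : Nontrivial (Abelianization P) := ⟨⟨a₀, 1, ha₀⟩⟩
  refine card_sq_le (p := q) hC.exp2 (c2 P) c2_self fun χ hχ a ha => ?_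
  obtain ⟨w, hw⟩ := not_forall.1 fun h => hχ (MonoidHom.ext h)
  obtain ⟨b, rfl⟩ := hC.c2_surjective ha w
  exact ⟨b, hw⟩

/-- MacDonald: a nonzero third layer makes the first two extremal. -/
theorem macdonald (φ : L3 P →* ℂˣ) (hφ : φ ≠ 1) :
    Nat.card (Abelianization P) = Nat.card (L2 P) * Nat.card (L2 P) ∧
      (∀ w, (∀ a, φ (c3 P w a) = 1) → w = 1) ∧
      Nat.card (psi φ).ker = Nat.card (L2 P) ∧
      ∀ a b, (∀ w, φ (c3 P w a) = 1) → (∀ w, φ (c3 P w b) = 1) → c2 P a b = 1 := by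
  set R : Subgroup (Abelianization P) := (psi φ).ker with hR
  set U : Subgroup (L2 P) := (psi φ).flip.ker with hU
  have hmem : ∀ a, a ∈ R ↔ ∀ w, φ (c3 P w a) = 1 := fun a => by
    rw [hR, MonoidHom.mem_ker]
    exact ⟨fun h w => DFunLike.congr_fun h w, fun h => MonoidHom.ext h⟩
  have hmemU : ∀ w, w ∈ U ↔ ∀ a, φ (c3 P w a) = 1 := fun w => by
    rw [hU, MonoidHom.mem_ker]
    exact ⟨fun h a => DFunLike.congr_fun h a, fun h => MonoidHom.ext h⟩
  have hiso : ∀ a ∈ R, ∀ b ∈ R, c2 P a b ∈ U := fun a ha b hb => by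
    rw [hmemU]
    intro d
    have h := congrArg φ (jacobi a b d)
    rwa [map_mul, map_mul, (hmem a).1 ha, (hmem b).1 hb, mul_one, mul_one, map_one] at h
  set A := Nat.card (Abelianization P)
  set B := Nat.card (L2 P)
  have h1 : A * Nat.card U ≤ Nat.card R * B := by
    have h := R.card_mul_index
    rw [hR, Subgroup.index_ker] at h
    have hrange : Nat.card (psi φ).range ≤ U.index := by
      haveI : Finite (L2 P ⧸ U →* ℂˣ) := by infer_instance
      rw [Subgroup.index_eq_card, ← Four.card_hom (L2 P ⧸ U)]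
      refine Nat.card_le_card_of_injective (fun x : (psi φ).range =>
        QuotientGroup.lift U x.1 fun w hw => MonoidHom.mem_ker.2 ?_) fun x y hxy => Subtype.ext ?_
      · obtain ⟨a, ha⟩ := x.2
        rw [← ha]
        exact (hmemU w).1 hw a
      · exact MonoidHom.ext fun w => DFunLike.congr_fun hxy (QuotientGroup.mk w)
    calc A * Nat.card U = Nat.card R * Nat.card (psi φ).range * Nat.card U :=
        congrArg (· * Nat.card U) h.symm
      _ ≤ Nat.card R * U.index * Nat.card U :=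
        Nat.mul_le_mul_right _ (Nat.mul_le_mul_left _ hrange)
      _ = Nat.card R * B := by rw [mul_assoc, mul_comm U.index, Subgroup.card_mul_index]
  have h2 : Nat.card R * Nat.card R ≤ A := by
    obtain ⟨χ, hχU, hχ⟩ : ∃ χ : L2 P →* ℂˣ, (∀ w ∈ U, χ w = 1) ∧ χ ≠ 1 := by
      obtain ⟨w, hw⟩ : ∃ w, w ∉ U := by
        by_contra h
        push Not at h
        exact hφ (L3_generated φ fun w a => (hmemU w).1 (h w) a)
      by_contra hcon
      push Not at hcon
      refine hw ((QuotientGroup.eq_one_iff w).1 (Four.eq_one_of_forall fun χ => ?_))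
      exact DFunLike.congr_fun (hcon (χ.comp (QuotientGroup.mk' U)) fun w' hw' => by
        rw [MonoidHom.comp_apply, show QuotientGroup.mk' U w' = 1 from
          (QuotientGroup.eq_one_iff w').2 hw', map_one]) w
    have h := R.card_mul_index
    rw [show A = Nat.card (Abelianization P) from rfl, ← h]
    refine Nat.mul_le_mul_left _ ?_
    rw [Subgroup.index_eq_card, ← Four.card_hom (Abelianization P ⧸ R)]
    haveI : Finite (Abelianization P ⧸ R →* ℂˣ) := by infer_instance
    refine Nat.card_le_card_of_injective (fun r : R =>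
      QuotientGroup.lift R (χ.comp (c2 P r)) fun r' hr' =>
        MonoidHom.mem_ker.2 (hχU _ (hiso r r.2 r' hr'))) fun r r' hrr => ?_
    by_contra hne
    refine hχ (MonoidHom.ext fun w => ?_)
    have hne' : (r : Abelianization P) / r' ≠ 1 := fun h0 => hne (Subtype.ext (div_eq_one.1 h0))
    obtain ⟨b, rfl⟩ := hC.c2_surjective hne' w
    have h3 : χ (c2 P r b) = χ (c2 P r' b) := DFunLike.congr_fun hrr (QuotientGroup.mk b)
    rw [map_div, MonoidHom.div_apply, map_div, h3, div_self', MonoidHom.one_apply]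
  have h3 := hC.card_sq
  change B * B ≤ A at h3
  have hB := hC.one_lt_B
  change 1 < B at hB
  set U' := Nat.card U
  set R' := Nat.card R
  have hUpos : 0 < U' := Nat.card_pos
  have hApos : 0 < A := Nat.card_pos
  have hU1 : U' = 1 := by
    have h4 : A * U' * (A * U') ≤ A * A := by
      calc A * U' * (A * U') ≤ R' * B * (R' * B) := Nat.mul_le_mul h1 h1
        _ = R' * R' * (B * B) := by ring
        _ ≤ A * A := Nat.mul_le_mul h2 h3
    by_contra hne
    have h5 : 2 ≤ U' := by omega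
    have h6 : A * 2 * (A * 2) ≤ A * A :=
      le_trans (Nat.mul_le_mul (Nat.mul_le_mul_left A h5) (Nat.mul_le_mul_left A h5)) h4
    nlinarith
  rw [hU1, mul_one] at h1
  have hA : A = B * B := le_antisymm (Nat.le_of_mul_le_mul_left
    (by calc A * A ≤ R' * B * (R' * B) := Nat.mul_le_mul h1 h1
          _ = R' * R' * (B * B) := by ring
          _ ≤ A * (B * B) := Nat.mul_le_mul_right _ h2) hApos) h3
  have hUbot : U = ⊥ := Subgroup.card_eq_one.1 hU1
  refine ⟨hA, fun w hw => ?_, le_antisymm ?_ ?_, fun a b ha hb => ?_⟩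
  · rw [← Subgroup.mem_bot, ← hUbot, hmemU]
    exact hw
  · exact Nat.mul_self_le_mul_self_iff.1 (h2.trans hA.le)
  · exact Nat.le_of_mul_le_mul_right (hA ▸ h1) (by omega)
  · have := hiso a ((hmem a).2 ha) b ((hmem b).2 hb)
    rwa [hUbot, Subgroup.mem_bot] at this

omit [Finite P] hC in
theorem cl2_fixed {t : MulAut P} (h2 : ∀ x ∈ commutator P, t x * x⁻¹ ∈ g3 P)
    (u : ↥(commutator P)) : cl2 ⟨t u, mem_commutator_map t u.2⟩ = cl2 u := by
  rw [← div_eq_one, ← map_div, cl2_eq_one]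
  simpa [div_eq_mul_inv] using h2 u u.2

/-- No character of the third layer is fixed by a power acting trivially on the second. -/
theorem not_fixed {m : ℕ} (hm : ¬ f ∣ m) (h2 : ∀ x ∈ commutator P, (σ ^ m) x * x⁻¹ ∈ g3 P)
    (φ : L3 P →* ℂˣ)
    (hinv : ∀ z : g3 P, φ (cl3 ⟨(σ ^ m) z, mem_g3_map _ z.2⟩) = φ (cl3 z)) : φ = 1 := by
  by_contra hφ
  obtain ⟨hA, -, hR, -⟩ := hC.macdonald φ hφ
  set t := σ ^ m with ht
  let T : Abelianization P →* Abelianization P := Abelianization.map t.toMonoidHom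
  have htop : (psi φ).ker = ⊤ := by
    rw [Subgroup.eq_top_iff']
    intro a
    obtain ⟨b, hb⟩ := surjective_div T (fun b hb => by
      obtain ⟨y, rfl⟩ := of_surj b
      refine (QuotientGroup.eq_one_iff y).2 (hC.fpf m hm y ?_)
      have h : Abelianization.of ((σ ^ m) y * y⁻¹) = 1 := by
        rw [map_mul, map_inv, mul_inv_eq_one]
        exact hb
      exact (QuotientGroup.eq_one_iff _).1 h) a
    rw [MonoidHom.mem_ker, ← hb]
    refine MonoidHom.ext fun w => ?_
    obtain ⟨y, rfl⟩ := of_surj b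
    obtain ⟨u, rfl⟩ := QuotientGroup.mk_surjective w
    show psi φ (T (Abelianization.of y) / Abelianization.of y) (cl2 u) = 1
    rw [map_div, MonoidHom.div_apply, div_eq_one, psi_apply, psi_apply]
    refine (congrArg (fun w => φ (c3 P w (T (Abelianization.of y)))) (cl2_fixed h2 u).symm).trans ?_
    rw [c3_apply, ← hinv]
    show φ (c3 P (cl2 ⟨t u, mem_commutator_map t u.2⟩) (Abelianization.of (t y))) = _
    rw [c3_apply]
    refine congrArg (fun z => φ (cl3 z)) (Subtype.ext ?_)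
    show ⁅t (u : P), t y⁆ = t ⁅(u : P), y⁆
    exact (map_commutatorElement t.toMonoidHom _ _).symm
  rw [htop, Subgroup.card_top, hA] at hR
  have := hC.one_lt_B
  exact absurd (Nat.eq_of_mul_eq_mul_right (by omega) (hR.trans (one_mul _).symm)) (by omega)

theorem mem_g4_of_fixed {m : ℕ} (hm : ¬ f ∣ m)
    (h2 : ∀ x ∈ commutator P, (σ ^ m) x * x⁻¹ ∈ g3 P) {z : P} (hz : z ∈ g3 P)
    (hfix : (σ ^ m) z * z⁻¹ ∈ g4 P) : z ∈ g4 P := by
  let S : ↥(g3 P) →* ↥(g3 P) :=
    { toFun := fun z => ⟨(σ ^ m) z, mem_g3_map _ z.2⟩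
      map_one' := Subtype.ext (map_one _)
      map_mul' := fun x y => Subtype.ext (map_mul (σ ^ m) x.1 y.1) }
  let T : L3 P →* L3 P := QuotientGroup.map _ _ S fun x hx => mem_g4_map _ hx
  refine (cl3_eq_one (z := ⟨z, hz⟩)).1 (eq_one_of_no_fixed_char T (fun χ hχ => ?_) ?_)
  · exact hC.not_fixed hm h2 χ fun z => DFunLike.congr_fun hχ (cl3 z)
  · show cl3 (S ⟨z, hz⟩) = cl3 ⟨z, hz⟩
    rw [← div_eq_one, ← map_div, cl3_eq_one]
    simpa [S, div_eq_mul_inv] using hfix

/-- The second layer has exponent `q` modulo the fourth term. -/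
theorem pow_mem_g4 {m : ℕ} (hm : ¬ f ∣ m)
    (h2 : ∀ x ∈ commutator P, (σ ^ m) x * x⁻¹ ∈ g3 P) {u : P} (hu : u ∈ commutator P) :
    u ^ q ∈ g4 P := by
  have hu3 : u ^ q ∈ g3 P := by
    have h := hC.exp2 (cl2 ⟨u, hu⟩)
    rw [← map_pow, cl2_eq_one] at h
    simpa using h
  refine hC.mem_g4_of_fixed hm h2 hu3 ?_
  set π := QuotientGroup.mk' (g4 P)
  set z := (σ ^ m) u * u⁻¹ with hzdef
  have hz : z ∈ g3 P := h2 u hu
  have hcz : Commute (π z) (π u) := commutatorElement_eq_one_iff_mul_comm.1 (by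
    rw [← map_commutatorElement]
    exact (QuotientGroup.eq_one_iff _).2
      (Subgroup.commutator_mem_commutator hz (Subgroup.mem_top u)))
  have hzq : π z ^ q = 1 := by
    rw [← map_pow]
    refine (QuotientGroup.eq_one_iff _).2 ?_
    have h := hC.exp3 (cl3 ⟨z, hz⟩)
    rw [← map_pow, cl3_eq_one] at h
    simpa using h
  refine (QuotientGroup.eq_one_iff _).1 (?_ : π ((σ ^ m) (u ^ q) * (u ^ q)⁻¹) = 1)
  rw [map_pow (σ ^ m), show (σ ^ m) u = z * u by rw [hzdef, inv_mul_cancel_right], map_mul π,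
    map_pow, map_mul π z u, hcz.mul_pow, hzq, one_mul, map_inv, map_pow, mul_inv_cancel]

/-- A nonzero third layer forces an odd prime. -/
theorem odd {m : ℕ} (hm : ¬ f ∣ m) (h2 : ∀ x ∈ commutator P, (σ ^ m) x * x⁻¹ ∈ g3 P)
    (φ : L3 P →* ℂˣ) (hφ : φ ≠ 1) : q ≠ 2 := by
  rintro rfl
  obtain ⟨hA, hU, hR, hiso⟩ := hC.macdonald φ hφ
  set R := (psi φ).ker with hRdef
  have hmem : ∀ a, a ∈ R ↔ ∀ w, φ (c3 P w a) = 1 := fun a => by
    rw [hRdef, MonoidHom.mem_ker]
    exact ⟨fun h w => DFunLike.congr_fun h w, fun h => MonoidHom.ext h⟩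
  have hkey : ∀ r ∈ R, ∀ b, φ (c3 P (c2 P r b) b) = 1 := by
    intro r hr b
    obtain ⟨x, rfl⟩ := of_surj r
    obtain ⟨y, rfl⟩ := of_surj b
    have hy2 : y * y ∈ commutator P := by
      have h := hC.exp1 (Abelianization.of y)
      rw [pow_two, ← map_mul] at h
      exact (QuotientGroup.eq_one_iff _).1 h
    set v := ⁅x, y⁆ with hv
    have hv2 : v ∈ commutator P :=
      Subgroup.commutator_mem_commutator (Subgroup.mem_top x) (Subgroup.mem_top y)
    have hvv : v * v ∈ g4 P := pow_two v ▸ hC.pow_mem_g4 hm h2 hv2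
    have h : cl3 ⟨⁅v, y⁆, mem_g3_of_comm hv2⟩ = cl3 ⟨⁅y * y, x⁆, mem_g3_of_comm hy2⟩ := by
      refine QuotientGroup.eq.2 ?_
      show ⁅v, y⁆⁻¹ * ⁅y * y, x⁆ ∈ g4 P
      have e : ⁅v, y⁆⁻¹ * ⁅y * y, x⁆ = ⁅v, y⁆⁻¹ * (v⁻¹ * ⁅v, y⁆ * v) * (v * v)⁻¹ := by
        simp only [hv, commutatorElement_def]
        group
      rw [e]
      refine mul_mem ?_ (inv_mem hvv)
      have h4 : ⁅⁅v, y⁆⁻¹, v⁻¹⁆ ∈ g4 P :=
        Subgroup.commutator_mem_commutator (inv_mem (mem_g3_of_comm hv2)) (Subgroup.mem_top _)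
      rw [show ⁅v, y⁆⁻¹ * (v⁻¹ * ⁅v, y⁆ * v) = ⁅⁅v, y⁆⁻¹, v⁻¹⁆ by
        simp only [commutatorElement_def]; group]
      exact h4
    have h5 := (hmem _).1 hr (cl2 ⟨y * y, hy2⟩)
    rw [c3_apply, ← h] at h5
    exact h5
  let β : Abelianization P →* Abelianization P →* (R →* ℂˣ) :=
    MonoidHom.mk' (fun b => MonoidHom.mk' (fun d =>
      MonoidHom.mk' (fun r : R => φ (c3 P (c2 P r b) d)) fun r r' => by
        simp) fun d d' => MonoidHom.ext fun r => by simp) fun b b' =>
      MonoidHom.ext fun d => MonoidHom.ext fun r => by simp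
  have hleft : R ≤ β.ker := fun b hb => MonoidHom.mem_ker.2 (MonoidHom.ext fun d =>
    MonoidHom.ext fun r => by
      show φ (c3 P (c2 P r b) d) = 1
      rw [hiso r b ((hmem _).1 r.2) ((hmem _).1 hb), map_one, MonoidHom.one_apply, map_one])
  let β' := descend β R R hleft fun d hd b => MonoidHom.ext fun r => (hmem d).1 hd _
  haveI : Fact (Nat.Prime 2) := ⟨Nat.prime_two⟩
  haveI : Finite (R →* ℂˣ) := by infer_instance
  have hB := hC.one_lt_B
  have hidx : R.index = Nat.card (L2 P) := Nat.eq_of_mul_eq_mul_left (Nat.card_pos (α := R))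
    (R.card_mul_index.trans (hA.trans (by rw [hR])))
  haveI : Nontrivial (Abelianization P ⧸ R) := by
    rw [← Finite.one_lt_card_iff_nontrivial, ← Subgroup.index_eq_card, hidx]
    exact hB
  have hle := card_sq_le (p := 2) (Z := R →* ℂˣ) (A := Abelianization P ⧸ R) (fun z => ?_) β'
    (fun a => ?_) (fun χ hχ a ha => ?_)
  · rw [Four.card_hom, hR, (Subgroup.index_eq_card R).symm, hidx] at hle
    nlinarith
  · refine MonoidHom.ext fun r => ?_
    rw [MonoidHom.pow_apply, ← map_pow, show r ^ 2 = 1 from Subtype.ext (hC.exp1 r), map_one,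
      MonoidHom.one_apply]
  · induction a using QuotientGroup.induction_on with
    | H b => exact MonoidHom.ext fun r => hkey r r.2 b
  · induction a using QuotientGroup.induction_on with
    | H b =>
      haveI : NeZero (Monoid.exponent R : ℂ) :=
        ⟨Nat.cast_ne_zero.2 Monoid.exponent_ne_zero_of_finite⟩
      obtain ⟨r, hr⟩ : ∃ r : R, ∀ ψ : R →* ℂˣ, χ ψ = ψ r :=
        ⟨CommGroup.monoidHomMonoidHomEquiv R ℂ χ, fun ψ =>
          (CommGroup.apply_monoidHomMonoidHomEquiv ℂ ψ χ).symm⟩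
      have hb : b ∉ R := fun h => ha ((QuotientGroup.eq_one_iff b).2 h)
      have hr1 : (r : Abelianization P) ≠ 1 := fun h => hχ (MonoidHom.ext fun ψ => by
        rw [hr, show r = 1 from Subtype.ext h, map_one, MonoidHom.one_apply])
      have hw : c2 P r b ≠ 1 := fun h => by
        apply hb
        have hRker : R = (c2 P r).ker := by
          refine Subgroup.eq_of_le_of_card_ge (fun y hy => MonoidHom.mem_ker.2
            (hiso r y ((hmem _).1 r.2) ((hmem _).1 hy))) ?_
          have h6 := (c2 P r).ker.card_mul_index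
          rw [Subgroup.index_ker, MonoidHom.range_eq_top.2 (hC.c2_surjective hr1),
            Subgroup.card_top, hA] at h6
          rw [hR]
          exact (Nat.eq_of_mul_eq_mul_right (by omega) h6).le
        rw [hRker, MonoidHom.mem_ker]
        exact h
      obtain ⟨d, hd⟩ := not_forall.1 fun h => hw (hU _ h)
      exact ⟨QuotientGroup.mk d, fun h => hd ((hr _).symm.trans h)⟩

end Cam

end CfsgLib.NoDiv
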