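import Cfsg.Agent.Lib.NoDiv.Noncentral
import Cfsg.Agent.Lib.NoDiv.Alt

/-!
# A central bottom: fully ramified characters and the commutator pairing
-/

set_option autoImplicit false

open scoped Classical commutatorElement
open CfsgLib CfsgLib.DegGraph

namespace CfsgLib.NoDiv

universe u

variable {G : Type u} [Group G] [Finite G] {N : Subgroup G} [N.Normal] {q : ℕ}

namespace AbLayer

variable {L Q : Subgroup G} [L.Normal] {c : G} (hF : Frob N q) (hA : AbLayer N q L Q c)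
  {K : Subgroup G} (hK : Bottom L K) (hcen : ⁅⁅L, L⁆, L⁆ ≤ K)

omit [Finite G] [L.Normal] in
theorem derived_le (L : Subgroup G) : ⁅L, L⁆ ≤ L :=
  Subgroup.commutator_le.2 fun a ha b hb => by
    rw [commutatorElement_def]
    exact mul_mem (mul_mem (mul_mem ha hb) (inv_mem ha)) (inv_mem hb)

omit [Finite G] in
include hcen in
/-- `L` fixes the characters of a central bottom. -/
theorem le_stab_bottom {v : ↥⁅L, L⁆ →* ℂˣ} (hv : v ∈ annChars ⁅L, L⁆ K) : L ≤ stab v := by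
  refine fun l hl => mem_stab.2 (MonoidHom.ext fun x => ?_)
  show v ⟨l * x * l⁻¹, (inferInstance : (⁅L, L⁆).Normal).conj_mem x x.2 l⟩ = v x
  have hk : ⁅(x : G)⁻¹, l⁆ ∈ K := hcen (Subgroup.commutator_mem_commutator (inv_mem x.2) hl)
  have hkM : ⁅(x : G)⁻¹, l⁆ ∈ ⁅L, L⁆ :=
    Subgroup.commutator_mem_commutator (inv_mem (derived_le L x.2)) hl
  have e : (⟨l * x * l⁻¹, (inferInstance : (⁅L, L⁆).Normal).conj_mem x x.2 l⟩ : ↥⁅L, L⁆) =
      x * ⟨⁅(x : G)⁻¹, l⁆, hkM⟩ := Subtype.ext (by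
    show l * x * l⁻¹ = x * ⁅(x : G)⁻¹, l⁆
    rw [commutatorElement_def]; group)
  rw [e, map_mul, hv ⟨_, hkM⟩ hk, mul_one]

include hF hA hK hcen

/-- A character above a nontrivial character of the bottom restricts homogeneously. -/
theorem exists_over_bottom [Fintype L] {v : ↥⁅L, L⁆ →* ℂˣ} (hv : v ∈ annChars ⁅L, L⁆ K)
    (hv1 : v ≠ 1) : ∃ ξ : Cfsg.IrrCharacter L, Cfsg.charDegree (ξ : L → ℂ) ≠ 1 ∧
      ∀ (x : G) (hx : x ∈ ⁅L, L⁆),
        (ξ : L → ℂ) ⟨x, derived_le L hx⟩ = (ξ : L → ℂ) 1 * (v ⟨x, hx⟩ : ℂ) := by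
  have hML : ⁅L, L⁆ ≤ L := derived_le L
  haveI : ((⁅L, L⁆).subgroupOf L).Normal := Subgroup.normal_subgroupOf
  haveI := Fintype.ofFinite ((⁅L, L⁆).subgroupOf L)
  let eM := Subgroup.subgroupOfEquivOfLe hML
  let lv : (⁅L, L⁆).subgroupOf L →* ℂˣ := v.comp eM.toMonoidHom
  obtain ⟨ξ, hξ⟩ := Blk83.exists_over ((⁅L, L⁆).subgroupOf L) ⟨_, Char.isIrrCharacter_linear lv⟩
  have hres := Char.restrict_eq_smul_sum_conj ((⁅L, L⁆).subgroupOf L) (ξ : L → ℂ) ξ.2 _
    (Char.isIrrCharacter_linear lv) hξ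
  have hconj : {ψ : (⁅L, L⁆).subgroupOf L → ℂ | ∃ g : L, ψ = CharTwist.conjFun ((⁅L, L⁆).subgroupOf L)
      (fun m => (lv m : ℂ)) g} = {fun m => (lv m : ℂ)} := by
    refine Set.eq_singleton_iff_unique_mem.2 ⟨⟨1, (CharTwist.conjFun_one _ _).symm⟩, ?_⟩
    rintro _ ⟨g, rfl⟩
    funext m
    refine congrArg Units.val ?_
    exact (congrArg v (Subtype.ext rfl)).trans
      (DFunLike.congr_fun (mem_stab.1 (le_stab_bottom hcen hv g.2)) (eM m))
  rw [hconj, finsum_mem_singleton] at hres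
  set a := Cfsg.classInner (fun x : (⁅L, L⁆).subgroupOf L => (ξ : L → ℂ) x) (fun m => (lv m : ℂ))
  have ha : a = (ξ : L → ℂ) 1 := by
    have h := congrFun hres 1
    simpa [lv] using h.symm
  have hval : ∀ (x : G) (hx : x ∈ ⁅L, L⁆),
      (ξ : L → ℂ) ⟨x, hML hx⟩ = (ξ : L → ℂ) 1 * (v ⟨x, hx⟩ : ℂ) := by
    intro x hx
    have h := congrFun hres ⟨⟨x, hML hx⟩, hx⟩
    rw [ha] at h
    exact h
  refine ⟨ξ, fun h1 => hv1 (MonoidHom.ext fun x => Units.ext ?_), hval⟩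
  obtain ⟨μ, hμ⟩ := CharDeep.Lin.exists_hom_of_deg_one (Char.IsIrrCharacter.isCharacter ξ.2)
    (by rw [← CharTools.irr_degree_cast, h1, Nat.cast_one])
  have h := hval x x.2
  rw [hμ, hμ, map_one, apply_eq_one_of_mem_derived _ x.2 μ, Units.val_one, one_mul] at h
  exact h.symm

/-- The inertia groups of the character and of the bottom agree. -/
theorem mem_inertia_iff [Fintype L] {v : ↥⁅L, L⁆ →* ℂˣ} (hv1 : v ≠ 1) (ξ : Cfsg.IrrCharacter L)
    (h1 : Cfsg.charDegree (ξ : L → ℂ) ≠ 1) (hval : ∀ (x : G) (hx : x ∈ ⁅L, L⁆),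
      (ξ : L → ℂ) ⟨x, derived_le L hx⟩ = (ξ : L → ℂ) 1 * (v ⟨x, hx⟩ : ℂ)) (g : G) :
    g ∈ CharTwist.inertia L (ξ : L → ℂ) ↔ g ∈ stab v := by
  have hmem : ∀ x : G, x ∈ ⁅L, L⁆ → g * x * g⁻¹ ∈ ⁅L, L⁆ := fun x hx =>
    (inferInstance : (⁅L, L⁆).Normal).conj_mem x hx g
  rw [CharTwist.mem_inertia, mem_stab]
  constructor
  · intro h
    refine MonoidHom.ext fun x => Units.ext ?_
    have h2 := congrFun h ⟨x, derived_le L x.2⟩
    simp only [CharTwist.conjFun] at h2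
    rw [hval _ (hmem x x.2), hval _ x.2] at h2
    exact mul_left_cancel₀ (CharTools.irr_apply_one_ne_zero ξ) h2
  · intro h
    funext n
    simp only [CharTwist.conjFun]
    by_cases hn : (n : G) ∈ ⁅L, L⁆
    · exact (hval _ (hmem n hn)).trans ((congrArg (fun z : ℂˣ => (ξ : L → ℂ) 1 * (z : ℂ))
        (DFunLike.congr_fun h ⟨n, hn⟩)).trans (hval _ hn).symm)
    · rw [hA.vanish hF ξ h1 _ fun h2 => hn (by
        have h3 := (inferInstance : (⁅L, L⁆).Normal).conj_mem _ h2 g⁻¹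
        simpa [mul_assoc] using h3), hA.vanish hF ξ h1 n hn]

/-- The commutator pairing of a nontrivial character of the bottom is nondegenerate. -/
theorem nondegenerate {v : ↥⁅L, L⁆ →* ℂˣ} (hv : v ∈ annChars ⁅L, L⁆ K) (hv1 : v ≠ 1) {a : G}
    (ha : a ∈ L)
    (h : ∀ b (hb : b ∈ L), v ⟨⁅a, b⁆, Subgroup.commutator_mem_commutator ha hb⟩ = 1) :
    a ∈ ⁅L, L⁆ := by
  haveI := Fintype.ofFinite L
  have hML : ⁅L, L⁆ ≤ L := derived_le L
  by_contra haM
  let f : L → ℂ := fun x => if hx : a⁻¹ * (x : G) ∈ ⁅L, L⁆ then (v ⟨_, hx⟩ : ℂ) else 0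
  have hclass : Cfsg.IsClassFunction L f := by
    intro x b
    have hkey : ∀ (x b : L) (hx : a⁻¹ * (x : G) ∈ ⁅L, L⁆),
        ∃ hy : a⁻¹ * ((b * x * b⁻¹ : L) : G) ∈ ⁅L, L⁆, v ⟨_, hy⟩ = v ⟨_, hx⟩ := by
      intro x b hx
      have hc : ⁅a⁻¹, (b : G)⁆ ∈ ⁅L, L⁆ := Subgroup.commutator_mem_commutator (inv_mem ha) b.2
      have hz : (b : G) * (a⁻¹ * (x : G)) * (b : G)⁻¹ ∈ ⁅L, L⁆ :=
        (inferInstance : (⁅L, L⁆).Normal).conj_mem _ hx _
      have e : a⁻¹ * ((b * x * b⁻¹ : L) : G) =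
          ⁅a⁻¹, (b : G)⁆ * ((b : G) * (a⁻¹ * (x : G)) * (b : G)⁻¹) := by
        rw [commutatorElement_def]; simp [mul_assoc]
      refine ⟨e ▸ mul_mem hc hz, ?_⟩
      rw [show (⟨_, e ▸ mul_mem hc hz⟩ : ↥⁅L, L⁆) = ⟨_, hc⟩ * ⟨_, hz⟩ from Subtype.ext e, map_mul]
      have h2 : v ⟨_, hz⟩ = v ⟨_, hx⟩ :=
        DFunLike.congr_fun (mem_stab.1 (le_stab_bottom hcen hv b.2)) ⟨_, hx⟩
      have h3 : v ⟨_, hc⟩ = 1 := by
        have hm : ⁅(b : G), a⁆ ∈ ⁅L, L⁆ := Subgroup.commutator_mem_commutator b.2 ha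
        have h4 : v ⟨⁅(b : G), a⁆, hm⟩ = 1 := by
          rw [show (⟨⁅(b : G), a⁆, hm⟩ : ↥⁅L, L⁆) =
            (⟨⁅a, (b : G)⁆, Subgroup.commutator_mem_commutator ha b.2⟩ : ↥⁅L, L⁆)⁻¹ from
              Subtype.ext (commutatorElement_inv a (b : G)).symm, map_inv, h _ b.2, inv_one]
        have h5 := DFunLike.congr_fun (mem_stab.1 (le_stab_bottom hcen hv (inv_mem ha)))
          ⟨⁅(b : G), a⁆, hm⟩
        rw [h4] at h5
        refine Eq.trans (congrArg v (Subtype.ext ?_)) h5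
        show ⁅a⁻¹, (b : G)⁆ = a⁻¹ * ⁅(b : G), a⁆ * a⁻¹⁻¹
        rw [commutatorElement_def, commutatorElement_def]
        group
      rw [h2, h3, one_mul]
    by_cases hx : a⁻¹ * (x : G) ∈ ⁅L, L⁆
    · obtain ⟨hy, he⟩ := hkey x b hx
      simp only [f, dif_pos hx, dif_pos hy, he]
    · simp only [f, dif_neg hx]
      rw [dif_neg]
      intro hy
      obtain ⟨hz, -⟩ := hkey _ b⁻¹ hy
      exact hx (by simpa [mul_assoc] using hz)
  have hzero : f = 0 := by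
    refine Char.eq_zero_of_forall_classInner_eq_zero hclass fun χ hχ => ?_
    unfold Cfsg.classInner
    refine mul_eq_zero_of_right _ ?_
    by_cases hd : Cfsg.charDegree χ = 1
    · -- linear characters are constant on the coset
      obtain ⟨μ, hμ⟩ := CharDeep.Lin.exists_hom_of_deg_one (Char.IsIrrCharacter.isCharacter hχ)
        ((CharTools.irr_degree_cast ⟨χ, hχ⟩).symm.trans (by simp [hd]))
      obtain ⟨z, hz⟩ := not_forall.1 fun h0 => hv1 (MonoidHom.ext h0)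
      set S := ∑ x : L, f x * (starRingEnd ℂ) (χ x)
      have hμz : μ ⟨z, hML z.2⟩ = 1 := apply_eq_one_of_mem_derived _ z.2 μ
      have hshift : S = (v z : ℂ) * S := by
        rw [Finset.mul_sum]
        refine (Fintype.sum_equiv (Equiv.mulRight (⟨z, hML z.2⟩ : L)) _ _ fun x => ?_).symm
        simp only [f, Equiv.coe_mulRight, hμ, map_mul, hμz, mul_one, Subgroup.coe_mul]
        by_cases hx : a⁻¹ * (x : G) ∈ ⁅L, L⁆
        · have hx' : a⁻¹ * ((x : G) * z) ∈ ⁅L, L⁆ := by rw [← mul_assoc]; exact mul_mem hx z.2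
          rw [dif_pos hx, dif_pos hx', ← mul_assoc, ← Units.val_mul, mul_comm (v z), ← map_mul]
          congr 3
          exact Subtype.ext (by simp [mul_assoc])
        · rw [dif_neg hx, dif_neg, zero_mul, mul_zero]
          intro hx'
          exact hx (by rw [← mul_assoc] at hx'; exact (mul_mem_cancel_right z.2).1 hx')
      by_contra hS
      exact hz (Units.ext (mul_right_cancel₀ hS (hshift.symm.trans (one_mul S).symm)))
    · refine Finset.sum_eq_zero fun x _ => ?_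
      by_cases hx : a⁻¹ * (x : G) ∈ ⁅L, L⁆
      · rw [show χ x = 0 from hA.vanish hF ⟨χ, hχ⟩ hd x (fun hxM => haM ?_), map_zero, mul_zero]
        rw [show a = (x : G) * (a⁻¹ * (x : G))⁻¹ by group]
        exact mul_mem hxM (inv_mem hx)
      · simp only [f, dif_neg hx, zero_mul]
  have h1 := congrFun hzero ⟨a, ha⟩
  have hone : a⁻¹ * a ∈ ⁅L, L⁆ := by rw [inv_mul_cancel]; exact one_mem _
  simp only [f, dif_pos hone, Pi.zero_apply] at h1
  exact (v ⟨a⁻¹ * a, hone⟩).ne_zero h1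

/-- The bottom has exponent `p` and is at most the square root of `L / L'`. -/
theorem bottom_facts {p : ℕ} (hp : p.Prime) (hV : IsPGroup p (L →* ℂˣ)) :
    (∀ x ∈ ⁅L, L⁆, x ^ p ∈ K) ∧
    Nat.card (annChars ⁅L, L⁆ K) * Nat.card (annChars ⁅L, L⁆ K) ≤ Nat.card (L →* ℂˣ) := by
  haveI := hK.normal
  haveI : Fact p.Prime := ⟨hp⟩
  have hML : ⁅L, L⁆ ≤ L := derived_le L
  haveI : (K.subgroupOf ⁅L, L⁆).Normal := Subgroup.normal_subgroupOf
  letI : CommGroup (↥⁅L, L⁆ ⧸ K.subgroupOf ⁅L, L⁆) :=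
    { (inferInstance : Group (↥⁅L, L⁆ ⧸ K.subgroupOf ⁅L, L⁆)) with
      mul_comm := by
        intro a b
        obtain ⟨a, rfl⟩ := QuotientGroup.mk_surjective a
        obtain ⟨b, rfl⟩ := QuotientGroup.mk_surjective b
        refine QuotientGroup.eq.2 ?_
        rw [show (a * b)⁻¹ * (b * a) = ⁅b⁻¹, a⁻¹⁆ by rw [commutatorElement_def]; group]
        exact hK.abelian (Subgroup.commutator_mem_commutator (inv_mem b.2) (inv_mem a.2)) }
  let π : ↥⁅L, L⁆ →* (↥⁅L, L⁆ ⧸ K.subgroupOf ⁅L, L⁆) := QuotientGroup.mk' _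
  let br : L → L → (↥⁅L, L⁆ ⧸ K.subgroupOf ⁅L, L⁆) := fun a b =>
    π ⟨⁅(a : G), (b : G)⁆, Subgroup.commutator_mem_commutator a.2 b.2⟩
  have hconjK : ∀ (l : L) (z : G) (hz : z ∈ ⁅L, L⁆),
      π ⟨(l : G) * z * (l : G)⁻¹, (inferInstance : (⁅L, L⁆).Normal).conj_mem z hz _⟩ = π ⟨z, hz⟩ := by
    intro l z hz
    refine QuotientGroup.eq.2 ?_
    show ((l : G) * z * (l : G)⁻¹)⁻¹ * z ∈ K
    rw [show ((l : G) * z * (l : G)⁻¹)⁻¹ * z = ⁅(z⁻¹), (l : G)⁆⁻¹ by
      rw [commutatorElement_def]; group]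
    exact inv_mem (hcen (Subgroup.commutator_mem_commutator (inv_mem hz) l.2))
  have hright : ∀ a b d : L, br a (b * d) = br a b * br a d := by
    intro a b d
    show π _ = π _ * π _
    rw [← hconjK b ⁅(a : G), (d : G)⁆ (Subgroup.commutator_mem_commutator a.2 d.2), ← map_mul]
    refine congrArg π (Subtype.ext ?_)
    show ⁅(a : G), (b : G) * d⁆ = ⁅(a : G), (b : G)⁆ * ((b : G) * ⁅(a : G), (d : G)⁆ * (b : G)⁻¹)
    simp only [commutatorElement_def]
    group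
  have hleft : ∀ a b d : L, br (a * b) d = br a d * br b d := by
    intro a b d
    show π _ = π _ * π _
    rw [mul_comm, ← hconjK a ⁅(b : G), (d : G)⁆ (Subgroup.commutator_mem_commutator b.2 d.2),
      ← map_mul]
    refine congrArg π (Subtype.ext ?_)
    show ⁅(a : G) * b, (d : G)⁆ = ((a : G) * ⁅(b : G), (d : G)⁆ * (a : G)⁻¹) * ⁅(a : G), (d : G)⁆
    simp only [commutatorElement_def]
    group
  let β₁ : L → (Abelianization L →* (↥⁅L, L⁆ ⧸ K.subgroupOf ⁅L, L⁆)) := fun a =>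
    Abelianization.lift (MonoidHom.mk' (br a) (hright a))
  let β : Abelianization L →* Abelianization L →* (↥⁅L, L⁆ ⧸ K.subgroupOf ⁅L, L⁆) :=
    Abelianization.lift (MonoidHom.mk' β₁ fun a b => Abelianization.hom_ext _ _
      (MonoidHom.ext fun d => by
        simp only [MonoidHom.comp_apply, MonoidHom.mul_apply, β₁, Abelianization.lift_apply_of,
          MonoidHom.mk'_apply]
        exact hleft a b d))
  haveI : NeZero (Monoid.exponent (↥⁅L, L⁆ ⧸ K.subgroupOf ⁅L, L⁆) : ℂ) :=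
    ⟨Nat.cast_ne_zero.2 Monoid.exponent_ne_zero_of_finite⟩
  haveI : NeZero (Monoid.exponent (Abelianization L) : ℂ) :=
    ⟨Nat.cast_ne_zero.2 Monoid.exponent_ne_zero_of_finite⟩
  let eW : annChars ⁅L, L⁆ K ≃ ((↥⁅L, L⁆ ⧸ K.subgroupOf ⁅L, L⁆) →* ℂˣ) :=
    { toFun := fun v => QuotientGroup.lift _ v.1 fun x hx => v.2 x hx
      invFun := fun χ => ⟨χ.comp π, fun x hx => by
        rw [MonoidHom.comp_apply, show π x = 1 from (QuotientGroup.eq_one_iff x).2 hx, map_one]⟩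
      left_inv := fun v => Subtype.ext (MonoidHom.ext fun x => rfl)
      right_inv := fun χ => MonoidHom.ext fun z => QuotientGroup.induction_on z fun x => rfl }
  obtain ⟨v₀, hv₀⟩ := hA.nontriv
  haveI : Nontrivial (Abelianization L) := by
    by_contra h
    rw [not_nontrivial_iff_subsingleton] at h
    refine hv₀ (MonoidHom.ext fun l => ?_)
    rw [← Abelianization.lift_apply_of v₀ l, Subsingleton.elim (Abelianization.of l) 1, map_one]
    rfl
  have hpp : ∀ a b : L, ∃ k : ℕ, br a b ^ p ^ k = 1 := by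
    intro a b
    obtain ⟨k, hk⟩ := hA.isPGroup_quot hF hp hV (a : G) a.2
    refine ⟨k, ?_⟩
    have h1 : br (a ^ p ^ k) b = br a b ^ p ^ k :=
      map_pow (MonoidHom.mk' (fun x => br x b) fun x y => hleft x y b) a (p ^ k)
    rw [← h1]
    refine (QuotientGroup.eq_one_iff _).2 ?_
    show ⁅((a ^ p ^ k : L) : G), (b : G)⁆ ∈ K
    rw [Subgroup.coe_pow]
    exact hcen (Subgroup.commutator_mem_commutator hk b.2)
  have hgenp : ∀ z : (↥⁅L, L⁆ ⧸ K.subgroupOf ⁅L, L⁆), ∃ k : ℕ, z ^ p ^ k = 1 := by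
    intro z
    obtain ⟨⟨x, hx⟩, rfl⟩ := QuotientGroup.mk_surjective z
    have hx' := hx
    rw [Subgroup.commutator_def] at hx'
    revert hx
    induction hx' using Subgroup.closure_induction with
    | mem y hy =>
      obtain ⟨a, ha, b, hb, rfl⟩ := hy
      intro hy'
      exact hpp ⟨a, ha⟩ ⟨b, hb⟩
    | one => intro hy'; exact ⟨0, (congrArg (· ^ p ^ 0) (map_one π)).trans (one_pow _)⟩
    | mul y z hy hz ihy ihz =>
      intro hyz
      have hyM : y ∈ ⁅L, L⁆ := hy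
      have hzM : z ∈ ⁅L, L⁆ := hz
      obtain ⟨i, hi⟩ := ihy hyM
      obtain ⟨j, hj⟩ := ihz hzM
      refine ⟨i + j, ?_⟩
      show π (⟨y, hyM⟩ * ⟨z, hzM⟩) ^ p ^ (i + j) = 1
      rw [map_mul, mul_pow, pow_add, pow_mul, mul_comm (p ^ i), pow_mul]
      rw [show π ⟨y, hyM⟩ ^ p ^ i = 1 from hi, show π ⟨z, hzM⟩ ^ p ^ j = 1 from hj, one_pow,
        one_pow, one_mul]
    | inv y hy ih =>
      intro hy'
      have hyM : y ∈ ⁅L, L⁆ := hy
      obtain ⟨i, hi⟩ := ih hyM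
      refine ⟨i, ?_⟩
      show π (⟨y, hyM⟩⁻¹) ^ p ^ i = 1
      rw [map_inv, inv_pow, show π ⟨y, hyM⟩ ^ p ^ i = 1 from hi, inv_one]
  have hexp : ∀ z : (↥⁅L, L⁆ ⧸ K.subgroupOf ⁅L, L⁆), z ^ p = 1 := by
    intro z
    obtain ⟨v, hv, hv1⟩ := hK.exists_char
    have hWp : IsPGroup p (annChars ⁅L, L⁆ K) := fun w => by
      obtain ⟨k, hk⟩ := IsPGroup.iff_card.1 (hgenp : IsPGroup p (↥⁅L, L⁆ ⧸ K.subgroupOf ⁅L, L⁆))
      refine ⟨k, Subtype.ext (MonoidHom.ext fun x => ?_)⟩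
      rw [Subgroup.coe_pow, MonoidHom.pow_apply, ← map_pow, Subgroup.coe_one, MonoidHom.one_apply]
      refine w.2 _ ?_
      have h1 : π x ^ Nat.card (↥⁅L, L⁆ ⧸ K.subgroupOf ⁅L, L⁆) = 1 := pow_card_eq_one'
      rw [hk, ← map_pow] at h1
      exact (QuotientGroup.eq_one_iff (N := K.subgroupOf ⁅L, L⁆) (x ^ p ^ k)).1 h1
    obtain ⟨k, hk⟩ := hWp ⟨v, hv⟩
    have hex : ∃ w : annChars ⁅L, L⁆ K, w ≠ 1 ∧ w ^ p = 1 := by
      haveI : Finite (annChars ⁅L, L⁆ K) := by infer_instance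
      obtain ⟨w, hw⟩ := exists_prime_orderOf_dvd_card' (G := annChars ⁅L, L⁆ K) p (by
        obtain ⟨i, hi⟩ := IsPGroup.iff_card.1 hWp
        rw [hi]
        refine dvd_pow_self p fun h0 => ?_
        rw [h0, pow_zero, Nat.card_eq_one_iff_unique] at hi
        exact hv1 (congrArg Subtype.val (hi.1.elim (⟨v, hv⟩ : annChars ⁅L, L⁆ K) 1)))
      exact ⟨w, fun h => hp.ne_one (by rw [← hw, h, orderOf_one]), by
        rw [← hw, pow_orderOf_eq_one]⟩
    obtain ⟨w, hw1, hwp⟩ := hex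
    obtain ⟨x, rfl⟩ := QuotientGroup.mk_surjective z
    refine (QuotientGroup.eq_one_iff (x ^ p)).2 ?_
    refine hK.mem_of_annihilated (fun u => u ∈ annChars ⁅L, L⁆ K ∧ u ^ p = 1) (fun u hu => hu.1)
      (fun g u hu => ⟨fun y hy => hu.1 _ (hK.normal.conj_mem y hy g), ?_⟩)
      ⟨w.2, congrArg Subtype.val hwp⟩ (fun h => hw1 (Subtype.ext h)) (x ^ p).2 fun u hu => ?_
    · rw [← cj_hom_pow, hu.2]; rfl
    · show u (x ^ p) = 1
      rw [map_pow, ← MonoidHom.pow_apply, hu.2, MonoidHom.one_apply]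
  have h := card_sq_le (p := p) hexp β
    (fun a => QuotientGroup.induction_on a fun x => by
      show br x x = 1
      refine (QuotientGroup.eq_one_iff _).2 ?_
      show ⁅(x : G), (x : G)⁆ ∈ K
      rw [commutatorElement_self]
      exact one_mem K)
    (fun χ hχ a => QuotientGroup.induction_on a fun x hx => by
      by_contra hcon
      push Not at hcon
      have hv := (eW.symm χ).2
      have hv1 : (eW.symm χ).1 ≠ 1 := fun h0 => hχ (by
        rw [← eW.apply_symm_apply χ]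
        refine MonoidHom.ext fun z => QuotientGroup.induction_on z fun y => ?_
        exact DFunLike.congr_fun h0 y)
      have hd := nondegenerate hF hA hK hcen hv hv1 x.2 fun b hb =>
        hcon (Abelianization.of ⟨b, hb⟩)
      refine hx ((QuotientGroup.eq_one_iff x).2 ?_)
      rw [← Subgroup.map_subtype_commutator] at hd
      obtain ⟨y, hy, hyx⟩ := hd
      rwa [show x = y from Subtype.ext hyx.symm])
  rw [Nat.card_congr eW, CommGroup.card_monoidHom_of_hasEnoughRootsOfUnity (↥⁅L, L⁆ ⧸ K.subgroupOf ⁅L, L⁆) ℂ,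
    Nat.card_congr (Abelianization.lift (G := L) (A := ℂˣ)),
    CommGroup.card_monoidHom_of_hasEnoughRootsOfUnity (Abelianization L) ℂ]
  refine ⟨fun x hx => ?_, h⟩
  have h1 := hexp (π ⟨x, hx⟩)
  rw [← map_pow] at h1
  exact (QuotientGroup.eq_one_iff (N := K.subgroupOf ⁅L, L⁆) ((⟨x, hx⟩ : ↥⁅L, L⁆) ^ p)).1 h1

end AbLayer

end CfsgLib.NoDiv
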