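import Cfsg.Agent.Lib.NoDiv.NilLayer
import Cfsg.Agent.Lib.Glauberman.Relative
import Cfsg.Agent.Lib.Char.Complete

/-!
# The bottom of a nonabelian layer
-/

set_option autoImplicit false

open scoped Classical commutatorElement
open CfsgLib CfsgLib.DegGraph

namespace CfsgLib.NoDiv

universe u

variable {G : Type u} [Group G] [Finite G]

/-- The characters of `L'` trivial on `K`. -/
def annChars (M K : Subgroup G) : Subgroup (M →* ℂˣ) where
  carrier := {v | ∀ x : M, (x : G) ∈ K → v x = 1}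
  one_mem' := fun _ _ => rfl
  mul_mem' := fun {a b} ha hb x hx => by rw [MonoidHom.mul_apply, ha x hx, hb x hx, one_mul]
  inv_mem' := fun {a} ha x hx => by rw [MonoidHom.inv_apply, ha x hx, inv_one]

omit [Finite G] in
theorem annChars_invariant (M K : Subgroup G) [M.Normal] [K.Normal] (g : G) {v : M →* ℂˣ}
    (hv : v ∈ annChars M K) : cjHom M g v ∈ annChars M K := fun x hx =>
  hv _ ((inferInstance : K.Normal).conj_mem x hx g⁻¹)

/-- A maximal normal subgroup below a nontrivial derived subgroup of a layer. -/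
structure Bottom (L K : Subgroup G) : Prop where
  normal : K.Normal
  le : K ≤ ⁅L, L⁆
  ne : K ≠ ⁅L, L⁆
  abelian : ⁅⁅L, L⁆, ⁅L, L⁆⁆ ≤ K
  maximal : ∀ M : Subgroup G, M.Normal → K ≤ M → M ≤ ⁅L, L⁆ → M ≠ ⁅L, L⁆ → M = K

theorem exists_bottom [Group.IsSolvable G] (L : Subgroup G) [L.Normal] (hL : ⁅L, L⁆ ≠ ⊥) :
    ∃ K : Subgroup G, Bottom L K := by
  set M := ⁅L, L⁆ with hM
  obtain ⟨K, ⟨hKn, hKle, hKne⟩, hmax⟩ :=
    ({K : Subgroup G | K.Normal ∧ K ≤ M ∧ K ≠ M} : Set (Subgroup G)).toFinite.exists_maximal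
      ⟨⊥, Subgroup.normal_bot, bot_le, Ne.symm hL⟩
  haveI := hKn
  have hm : ∀ M' : Subgroup G, M'.Normal → K ≤ M' → M' ≤ M → M' ≠ M → M' = K :=
    fun M' h1 h2 h3 h4 => le_antisymm (hmax ⟨h1, h3, h4⟩ h2) h2
  refine ⟨K, hKn, hKle, hKne, ?_, hm⟩
  by_cases h : ⁅M, M⁆ ⊔ K = M
  · exfalso
    set π := QuotientGroup.mk' K
    have hP : M.map π = ⊥ := by
      by_contra hne
      haveI : Group.IsSolvable (G ⧸ K) :=
        solvable_of_surjective (f := π) (QuotientGroup.mk'_surjective K)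
      refine (Group.IsSolvable.commutator_lt_of_ne_bot hne).ne ?_
      conv_rhs => rw [← h, Subgroup.map_sup, QuotientGroup.map_mk'_self, sup_bot_eq]
      simp only [hM, Subgroup.map_commutator]
    refine hKne (le_antisymm hKle fun x hx => ?_)
    have h2 : π x ∈ M.map π := Subgroup.mem_map_of_mem π hx
    rw [hP, Subgroup.mem_bot] at h2
    exact (QuotientGroup.eq_one_iff x).1 h2
  · exact le_sup_left.trans (hm _ inferInstance le_sup_right
      (sup_le (Subgroup.commutator_le_left _ _) hKle) h).le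

namespace Bottom

variable {L K : Subgroup G} [L.Normal] (hK : Bottom L K)
include hK

/-- An invariant nontrivial set of characters of the bottom separates it. -/
theorem mem_of_annihilated (P : (↥⁅L, L⁆ →* ℂˣ) → Prop)
    (hP : ∀ v, P v → v ∈ annChars ⁅L, L⁆ K) (hinv : ∀ g v, P v → P (cj g v))
    {v₀ : ↥⁅L, L⁆ →* ℂˣ} (hv₀ : P v₀) (hv₀1 : v₀ ≠ 1) {x : G} (hx : x ∈ ⁅L, L⁆)
    (h : ∀ v, P v → v ⟨x, hx⟩ = 1) : x ∈ K := by
  let M : Subgroup G :=
    { carrier := {y | ∃ hy : y ∈ ⁅L, L⁆, ∀ v, P v → v ⟨y, hy⟩ = 1}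
      one_mem' := ⟨one_mem _, fun v _ => map_one v⟩
      mul_mem' := fun {a b} ⟨ha, ha'⟩ ⟨hb, hb'⟩ => ⟨mul_mem ha hb, fun v hv => by
        show v (⟨a, ha⟩ * ⟨b, hb⟩) = 1
        rw [map_mul, ha' v hv, hb' v hv, one_mul]⟩
      inv_mem' := fun {a} ⟨ha, ha'⟩ => ⟨inv_mem ha, fun v hv => by
        show v (⟨a, ha⟩⁻¹) = 1
        rw [map_inv, ha' v hv, inv_one]⟩ }
  have hMle : M ≤ ⁅L, L⁆ := fun y ⟨hy, _⟩ => hy
  have hMn : M.Normal := ⟨fun y ⟨hy, hy'⟩ g =>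
    ⟨(inferInstance : (⁅L, L⁆).Normal).conj_mem y hy g, fun v hv => hy' _ (hinv g v hv)⟩⟩
  rw [← hK.maximal M hMn (fun y hy => ⟨hK.le hy, fun v hv => hP v hv ⟨y, hK.le hy⟩ hy⟩) hMle
    fun hMeq => hv₀1 (MonoidHom.ext fun y => ?_)]
  · exact ⟨hx, h⟩
  · obtain ⟨hy, hy'⟩ := (hMeq.symm ▸ y.2 : (y : G) ∈ M)
    exact hy' v₀ hv₀

theorem exists_char : ∃ v : ↥⁅L, L⁆ →* ℂˣ, v ∈ annChars ⁅L, L⁆ K ∧ v ≠ 1 := by
  haveI := hK.normal
  obtain ⟨x, hx, hxK⟩ := SetLike.exists_of_lt (lt_of_le_of_ne hK.le hK.ne)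
  haveI : (K.subgroupOf ⁅L, L⁆).Normal := Subgroup.normal_subgroupOf
  by_contra h
  push Not at h
  refine hxK ((QuotientGroup.eq_one_iff (N := K.subgroupOf ⁅L, L⁆) (⟨x, hx⟩ : ↥⁅L, L⁆)).1
    (TwoDeg.eq_of_forall_hom_eq ?_ (y := 1) fun f => ?_))
  · intro a b
    obtain ⟨a, rfl⟩ := QuotientGroup.mk_surjective a
    obtain ⟨b, rfl⟩ := QuotientGroup.mk_surjective b
    refine QuotientGroup.eq.2 ?_
    rw [show (a * b)⁻¹ * (b * a) = ⁅b⁻¹, a⁻¹⁆ by rw [commutatorElement_def]; group]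
    exact hK.abelian (Subgroup.commutator_mem_commutator (inv_mem b.2) (inv_mem a.2))
  · have h2 := h (f.comp (QuotientGroup.mk' (K.subgroupOf ⁅L, L⁆))) fun y hy => by
      rw [MonoidHom.comp_apply, QuotientGroup.mk'_apply, (QuotientGroup.eq_one_iff y).2 hy, map_one]
    rw [map_one]
    exact DFunLike.congr_fun h2 ⟨x, hx⟩

end Bottom

variable {N : Subgroup G} [N.Normal] {q : ℕ}

namespace AbLayer

variable {L Q : Subgroup G} [L.Normal] {c : G} (hF : Frob N q) (hA : AbLayer N q L Q c)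
include hF hA

/-- `L / L'` is a `p`-group. -/
theorem isPGroup_quot {p : ℕ} (hp : p.Prime) (hV : IsPGroup p (L →* ℂˣ)) (x : G) (hx : x ∈ L) :
    ∃ k : ℕ, x ^ p ^ k ∈ ⁅L, L⁆ := by
  haveI : Fact p.Prime := ⟨hp⟩
  obtain ⟨k, hk⟩ := IsPGroup.iff_card.1 hV
  refine ⟨k, mem_derived_of_forall (pow_mem hx _) fun v => ?_⟩
  show v (⟨x, hx⟩ ^ p ^ k) = 1
  rw [map_pow, ← MonoidHom.pow_apply, ← hk, pow_card_eq_one']
  rfl

end AbLayer

end CfsgLib.NoDiv
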