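import Cfsg.Agent.Lib.NoDiv.Alt

/-!
# No class four: the abstract pairing argument
-/

set_option autoImplicit false

open scoped Classical

namespace CfsgLib.NoDiv

universe u

/-- The pairings of a class four quotient with a fixed functional on the last term. -/
structure Four (V₁ V₂ V₃ : Type u) [CommGroup V₁] [CommGroup V₂] [CommGroup V₃] where
  q : ℕ
  prime : q.Prime
  odd : q ≠ 2
  exp₁ : ∀ a : V₁, a ^ q = 1
  exp₃ : ∀ x : V₃, x ^ q = 1
  c2 : V₁ →* V₁ →* V₂
  c3 : V₂ →* V₁ →* V₃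
  th : V₁ →* V₃ →* ℂˣ
  om : V₂ →* V₂ →* ℂˣ
  alt2 : ∀ a, c2 a a = 1
  surj2 : ∀ a, a ≠ 1 → Function.Surjective (c2 a)
  card1 : Nat.card V₁ = Nat.card V₂ * Nat.card V₂
  J3 : ∀ a b d, c3 (c2 a b) d * c3 (c2 b d) a * c3 (c2 d a) b = 1
  J4 : ∀ u a b, th b (c3 u a) = th a (c3 u b) * om u (c2 a b)
  omAlt : ∀ u, om u u = 1
  left : ∀ x, (∀ a, th a x = 1) → x = 1
  isotropic : ∀ χ : V₃ →* ℂˣ, χ ≠ 1 → ∀ a b, (∀ u, χ (c3 u a) = 1) → (∀ u, χ (c3 u b) = 1) →
    c2 a b = 1
  kerTh : ∃ a, a ≠ 1 ∧ th a = 1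
  thNe : th ≠ 1
  g : V₁ → V₁ → V₃
  gSurj : ∀ x, x ≠ 1 → ∀ v, ∃ y w, c2 x y = 1 ∧ v = g x y * c3 w x
  gSelf : ∀ x, g x x = 1
  gSkew : ∀ x y, g y x = (g x y)⁻¹
  gRight : ∀ x y y', c2 x y = 1 → c2 x y' = 1 → ∃ w, g x (y * y') = g x y * g x y' * c3 w x
  gZero : om ≠ 1 → ∀ a y d, a ≠ 1 → th a = 1 → th y = 1 → c2 a y = 1 →
    (∀ w, om w (c2 a d) = 1) → th d (g a y) = 1

namespace Four

variable {V₁ V₂ V₃ : Type u} [CommGroup V₁] [CommGroup V₂] [CommGroup V₃] [Finite V₁] [Finite V₂]
  [Finite V₃] (X : Four V₁ V₂ V₃)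

/-- Characters separate the elements. -/
theorem eq_one_of_forall {A : Type u} [CommGroup A] [Finite A] {x : A}
    (h : ∀ χ : A →* ℂˣ, χ x = 1) : x = 1 := by
  by_contra hx
  haveI : NeZero (Monoid.exponent A : ℂ) :=
    ⟨Nat.cast_ne_zero.2 Monoid.exponent_ne_zero_of_finite⟩
  obtain ⟨χ, hχ⟩ := CommGroup.exists_apply_ne_one_of_hasEnoughRootsOfUnity A ℂ hx
  exact hχ (h χ)

theorem card_hom (A : Type u) [CommGroup A] [Finite A] : Nat.card (A →* ℂˣ) = Nat.card A := by
  haveI : NeZero (Monoid.exponent A : ℂ) :=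
    ⟨Nat.cast_ne_zero.2 Monoid.exponent_ne_zero_of_finite⟩
  exact CommGroup.card_monoidHom_of_hasEnoughRootsOfUnity A ℂ

/-- `R'`. -/
def R : Subgroup V₁ := X.th.ker

/-- The radical. -/
def V0 : Subgroup V₂ := X.om.ker

/-- The image of `u ↦ [u, a]`. -/
def Im (a : V₁) : Subgroup V₃ := (X.c3.flip a).range

/-- The kernel of `b ↦ [a, b]`. -/
def Nr (a : V₁) : Subgroup V₁ := (X.c2 a).ker

/-- The preimage of the radical. -/
def Dr (a : V₁) : Subgroup V₁ := X.V0.comap (X.c2 a)

theorem om_skew (u v : V₂) : X.om v u = (X.om u v)⁻¹ := by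
  have h := X.omAlt (u * v)
  simp only [map_mul, MonoidHom.mul_apply, X.omAlt, one_mul, mul_one] at h
  exact eq_inv_of_mul_eq_one_left h

theorem c2_skew (a b : V₁) : X.c2 b a = (X.c2 a b)⁻¹ := by
  have h := X.alt2 (a * b)
  simp only [map_mul, MonoidHom.mul_apply, X.alt2, one_mul, mul_one] at h
  exact eq_inv_of_mul_eq_one_left h

theorem om_right_eq_one_iff (v : V₂) : (∀ w, X.om w v = 1) ↔ v ∈ X.V0 := by
  rw [V0, MonoidHom.mem_ker]
  refine ⟨fun h => MonoidHom.ext fun w => ?_, fun h w => ?_⟩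
  · rw [X.om_skew w v, h w, inv_one, MonoidHom.one_apply]
  · rw [X.om_skew v w, h, MonoidHom.one_apply, inv_one]

/-- The pairing of a kernel element. -/
theorem th_P {a : V₁} (ha : X.th a = 1) (b : V₁) (w : V₂) :
    X.th b (X.c3 w a) = X.om w (X.c2 a b) := by
  rw [X.J4, ha, MonoidHom.one_apply, one_mul]

theorem exp2 (w : V₂) : w ^ X.q = 1 := by
  obtain ⟨a, ha, -⟩ := X.kerTh
  obtain ⟨b, rfl⟩ := X.surj2 a ha w
  rw [← map_pow, X.exp₁, map_one]

theorem eq_one_of_sq {z : ℂˣ} (h : z * z = 1) (hq : z ^ X.q = 1) : z = 1 := by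
  refine orderOf_eq_one_iff.1 (Nat.eq_one_of_dvd_coprimes
    ((Nat.coprime_primes Nat.prime_two X.prime).2 (Ne.symm X.odd))
    (orderOf_dvd_of_pow_eq_one (by rw [pow_two]; exact h)) (orderOf_dvd_of_pow_eq_one hq))

include X in
theorem one_lt_card : 1 < Nat.card V₂ := by
  obtain ⟨a, ha, -⟩ := X.kerTh
  haveI : Nontrivial V₁ := ⟨⟨a, 1, ha⟩⟩
  have h := X.card1 ▸ (Finite.one_lt_card : 1 < Nat.card V₁)
  rcases Nat.lt_or_ge 1 (Nat.card V₂) with h1 | h1
  · exact h1
  · nlinarith

theorem card_Nr {a : V₁} (ha : a ≠ 1) : Nat.card (X.Nr a) = Nat.card V₂ := by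
  have h := (X.c2 a).ker.card_mul_index
  rw [Subgroup.index_ker, MonoidHom.range_eq_top.2 (X.surj2 a ha), Subgroup.card_top, X.card1] at h
  exact Nat.eq_of_mul_eq_mul_right Nat.card_pos h

theorem th_surjective (χ : V₃ →* ℂˣ) : ∃ b, X.th b = χ := by
  have hle : Nat.card V₃ ≤ Nat.card X.th.range := by
    have hinj : Function.Injective fun (x : V₃) =>
        ((MonoidHom.eval x).comp X.th.range.subtype : X.th.range →* ℂˣ) := by
      intro x y h
      refine div_eq_one.1 (X.left _ fun a => ?_)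
      rw [map_div, div_eq_one]
      exact DFunLike.congr_fun h ⟨X.th a, a, rfl⟩
    haveI : Finite (V₃ →* ℂˣ) := by infer_instance
    exact (Nat.card_le_card_of_injective _ hinj).trans (card_hom X.th.range).le
  haveI : Finite (V₃ →* ℂˣ) := by infer_instance
  have htop : X.th.range = ⊤ := Subgroup.eq_top_of_card_eq _
    (le_antisymm (Subgroup.card_le_card_group _) ((card_hom V₃).le.trans hle))
  exact MonoidHom.range_eq_top.1 htop χ

theorem card_R : Nat.card X.R * Nat.card V₃ = Nat.card V₁ := by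
  have h := X.th.ker.card_mul_index
  rwa [Subgroup.index_ker, MonoidHom.range_eq_top.2 fun χ => X.th_surjective χ, Subgroup.card_top,
    card_hom] at h

theorem mem_V0_iff {a : V₁} (ha : a ≠ 1) (ht : X.th a = 1) (w : V₂) :
    X.c3 w a = 1 ↔ w ∈ X.V0 := by
  refine ⟨fun h => MonoidHom.mem_ker.2 (MonoidHom.ext fun v => ?_), fun h => X.left _ fun b => ?_⟩
  · obtain ⟨b, rfl⟩ := X.surj2 a ha v
    rw [← X.th_P ht b w, h, map_one, MonoidHom.one_apply]
  · rw [X.th_P ht, MonoidHom.mem_ker.1 h, MonoidHom.one_apply]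

theorem card_Im {a : V₁} (ha : a ≠ 1) (ht : X.th a = 1) :
    Nat.card X.V0 * Nat.card (X.Im a) = Nat.card V₂ := by
  have h := (X.c3.flip a).ker.card_mul_index
  rwa [Subgroup.index_ker, show (X.c3.flip a).ker = X.V0 from Subgroup.ext fun w =>
    (MonoidHom.mem_ker).trans (X.mem_V0_iff ha ht w)] at h

theorem mem_Dr_iff {a : V₁} (ht : X.th a = 1) (d : V₁) :
    (∀ v ∈ X.Im a, X.th d v = 1) ↔ d ∈ X.Dr a := by
  rw [Dr, Subgroup.mem_comap, ← X.om_right_eq_one_iff]
  refine ⟨fun h w => ?_, fun h v ⟨w, hw⟩ => ?_⟩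
  · rw [← X.th_P ht]
    exact h _ ⟨w, rfl⟩
  · rw [← hw]
    exact (X.th_P ht d w).trans (h w)

theorem R_c2 {a b : V₁} (ha : X.th a = 1) (hb : X.th b = 1) : X.c2 a b ∈ X.V0 := by
  rw [← X.om_right_eq_one_iff]
  intro w
  rw [← X.th_P ha, hb, MonoidHom.one_apply]

/-- When `[·, a]` is not onto, the centraliser is common to its elements. -/
theorem Nr_common {a : V₁} (ha : a ≠ 1) (hIm : X.Im a ≠ ⊤) :
    ∀ x ∈ X.Nr a, (x ≠ 1 → X.Nr x = X.Nr a) ∧ X.Im x ≤ X.Im a := by
  have hmem : ∀ χ : V₃ →* ℂˣ, χ ≠ 1 → (∀ v ∈ X.Im a, χ v = 1) →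
      ∀ x, x ∈ X.Nr a ↔ ∀ w, χ (X.c3 w x) = 1 := by
    intro χ hχ hχa
    let P : V₁ →* (V₂ →* ℂˣ) := MonoidHom.mk' (fun b => χ.comp (X.c3.flip b)) fun b b' => by
      ext w; simp
    have haP : ∀ w, χ (X.c3 w a) = 1 := fun w => hχa _ ⟨w, rfl⟩
    have hle : P.ker ≤ X.Nr a := fun b hb => MonoidHom.mem_ker.2
      (X.isotropic χ hχ a b haP fun w => DFunLike.congr_fun (MonoidHom.mem_ker.1 hb) w)
    haveI : Finite (V₂ →* ℂˣ) := by infer_instance
    have hcard : Nat.card (X.Nr a) ≤ Nat.card P.ker := by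
      rw [X.card_Nr ha]
      have h := P.ker.card_mul_index
      rw [Subgroup.index_ker, X.card1] at h
      have h2 : Nat.card P.range ≤ Nat.card V₂ :=
        (Subgroup.card_le_card_group _).trans (card_hom V₂).le
      by_contra hlt
      push Not at hlt
      nlinarith [Nat.card_pos (α := V₂), Nat.mul_le_mul_left (Nat.card P.ker) h2]
    intro x
    rw [← Subgroup.eq_of_le_of_card_ge hle hcard, MonoidHom.mem_ker]
    exact ⟨fun h w => DFunLike.congr_fun h w, fun h => MonoidHom.ext h⟩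
  obtain ⟨χ₀, hχ₀, hχ₀a⟩ : ∃ χ : V₃ →* ℂˣ, χ ≠ 1 ∧ ∀ v ∈ X.Im a, χ v = 1 := by
    obtain ⟨v, hv⟩ : ∃ v, v ∉ X.Im a := by
      by_contra h
      push Not at h
      exact hIm ((Subgroup.eq_top_iff' _).2 h)
    by_contra hcon
    push Not at hcon
    refine hv ((QuotientGroup.eq_one_iff v).1 (eq_one_of_forall fun χ => ?_))
    by_contra hne
    obtain ⟨v', hv', hne'⟩ := hcon (χ.comp (QuotientGroup.mk' _))
      (fun h => hne (DFunLike.congr_fun h v))
    exact hne' ((congrArg χ ((QuotientGroup.eq_one_iff v').2 hv')).trans (map_one χ))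
  intro x hx
  refine ⟨fun hx1 => ?_, fun v hv => ?_⟩
  · refine (Subgroup.eq_of_le_of_card_ge (fun b hb => ?_)
      ((X.card_Nr hx1).le.trans (X.card_Nr ha).ge)).symm
    exact MonoidHom.mem_ker.2 (X.isotropic χ₀ hχ₀ x b ((hmem χ₀ hχ₀ hχ₀a x).1 hx)
      ((hmem χ₀ hχ₀ hχ₀a b).1 hb))
  · obtain ⟨w, rfl⟩ := hv
    refine (QuotientGroup.eq_one_iff _).1 (eq_one_of_forall fun χ => ?_)
    let χ' := χ.comp (QuotientGroup.mk' (X.Im a))
    by_cases hχ' : χ' = 1
    · exact DFunLike.congr_fun hχ' _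
    · exact (hmem χ' hχ' (fun v' hv' => by
        exact (congrArg χ ((QuotientGroup.eq_one_iff v').2 hv')).trans (map_one χ)) x).1 hx w

/-- The commutator family on the common centraliser. -/
theorem card_quot_sq {a : V₁} (ha : a ≠ 1) (hIm : X.Im a ≠ ⊤) :
    (X.Im a).index * (X.Im a).index ≤ Nat.card V₂ := by
  haveI : Fact X.q.Prime := ⟨X.prime⟩
  set N := X.Nr a
  have hc := X.Nr_common ha hIm
  haveI : Nontrivial N := by
    rw [← Finite.one_lt_card_iff_nontrivial, X.card_Nr ha]
    exact X.one_lt_card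
  have hcomm : ∀ x y : N, X.c2 x y = 1 := fun x y => by
    by_cases hx : (x : V₁) = 1
    · rw [hx, map_one, MonoidHom.one_apply]
    · exact MonoidHom.mem_ker.1 (((hc x x.2).1 hx).symm ▸ y.2 : (y : V₁) ∈ X.Nr x)
  let π := QuotientGroup.mk' (X.Im a)
  have hright : ∀ x y y' : N, π (X.g x (y * y' : N)) = π (X.g x y) * π (X.g x y') := by
    intro x y y'
    obtain ⟨w, hw⟩ := X.gRight x y y' (hcomm x y) (hcomm x y')
    rw [Subgroup.coe_mul, hw, map_mul, map_mul,
      show π (X.c3 w x) = 1 from (QuotientGroup.eq_one_iff _).2 ((hc x x.2).2 ⟨w, rfl⟩), mul_one]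
  have hleft : ∀ x x' y : N, π (X.g (x * x' : N) y) = π (X.g x y) * π (X.g x' y) := by
    intro x x' y
    rw [X.gSkew y, map_inv, hright, X.gSkew y, X.gSkew y, map_inv, map_inv, mul_inv_rev, mul_comm]
  let β : N →* N →* V₃ ⧸ X.Im a :=
    MonoidHom.mk' (fun x => MonoidHom.mk' (fun y => π (X.g x y)) (hright x)) fun x x' =>
      MonoidHom.ext fun y => hleft x x' y
  rw [Subgroup.index_eq_card, ← X.card_Nr ha]
  refine card_sq_le (p := X.q) (fun z => ?_) β (fun x => ?_) (fun χ hχ x hx => ?_)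
  · induction z using QuotientGroup.induction_on with
    | H v => rw [← QuotientGroup.mk_pow, X.exp₃]; rfl
  · show π (X.g x x) = 1
    rw [X.gSelf, map_one]
  · obtain ⟨z, hz⟩ := not_forall.1 fun h => hχ (MonoidHom.ext h)
    obtain ⟨v, rfl⟩ := QuotientGroup.mk_surjective z
    have hx1 : (x : V₁) ≠ 1 := fun h => hx (Subtype.ext h)
    obtain ⟨y, w, hy, hv⟩ := X.gSurj x hx1 v
    refine ⟨⟨y, (hc x x.2).1 hx1 ▸ MonoidHom.mem_ker.2 hy⟩, fun h => hz ?_⟩
    show χ (π v) = 1
    rw [hv, map_mul, show π (X.c3 w x) = 1 from (QuotientGroup.eq_one_iff _).2 ((hc x x.2).2 ⟨w, rfl⟩),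
      mul_one]
    exact h

include X in
/-- The pairing of the radical case. -/
theorem false_of_top (h0 : X.V0 = ⊤) : False := by
  obtain ⟨a, ha, hta⟩ := X.kerTh
  have h1 : Nat.card (X.Im a) = 1 := by
    have h := X.card_Im ha hta
    rw [h0, Subgroup.card_top] at h
    nlinarith [X.one_lt_card]
  have hV3 : (X.Im a).index = Nat.card V₃ := by
    rw [← (X.Im a).card_mul_index, h1, one_mul]
  have hV3' : 1 < Nat.card V₃ := by
    by_contra h
    haveI : Subsingleton V₃ := Finite.card_le_one_iff_subsingleton.1 (by omega)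
    exact X.thNe (MonoidHom.ext fun b => MonoidHom.ext fun x => by
      rw [Subsingleton.elim x 1, map_one, map_one])
  have hIm : X.Im a ≠ ⊤ := fun h => by
    rw [h, Subgroup.card_top] at h1; omega
  have hpow : Nat.card X.R ≤ Nat.card V₂ := by
    obtain ⟨χ, hχ⟩ : ∃ χ : V₃ →* ℂˣ, χ ≠ 1 := by
      by_contra h
      push Not at h
      exact hIm ((Subgroup.eq_top_iff' _).2 fun v =>
        (eq_one_of_forall (x := v) fun χ => by rw [h χ, MonoidHom.one_apply]) ▸ one_mem _)
    rw [← X.card_Nr ha]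
    refine Subgroup.card_le_of_le fun b hb => MonoidHom.mem_ker.2 ?_
    have hall : ∀ x : V₁, X.th x = 1 → ∀ w, χ (X.c3 w x) = 1 := fun x hx w => by
      by_cases hx1 : x = 1
      · rw [hx1, map_one, map_one]
      · rw [(X.mem_V0_iff hx1 hx w).2 (h0 ▸ Subgroup.mem_top w), map_one]
    exact X.isotropic χ hχ a b (hall a hta) (hall b (MonoidHom.mem_ker.1 hb))
  have h2 := X.card_quot_sq ha hIm
  have h3 := X.card_R
  rw [hV3] at h2
  rw [X.card1] at h3
  have h4 : Nat.card V₂ ≤ Nat.card V₃ := by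
    by_contra hlt
    push Not at hlt
    nlinarith [Nat.mul_le_mul_right (Nat.card V₃) hpow]
  nlinarith [X.one_lt_card, Nat.mul_le_mul h4 h4]

include X in
/-- **No class four.** -/
theorem false : False := by
  haveI : Fact X.q.Prime := ⟨X.prime⟩
  by_cases h0 : X.V0 = ⊤
  · exact X.false_of_top h0
  obtain ⟨a, ha, hta⟩ := X.kerTh
  have homexp : ∀ u v : V₂, X.om u v ^ X.q = 1 := fun u v => by
    rw [← map_pow, X.exp2, map_one]
  -- the part of the centraliser inside `R`
  have hI : ∀ x : V₁, x ≠ 1 → X.th x = 1 →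
      (Nat.card ↥(X.R ⊓ X.Nr x) * (X.Im x).index ≤ Nat.card V₂) ∧
      Nat.card X.R ≤ Nat.card ↥(X.R ⊓ X.Nr x) * Nat.card X.V0 := by
    intro x hx htx
    have hR : Nat.card X.R ≤ Nat.card ↥(X.R ⊓ X.Nr x) * Nat.card X.V0 := by
      set φ := (X.c2 x).comp X.R.subtype
      have h := φ.ker.card_mul_index
      rw [Subgroup.index_ker] at h
      rw [← h]
      refine Nat.mul_le_mul (le_of_eq ?_) ?_
      · refine (Nat.card_congr (Equiv.ofBijective
          (fun y : φ.ker => (⟨y.1.1, ⟨y.1.2, y.2⟩⟩ : ↥(X.R ⊓ X.Nr x))) ⟨fun y z h => ?_, fun y => ?_⟩))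
        · exact Subtype.ext (Subtype.ext (congrArg (fun w : ↥(X.R ⊓ X.Nr x) => (w : V₁)) h))
        · exact ⟨⟨⟨y.1, y.2.1⟩, y.2.2⟩, rfl⟩
      · refine Subgroup.card_le_of_le ?_
        rintro _ ⟨y, rfl⟩
        exact X.R_c2 htx (MonoidHom.mem_ker.1 y.2)
    refine ⟨?_, hR⟩
    by_cases hIm : X.Im x = ⊤
    · rw [hIm, Subgroup.index_top, mul_one, ← X.card_Nr hx]
      exact Subgroup.card_le_of_le inf_le_right
    set N := X.Nr x
    have hc := X.Nr_common hx hIm
    let π := QuotientGroup.mk' (X.Im x)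
    let Γ : N →* V₃ ⧸ X.Im x := MonoidHom.mk' (fun y => π (X.g x y)) fun y y' => by
      obtain ⟨w, hw⟩ := X.gRight x y y' (MonoidHom.mem_ker.1 y.2) (MonoidHom.mem_ker.1 y'.2)
      rw [Subgroup.coe_mul, hw, map_mul, map_mul,
        show π (X.c3 w x) = 1 from (QuotientGroup.eq_one_iff _).2 ⟨w, rfl⟩, mul_one]
    have hsurj : Function.Surjective Γ := fun z => by
      obtain ⟨v, rfl⟩ := QuotientGroup.mk_surjective z
      obtain ⟨y, w, hy, hv⟩ := X.gSurj x hx v
      refine ⟨⟨y, MonoidHom.mem_ker.2 hy⟩, ?_⟩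
      show π (X.g x y) = π v
      rw [hv, map_mul, show π (X.c3 w x) = 1 from (QuotientGroup.eq_one_iff _).2 ⟨w, rfl⟩, mul_one]
    have hker : X.R.subgroupOf N ≤ Γ.ker := by
      intro y hy
      refine MonoidHom.mem_ker.2 (eq_one_of_forall fun χ => ?_)
      obtain ⟨d, hd⟩ := X.th_surjective (χ.comp π)
      show (χ.comp π) (X.g x y) = 1
      rw [← hd]
      refine X.gZero (fun hom => h0 ((Subgroup.eq_top_iff' _).2 fun w =>
        MonoidHom.mem_ker.2 (by rw [hom, MonoidHom.one_apply]))) x y d hx htx (MonoidHom.mem_ker.1 hy) (MonoidHom.mem_ker.1 y.2) ?_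
      rw [X.om_right_eq_one_iff]
      refine (X.mem_Dr_iff htx d).1 fun v hv => ?_
      rw [hd]
      exact (congrArg χ ((QuotientGroup.eq_one_iff v).2 hv)).trans (map_one χ)
    have h := Γ.ker.card_mul_index
    rw [Subgroup.index_ker, MonoidHom.range_eq_top.2 hsurj, Subgroup.card_top, X.card_Nr hx] at h
    rw [Subgroup.index_eq_card, ← h]
    refine Nat.mul_le_mul_right _ ((le_of_eq ?_).trans (Subgroup.card_le_of_le hker))
    refine Nat.card_congr (Equiv.ofBijective
      (fun y : ↥(X.R ⊓ N) => (⟨⟨y.1, y.2.2⟩, y.2.1⟩ : X.R.subgroupOf N))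
      ⟨fun y z h => ?_, fun y => ?_⟩)
    · exact Subtype.ext (congrArg (fun w : X.R.subgroupOf N => (w.1 : V₁)) h)
    · exact ⟨⟨y.1.1, y.2, y.1.2⟩, rfl⟩
  -- exact counts
  have hcount : ∀ x : V₁, x ≠ 1 → X.th x = 1 →
      Nat.card ↥(X.R ⊓ X.Nr x) * (X.Im x).index = Nat.card V₂ ∧
      Nat.card X.R = Nat.card ↥(X.R ⊓ X.Nr x) * Nat.card X.V0 ∧
      X.R ⊔ X.Nr x = X.Dr x ∧ Nat.card (X.Dr x) = Nat.card X.V0 * Nat.card V₂ := by
    intro x hx htx
    obtain ⟨h1, h2⟩ := hI x hx htx
    set i := Nat.card ↥(X.R ⊓ X.Nr x)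
    set e := (X.Im x).index
    set n := Nat.card V₂
    set r := Nat.card X.R
    set v := Nat.card X.V0
    have hRe : r * e = n * v := by
      have h3 := X.card_R
      rw [X.card1, ← (X.Im x).card_mul_index] at h3
      have h4 := X.card_Im hx htx
      have h5 : n * (r * e) = n * (n * v) := by
        calc n * (r * e) = v * (r * (Nat.card (X.Im x) * e)) := by
              rw [show n = v * Nat.card (X.Im x) from h4.symm]; ring
          _ = n * (n * v) := by rw [h3]; ring
      exact Nat.eq_of_mul_eq_mul_left Nat.card_pos h5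
    have hn : n = i * e := le_antisymm (Nat.le_of_mul_le_mul_right
      (by calc n * v = r * e := hRe.symm
            _ ≤ i * v * e := Nat.mul_le_mul_right _ h2
            _ = i * e * v := by ring) Nat.card_pos) h1
    have he0 : 0 < e := Nat.pos_of_ne_zero Subgroup.index_ne_zero_of_finite
    have hr : r = i * v := Nat.eq_of_mul_eq_mul_right he0 (by rw [hRe, hn]; ring)
    have hD : Nat.card (X.Dr x) = v * n := by
      have h6 := (X.Dr x).card_mul_index
      rw [Dr, Subgroup.index_comap, MonoidHom.range_eq_top.2 (X.surj2 x hx),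
        Subgroup.relIndex_top_right, X.card1] at h6
      have h7 := X.V0.card_mul_index
      refine Nat.eq_of_mul_eq_mul_right (Nat.pos_of_ne_zero (Subgroup.index_ne_zero_of_finite
        (H := X.V0))) (h6.trans ?_)
      rw [mul_right_comm, show v * X.V0.index = n from h7]
    refine ⟨hn.symm, hr, ?_, hD⟩
    refine Subgroup.eq_of_le_of_card_ge (sup_le (fun y hy => X.R_c2 htx (MonoidHom.mem_ker.1 hy))
      fun y hy => (congrArg (· ∈ X.V0) (MonoidHom.mem_ker.1 hy)).mpr (one_mem _)) ?_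
    have h8 := Subgroup.relIndex_mul_index (inf_le_left : X.R ⊓ X.Nr x ≤ X.R)
    rw [Subgroup.inf_relIndex_left] at h8
    have h9 := (X.R ⊓ X.Nr x).card_mul_index
    have h10 := X.R.card_mul_index
    have h11 := (X.Nr x).card_mul_index
    have h12 := (X.R ⊔ X.Nr x).card_mul_index
    have h13 := Subgroup.relIndex_mul_index (le_sup_left : X.R ≤ X.R ⊔ X.Nr x)
    rw [sup_comm, Subgroup.relIndex_sup_right, sup_comm] at h13
    rw [hD]
    -- `|R ⊔ N| * i = r * n`
    have h14 : (X.Nr x).relIndex X.R * X.R.index = (X.R ⊓ X.Nr x).index → True := fun _ => trivial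
    have hkey : Nat.card ↥(X.R ⊔ X.Nr x) * i = r * Nat.card (X.Nr x) := by
      have e1 : Nat.card ↥(X.R ⊔ X.Nr x) = r * X.R.relIndex (X.Nr x) := by
        refine Nat.eq_of_mul_eq_mul_right (Nat.pos_of_ne_zero (Subgroup.index_ne_zero_of_finite
          (H := X.R ⊔ X.Nr x))) ?_
        rw [h12, ← h10, ← h13]; ring
      have e2 : X.R.relIndex (X.Nr x) * i = Nat.card (X.Nr x) := by
        rw [← Subgroup.inf_relIndex_right]
        have e3 := Subgroup.relIndex_mul_index (inf_le_right : X.R ⊓ X.Nr x ≤ X.Nr x)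
        refine Nat.eq_of_mul_eq_mul_right (Nat.pos_of_ne_zero (Subgroup.index_ne_zero_of_finite
          (H := X.Nr x))) ?_
        rw [h11, ← h9, ← e3]; ring
      rw [e1, mul_assoc, e2]
    rw [X.card_Nr hx, hr] at hkey
    exact (Nat.eq_of_mul_eq_mul_right Nat.card_pos (hkey.trans (by ring))).ge
  set i := Nat.card ↥(X.R ⊓ X.Nr a)
  set e := (X.Im a).index
  obtain ⟨hie, hr, hRN, hD⟩ := hcount a ha hta
  by_cases hv : X.V0 = ⊥
  · -- an operator family on `V₂`
    set N := X.Nr a
    have hcomm : ∀ x ∈ N, ∀ y ∈ N, X.c2 x y = 1 := by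
      have hNr : ∀ x ∈ N, x ≠ 1 → X.Nr x = N := by
        intro x hx hx1
        by_cases hIm : X.Im a = ⊤
        · have hi : i = Nat.card V₂ := by rw [← hie]; simp only [e, hIm, Subgroup.index_top, mul_one]; rfl
          rw [hv, Subgroup.card_bot, mul_one] at hr
          have hNR : N = X.R := by
            have e1 : X.R ⊓ N = N := Subgroup.eq_of_le_of_card_ge inf_le_right
              (by rw [X.card_Nr ha]; exact hi.ge)
            exact Subgroup.eq_of_le_of_card_ge (inf_eq_right.1 e1)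
              (by rw [X.card_Nr ha, hr]; exact hi.le)
          have htx : X.th x = 1 := MonoidHom.mem_ker.1 (hNR ▸ hx : x ∈ X.R)
          refine (Subgroup.eq_of_le_of_card_ge (fun b hb => ?_)
            ((X.card_Nr hx1).le.trans (X.card_Nr ha).ge)).symm
          refine MonoidHom.mem_ker.2 ?_
          have h := X.R_c2 htx (MonoidHom.mem_ker.1 (hNR ▸ hb : b ∈ X.R))
          rwa [hv, Subgroup.mem_bot] at h
        · exact ((X.Nr_common ha hIm) x hx).1 hx1
      intro x hx y hy
      by_cases hx1 : x = 1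
      · rw [hx1, map_one, MonoidHom.one_apply]
      · exact MonoidHom.mem_ker.1 ((hNr x hx hx1).symm ▸ hy : y ∈ X.Nr x)
    have hker : ∀ x ∈ N, x ≠ 1 → X.Nr x = N := fun x hx hx1 =>
      (Subgroup.eq_of_le_of_card_ge (fun b hb => MonoidHom.mem_ker.2 (hcomm x hx b hb))
        ((X.card_Nr hx1).le.trans (X.card_Nr ha).ge)).symm
    let eq2 : V₁ ⧸ N ≃* V₂ := QuotientGroup.quotientKerEquivOfSurjective _ (X.surj2 a ha)
    have hN : ∀ y : N, N ≤ (X.c2 (y : V₁)).ker := fun y b hb =>
      MonoidHom.mem_ker.2 (hcomm y y.2 b hb)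
    let M : N → (V₂ →* V₂) := fun y =>
      (QuotientGroup.lift N (X.c2 y) (hN y)).comp eq2.symm.toMonoidHom
    have hM : ∀ (y : N) (b : V₁), M y (X.c2 a b) = X.c2 y b := by
      intro y b
      show QuotientGroup.lift N (X.c2 y) (hN y) (eq2.symm (X.c2 a b)) = _
      rw [show eq2.symm (X.c2 a b) = QuotientGroup.mk b from eq2.symm_apply_eq.2 rfl]
      rfl
    -- two forms of the Jacobi identity
    have hJ : ∀ x y : N, ∀ b, X.c3 (X.c2 y b) x = X.c3 (X.c2 x b) y := by
      intro x y b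
      have h := X.J3 (x : V₁) b y
      rw [hcomm y y.2 x x.2, map_one, MonoidHom.one_apply, mul_one, X.c2_skew (y : V₁) b,
        map_inv, MonoidHom.inv_apply, mul_inv_eq_one] at h
      exact h.symm
    have hinj : ∀ w w', X.c3 w a = X.c3 w' a → w = w' := fun w w' h => by
      have h1 : w / w' ∈ X.V0 := (X.mem_V0_iff ha hta _).1 (by
        rw [map_div, MonoidHom.div_apply, h, div_self'])
      rw [hv, Subgroup.mem_bot, div_eq_one] at h1
      exact h1
    let a' : N := ⟨a, MonoidHom.mem_ker.2 (X.alt2 a)⟩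
    have hP : ∀ (y : N) w, X.c3 w (y : V₁) = X.c3 (M y w) a := by
      intro y w
      obtain ⟨b, rfl⟩ := X.surj2 a ha w
      rw [hM]
      exact (hJ a' y b).symm
    have hMcomm : ∀ x y : N, ∀ w, M x (M y w) = M y (M x w) := by
      intro x y w
      refine hinj _ _ ?_
      rw [← hP, ← hP]
      obtain ⟨b, rfl⟩ := X.surj2 a ha w
      rw [hM, hM]
      exact hJ x y b
    obtain ⟨o, ho⟩ : ∃ o : V₂, o ≠ 1 := by
      haveI := Finite.one_lt_card_iff_nontrivial.1 X.one_lt_card
      exact exists_ne 1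
    have hfree : ∀ v : V₂, v ≠ 1 → Function.Bijective fun y : N => M y v := by
      intro v hv1
      obtain ⟨b, rfl⟩ := X.surj2 a ha v
      refine (Nat.bijective_iff_injective_and_card _).2 ⟨fun y z h => ?_, X.card_Nr ha⟩
      simp only [hM] at h
      have h1 : X.c2 ((y / z : N) : V₁) b = 1 := by
        rw [Subgroup.coe_div, map_div, MonoidHom.div_apply, h, div_self']
      by_contra hne
      have hne' : ((y / z : N) : V₁) ≠ 1 := fun h0 => hne (div_eq_one.1 (Subtype.ext h0))
      exact hv1 (MonoidHom.mem_ker.1 ((hker _ (y / z : N).2 hne') ▸ MonoidHom.mem_ker.2 h1 : b ∈ N))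
    have hMclosed : ∀ x y : N, ∃ z : N, ∀ w, M z w = M x (M y w) := by
      intro x y
      obtain ⟨z, hz⟩ := (hfree o ho).2 (M x (M y o))
      refine ⟨z, fun w => ?_⟩
      obtain ⟨p, rfl⟩ := (hfree o ho).2 w
      show M z (M p o) = M x (M y (M p o))
      rw [hMcomm z p, show M z o = M x (M y o) from hz, hMcomm p x, hMcomm p y]
    -- the derivation
    let δ : N → V₂ → ℂˣ := fun y w => X.om (M y w) o / X.om w (M y o)
    have hsym : ∀ (y x : N) (s w : V₂),
        X.om (M y (M x s)) w / X.om (M x s) (M y w) = X.om (M y s) (M x w) / X.om s (M y (M x w)) := by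
      intro y x s w
      have hform : ∀ (u : V₂) (d : V₁),
          X.th y (X.c3 u d) = X.om (M y u) (X.c2 a d) / X.om u (M y (X.c2 a d)) := by
        intro u d
        have h := X.J4 u (y : V₁) d
        rw [hP y u, X.th_P hta d (M y u)] at h
        rw [hM, h, mul_div_cancel_right]
      have hS : ∀ (x : N) (b d : V₁),
          X.th y (X.c3 (M x (X.c2 a b)) d) = X.th y (X.c3 (M x (X.c2 a d)) b) := by
        intro x b d
        rw [hM, hM]
        have h := congrArg (X.th y) (X.J3 (x : V₁) b d)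
        rw [map_mul, map_mul, map_one, hP x (X.c2 b d), X.th_P hta,
          hcomm a a'.2 y y.2, map_one, mul_one, X.c2_skew (x : V₁) d, map_inv, MonoidHom.inv_apply,
          map_inv, mul_inv_eq_one] at h
        exact h
      obtain ⟨b, rfl⟩ := X.surj2 a ha s
      obtain ⟨d, rfl⟩ := X.surj2 a ha w
      rw [← hform, hS x b d, hform]
      have h1 : ∀ u v, X.om (M y u) (X.c2 a b) / X.om u (M y (X.c2 a b)) = v →
          X.th y (X.c3 u b) = v := fun u v h => (hform u b).trans h
      have h2 := (hS a' b d)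
      have hMa : ∀ w, M a' w = w := fun w => by
        obtain ⟨c, rfl⟩ := X.surj2 a ha w
        exact hM a' c
      obtain ⟨d', hd'⟩ := X.surj2 a ha (M x (X.c2 a d))
      have h3 := hS a' b d'
      rw [hMa, hMa, hd'] at h3
      rw [← hform (M x (X.c2 a d)) b]
      rw [← h3, hform, hd']
    have hmul : ∀ (z x y : N), (∀ w, M z w = M x (M y w)) →
        ∀ w, δ z w = δ y (M x w) * δ x (M y w) := by
      intro z x y hz w
      have h := hsym y x w o
      simp only [δ, hz]
      rw [h, hMcomm y x o, mul_comm, div_mul_div_cancel]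
    have hexpδ : ∀ y w, δ y w ^ X.q = 1 := fun y w => by
      simp only [δ]
      rw [div_pow, homexp, homexp, div_one]
    have hMa : ∀ w, M a' w = w := fun w => by
      obtain ⟨c, rfl⟩ := X.surj2 a ha w
      exact hM a' c
    have hδa : ∀ w, δ a' w = 1 := fun w => by simp only [δ, hMa, div_self']
    have hpow : ∀ (y : N) (k : ℕ), ∃ z : N, (∀ w, M z w = (M y)^[k] w) ∧
        ∀ w, δ z w = δ y ((M y)^[k - 1] w) ^ k := by
      intro y k
      induction k with
      | zero => exact ⟨a', hMa, fun w => by rw [hδa, pow_zero]⟩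
      | succ k ih =>
        obtain ⟨z, hz, hzd⟩ := ih
        obtain ⟨z', hz'⟩ := hMclosed y z
        refine ⟨z', fun w => by rw [hz', hz, Function.iterate_succ_apply'], fun w => ?_⟩
        rw [hmul z' y z hz', hzd, hz, Nat.add_sub_cancel, pow_succ]
        congr 1
        rcases k with _ | k
        · rfl
        · rw [Nat.add_sub_cancel, ← Function.iterate_succ_apply]
    -- the operators form a group of order prime to `q`
    have hδ : ∀ y w, δ y w = 1 := by
      intro y w
      by_cases hy : y = 1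
      · have h1 : ∀ w, M y w = 1 := fun w => by
          obtain ⟨c, rfl⟩ := X.surj2 a ha w
          rw [hM, hy, Subgroup.coe_one, map_one, MonoidHom.one_apply]
        simp only [δ, h1, map_one, MonoidHom.one_apply, div_one]
      have hne : ∀ z : N, z ≠ 1 → M z o ≠ 1 := by
        intro z hz h
        apply hz
        refine (hfree o ho).1 ?_
        show M z o = M 1 o
        rw [h]
        obtain ⟨c, rfl⟩ := X.surj2 a ha o
        rw [hM, Subgroup.coe_one, map_one, MonoidHom.one_apply]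
      have hinjM : ∀ z : N, z ≠ 1 → Function.Injective (M z) := by
        intro z hz
        rw [injective_iff_map_eq_one]
        intro w hw
        by_contra hw1
        exact hz ((hfree w hw1).1 (show M z w = M 1 w by
          rw [hw]
          obtain ⟨c, rfl⟩ := X.surj2 a ha w
          rw [hM, Subgroup.coe_one, map_one, MonoidHom.one_apply]))
      have hM1 : ∀ w, M 1 w = 1 := fun w => by
        obtain ⟨c, rfl⟩ := X.surj2 a ha w
        rw [hM, Subgroup.coe_one, map_one, MonoidHom.one_apply]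
      choose Φ hΦ hΦd using fun z : N => hpow z X.q
      have hΦinj : Function.Injective Φ := by
        intro u v huv
        have hiter : ∀ w, (M u)^[X.q] w = (M v)^[X.q] w := fun w => by rw [← hΦ, huv, hΦ]
        have hzero : ∀ z : N, (∀ w, (M z)^[X.q] w = 1) → z = 1 := by
          intro z hz
          by_contra hz1
          have := ((hinjM z hz1).iterate X.q) ((hz o).trans (hz 1).symm)
          exact ho this
        by_cases hv1 : v = 1
        · rw [hv1]
          refine hzero u fun w => ?_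
          rw [hiter, hv1]
          obtain ⟨k, hk⟩ : ∃ k, X.q = k + 1 := ⟨X.q - 1, (Nat.succ_pred X.prime.ne_zero).symm⟩
          rw [hk, Function.iterate_succ_apply']
          exact hM1 _
        obtain ⟨p, hp⟩ := (hfree _ (hne v hv1)).2 o
        have hpv : ∀ w, M p (M v w) = w := by
          intro w
          obtain ⟨r, rfl⟩ := (hfree o ho).2 w
          show M p (M v (M r o)) = M r o
          rw [hMcomm v r, hMcomm p r, show M p (M v o) = o from hp]
        obtain ⟨T, hT⟩ := hMclosed u p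
        have hTq : ∀ w, (M T)^[X.q] w = w := by
          intro w
          rw [show (M T : V₂ → V₂) = (M u : V₂ → V₂) ∘ (M p : V₂ → V₂) from funext hT,
            Function.Commute.comp_iterate (fun z => hMcomm u p z), Function.comp_apply, hiter,
            ← Function.comp_apply (f := (M v : V₂ → V₂)^[X.q]),
            ← Function.Commute.comp_iterate (fun z => hMcomm v p z)]
          rw [show ((M v : V₂ → V₂) ∘ (M p : V₂ → V₂)) = id from funext fun z => by
            show M v (M p z) = z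
            rw [hMcomm, hpv], Function.iterate_id, id_eq]
        -- a periodic operator has a nontrivial fixed point
        have hT1 : T ≠ 1 := fun h => ho (by
          rw [← hTq o, h]
          obtain ⟨k, hk⟩ : ∃ k, X.q = k + 1 := ⟨X.q - 1, (Nat.succ_pred X.prime.ne_zero).symm⟩
          rw [hk, Function.iterate_succ_apply']
          exact hM1 _)
        let σ : Equiv.Perm V₂ :=
          Equiv.ofBijective (M T) (Finite.injective_iff_bijective.1 (hinjM T hT1))
        haveI := Fintype.ofFinite V₂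
        have hdvd : X.q ∣ Fintype.card V₂ := by
          rw [← Nat.card_eq_fintype_card]
          obtain ⟨k, hk⟩ := IsPGroup.iff_card.1
            (show IsPGroup X.q V₂ from fun w => ⟨1, by rw [pow_one]; exact X.exp2 w⟩)
          rw [hk]
          refine dvd_pow_self _ fun h0 => ?_
          have := X.one_lt_card
          rw [hk, h0, pow_zero] at this
          omega
        obtain ⟨b, hb, hb1⟩ := Equiv.Perm.exists_fixed_point_of_prime' (p := X.q) (n := 1) hdvd
          (σ := σ) (Equiv.ext fun w => by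
            rw [pow_one, ← Equiv.Perm.iterate_eq_pow]
            exact hTq w) (a := 1) (map_one (M T))
        have hTa : T = a' := (hfree b hb1).1 (show M T b = M a' b by rw [hMa]; exact hb)
        have huv' : ∀ w, M u w = M v w := fun w => by
          have h := hT (M v w)
          rw [hTa, hMa, hpv] at h
          exact h.symm
        exact (hfree o ho).1 (huv' o)
      obtain ⟨z, rfl⟩ := (Finite.injective_iff_surjective.1 hΦinj) y
      rw [hΦd, hexpδ]
    -- the form is symmetric, hence trivial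
    refine h0 ((Subgroup.eq_top_iff' _).2 fun u => MonoidHom.mem_ker.2 (MonoidHom.ext fun v => ?_))
    obtain ⟨x, rfl⟩ := (hfree o ho).2 u
    obtain ⟨y, rfl⟩ := (hfree o ho).2 v
    have e1 : ∀ x y : N, X.om (M x o) (M y o) = X.om (M y (M x o)) o := fun x y =>
      (div_eq_one.1 (hδ y (M x o))).symm
    have e2 : X.om (M x o) (M y o) = X.om (M y o) (M x o) := by rw [e1, e1, hMcomm]
    refine X.eq_one_of_sq ?_ (homexp _ _)
    nth_rw 2 [e2]
    rw [X.om_skew, inv_mul_cancel]
  · -- a nontrivial radical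
    have hDa : X.Dr a ≠ ⊤ := fun h => h0 ((Subgroup.eq_top_iff' _).2 fun w => by
      obtain ⟨b, rfl⟩ := X.surj2 a ha w
      exact (h ▸ Subgroup.mem_top b : b ∈ X.Dr a))
    haveI : Nontrivial (V₁ ⧸ X.Dr a) := by
      rw [← Finite.one_lt_card_iff_nontrivial, ← Subgroup.index_eq_card]
      exact Nat.lt_of_le_of_ne (Nat.pos_of_ne_zero Subgroup.index_ne_zero_of_finite)
        fun h => hDa (Subgroup.index_eq_one.1 h.symm)
    set I : Subgroup V₁ := X.R ⊓ X.Nr a
    have hDeq : ∀ y ∈ I, y ≠ 1 → X.Dr y = X.Dr a := by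
      intro y hy hy1
      obtain ⟨hie', hr', hRN', hD'⟩ := hcount y hy1 (MonoidHom.mem_ker.1 hy.1)
      rw [← hRN', ← hRN]
      by_cases hIm : X.Im a = ⊤
      · have hi : i = Nat.card V₂ := by rw [← hie]; simp only [e, hIm, Subgroup.index_top, mul_one]; rfl
        have hle : X.Nr a ≤ X.R := inf_eq_right.1 (Subgroup.eq_of_le_of_card_ge inf_le_right
          (by rw [X.card_Nr ha]; exact hi.ge))
        have hi' : Nat.card ↥(X.R ⊓ X.Nr y) = Nat.card V₂ := by
          have : Nat.card X.R = i * Nat.card X.V0 := hr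
          rw [hr', hi] at this
          exact Nat.eq_of_mul_eq_mul_right Nat.card_pos this
        have hle' : X.Nr y ≤ X.R := inf_eq_right.1 (Subgroup.eq_of_le_of_card_ge inf_le_right
          (by rw [X.card_Nr hy1]; exact hi'.ge))
        rw [sup_eq_left.2 hle, sup_eq_left.2 hle']
      · rw [((X.Nr_common ha hIm) y hy.2).1 hy1]
    have hexpI : ∀ z : I →* ℂˣ, z ^ X.q = 1 := fun z => MonoidHom.ext fun y => by
      rw [MonoidHom.pow_apply, ← map_pow, show y ^ X.q = 1 from Subtype.ext (X.exp₁ _), map_one]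
      rfl
    have hJy : ∀ y ∈ I, ∀ b d, X.om (X.c2 y b) (X.c2 a d) = X.om (X.c2 a b) (X.c2 y d) := by
      intro y hy b d
      have hty := MonoidHom.mem_ker.1 hy.1
      have h := congrArg (X.th d) (X.J3 a b y)
      rw [map_mul, map_mul, map_one, X.th_P hty, X.th_P hta,
        show X.c2 y a = 1 by rw [X.c2_skew, MonoidHom.mem_ker.1 hy.2, inv_one],
        map_one, MonoidHom.one_apply, map_one, mul_one, X.c2_skew y b, map_inv, MonoidHom.inv_apply,
        mul_inv_eq_one] at h
      exact h.symm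
    let β₀ : V₁ →* V₁ →* (I →* ℂˣ) :=
      MonoidHom.mk' (fun b => MonoidHom.mk'
        (fun d => MonoidHom.mk' (fun y : I => X.om (X.c2 y b) (X.c2 a d)) fun y z => by simp)
        fun d d' => by ext y; simp) fun b b' => by ext d y; simp
    have hker0 : ∀ b ∈ X.Dr a, ∀ d, β₀ b d = 1 := fun b hb d => MonoidHom.ext fun y => by
      show X.om (X.c2 y b) (X.c2 a d) = 1
      by_cases hy1 : (y : V₁) = 1
      · rw [hy1, map_one, MonoidHom.one_apply, map_one, MonoidHom.one_apply]
      · have h2 : b ∈ X.Dr y := by rw [hDeq y y.2 hy1]; exact hb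
        have : X.c2 y b ∈ X.V0 := h2
        rw [MonoidHom.mem_ker.1 this, MonoidHom.one_apply]
    have hker1 : ∀ b, ∀ d ∈ X.Dr a, β₀ b d = 1 := fun b d hd => MonoidHom.ext fun y => by
      show X.om (X.c2 y b) (X.c2 a d) = 1
      exact (X.om_right_eq_one_iff _).2 hd _
    let β₁ : V₁ →* (V₁ ⧸ X.Dr a →* (I →* ℂˣ)) :=
      MonoidHom.mk' (fun b => QuotientGroup.lift (X.Dr a) (β₀ b) fun d hd => hker1 b d hd)
        fun b b' => MonoidHom.ext fun z => QuotientGroup.induction_on z fun d => by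
          show β₀ (b * b') d = β₀ b d * β₀ b' d
          rw [map_mul, MonoidHom.mul_apply]
    let β : V₁ ⧸ X.Dr a →* V₁ ⧸ X.Dr a →* (I →* ℂˣ) :=
      QuotientGroup.lift (X.Dr a) β₁ fun b hb => MonoidHom.ext fun z =>
        QuotientGroup.induction_on z fun d => hker0 b hb d
    haveI : Finite (I →* ℂˣ) := by infer_instance
    have hbound := card_sq_le (p := X.q) hexpI β
      (fun z => QuotientGroup.induction_on z fun b => MonoidHom.ext fun y => by
        show X.om (X.c2 y b) (X.c2 a b) = 1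
        refine X.eq_one_of_sq ?_ (homexp _ _)
        nth_rw 2 [hJy y y.2 b b]
        rw [X.om_skew (X.c2 y b) (X.c2 a b), mul_inv_cancel])
      (fun χ hχ z => QuotientGroup.induction_on z fun b hb => by
        obtain ⟨y, hy⟩ : ∃ y : I, ∀ f : I →* ℂˣ, χ f = f y := by
          let ev : I →* ((I →* ℂˣ) →* ℂˣ) := MonoidHom.mk' (fun y => MonoidHom.eval y)
            fun y z => by ext f; simp
          haveI : Finite ((I →* ℂˣ) →* ℂˣ) := Nat.finite_of_card_ne_zero (by
            rw [card_hom]; exact Nat.card_pos.ne')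
          have hbij : Function.Bijective ev := (Nat.bijective_iff_injective_and_card _).2
            ⟨fun y z h => div_eq_one.1 (eq_one_of_forall fun f => by
              rw [map_div, div_eq_one]; exact DFunLike.congr_fun h f),
              by rw [card_hom, card_hom]⟩
          obtain ⟨y, hy⟩ := hbij.2 χ
          exact ⟨y, fun f => by rw [← hy]; rfl⟩
        have hy1 : (y : V₁) ≠ 1 := fun h => hχ (MonoidHom.ext fun f => by
          rw [hy, show y = 1 from Subtype.ext h, map_one, MonoidHom.one_apply])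
        have hb' : X.c2 y b ∉ X.V0 := fun h => hb ((QuotientGroup.eq_one_iff b).2
          ((hDeq y y.2 hy1) ▸ (h : b ∈ X.Dr y)))
        rw [← X.om_right_eq_one_iff] at hb'
        push Not at hb'
        obtain ⟨w, hw⟩ := hb'
        obtain ⟨d, rfl⟩ := X.surj2 a ha w
        refine ⟨QuotientGroup.mk d, fun h => hw ?_⟩
        rw [hy] at h
        rw [X.om_skew, show X.om (X.c2 y b) (X.c2 a d) = 1 from h, inv_one])
    rw [card_hom, ← Subgroup.index_eq_card] at hbound
    have hDi : (X.Dr a).index * Nat.card X.V0 = Nat.card V₂ := by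
      have h1 := (X.Dr a).card_mul_index
      rw [hD, X.card1] at h1
      exact Nat.eq_of_mul_eq_mul_right (Nat.card_pos (α := V₂)) (by rw [← h1]; ring)
    have hv2 : 2 ≤ Nat.card X.V0 := by
      haveI : Nontrivial X.V0 := (Subgroup.nontrivial_iff_ne_bot _).2 hv
      exact Finite.one_lt_card
    have he2 : e * e ≤ Nat.card V₂ := by
      by_cases hIm : X.Im a = ⊤
      · rw [show e = 1 by rw [show e = (X.Im a).index from rfl, hIm, Subgroup.index_top]]
        rw [mul_one]; exact Nat.card_pos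
      · exact X.card_quot_sq ha hIm
    change i * i ≤ _ at hbound
    have h5 : (i * i) * (e * e) ≤ (X.Dr a).index * Nat.card V₂ := Nat.mul_le_mul hbound he2
    rw [show (i * i) * (e * e) = (i * e) * (i * e) by ring, hie] at h5
    have h6 := Nat.le_of_mul_le_mul_right h5 Nat.card_pos
    have h7 := Nat.mul_le_mul_left (X.Dr a).index hv2
    have h8 := Nat.card_pos (α := V₂)
    omega

end Four

end CfsgLib.NoDiv
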