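import Cfsg.Agent.Lib.NoDiv.LAbelian
import Cfsg.Agent.Lib.Char.Ito

/-!
# The Frobenius type with `q'`-derived subgroup
-/

set_option autoImplicit false

open scoped Classical commutatorElement
open CfsgLib CfsgLib.DegGraph

namespace CfsgLib.NoDiv

universe u

variable {G : Type u} [Group G] [Finite G] {N : Subgroup G} [N.Normal] {q : ℕ}

/-- Characters trivial on a normal `M ≤ N` with `N / M` abelian have degree dividing the index. -/
theorem degree_dvd_of_trivial (χ : Cfsg.IrrCharacter G) (M : Subgroup G) [M.Normal]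
    (hMN : M ≤ N) (hab : ∀ a ∈ N, ∀ b ∈ N, ⁅a, b⁆ ∈ M)
    (hχ : ∀ m ∈ M, (χ : G → ℂ) m = (χ : G → ℂ) 1) :
    Cfsg.charDegree (χ : G → ℂ) ∣ N.index := by
  obtain ⟨η, ⟨n, ρ, hρ, hρe⟩, hχη⟩ := CharTwist.exists_irr_quotient χ.2 M hχ
  haveI := hρ
  set π := QuotientGroup.mk' M
  have hπ : Function.Surjective π := QuotientGroup.mk'_surjective M
  haveI : (N.map π).Normal := (inferInstance : N.Normal).map π hπ
  have h := Char.finrank_dvd_index_of_abelian_normal ρ (N.map π) (by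
    rintro _ ⟨a, ha, rfl⟩ _ ⟨b, hb, rfl⟩
    rw [← commutatorElement_eq_one_iff_mul_comm, ← map_commutatorElement]
    exact (QuotientGroup.eq_one_iff _).2 (hab a ha b hb))
  rw [Subgroup.index_map_eq N hπ (by rwa [QuotientGroup.ker_mk']), Module.finrank_fin_fun] at h
  have hn : Cfsg.charDegree (χ : G → ℂ) = n := by
    refine Nat.cast_injective (R := ℂ) ?_
    rw [CharTools.irr_degree_cast, hχη, Function.comp_apply, map_one, ← hρe, ρ.char_one,
      Module.finrank_fin_fun]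
  rwa [hn]

/-- **The Frobenius type with `N'` prime to `q`.** -/
theorem degrees_typeOne [Group.IsSolvable G] (hF : Frob N q) (hq : ¬ q ∣ Nat.card ↥⁅N, N⁆) :
    ∃ X : ℕ, (X = N.index ∨ (q ∣ X ∧ 1 < X)) ∧ ∀ χ : Cfsg.IrrCharacter G,
      Cfsg.charDegree (χ : G → ℂ) = 1 ∨ Cfsg.charDegree (χ : G → ℂ) = N.index ∨
        Cfsg.charDegree (χ : G → ℂ) = X := by
  haveI := Fintype.ofFinite G
  have hLN : ⁅N, N⁆ ≤ N := Subgroup.commutator_le_left N N
  have hab : ∀ a ∈ N, ∀ b ∈ N, ⁅a, b⁆ ∈ ⁅N, N⁆ := fun a ha b hb =>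
    Subgroup.commutator_mem_commutator ha hb
  have hlow : ∀ χ : Cfsg.IrrCharacter G,
      (∀ m ∈ ⁅N, N⁆, (χ : G → ℂ) m = (χ : G → ℂ) 1) →
      Cfsg.charDegree (χ : G → ℂ) = 1 ∨ Cfsg.charDegree (χ : G → ℂ) = N.index := fun χ hχ => by
    by_cases h1 : Cfsg.charDegree (χ : G → ℂ) = 1
    · exact Or.inl h1
    exact Or.inr (hF.eq_of_dvd_index (degree_dvd_of_trivial χ ⁅N, N⁆ hLN hab hχ) h1)
  by_cases hL : ⁅N, N⁆ = ⊥
  · exact ⟨N.index, Or.inl rfl, fun χ => (hlow χ fun m hm => by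
      rw [hL, Subgroup.mem_bot] at hm; rw [hm]).imp id Or.inl⟩
  obtain ⟨Q, c, hQN, hQ, hQs, hc, hgen⟩ := hF.exists_sylow_gen
  have hnt : ∃ v : ↥⁅N, N⁆ →* ℂˣ, v ≠ 1 := by
    obtain ⟨x, hx, hxL⟩ := SetLike.exists_of_lt (Group.IsSolvable.commutator_lt_of_ne_bot hL)
    by_contra h
    push Not at h
    exact hxL (AbLayer.mem_derived_of_forall hx fun v => by rw [h v]; rfl)
  have hA : AbLayer N q ⁅N, N⁆ Q c :=
    { le_comm := le_rfl
      le_N := hQN
      pgroup := hQ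
      sylow := hQs
      coprime := hq
      sup_normal := sup_normal_of_normalizer hF hQN hc hgen fun n hn x hx =>
        Subgroup.mem_sup_left (hab n hn x (hQN hx))
      abelian := hab
      normalizes := hc
      gen := hgen
      nontriv := hnt }
  have hLab := hA.layer_abelian hF
  obtain ⟨X, j, -, hstab, -, hqX, -, hX1, -⟩ := hA.exists_orbit_length hF
  refine ⟨X, Or.inr ⟨hqX, hX1⟩, fun χ => ?_⟩
  haveI := Fintype.ofFinite (↥⁅N, N⁆)
  by_cases hv : ∃ v : ↥⁅N, N⁆ →* ℂˣ, v ≠ 1 ∧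
      Cfsg.classInner (fun l : ↥⁅N, N⁆ => (χ : G → ℂ) l) (fun l => (v l : ℂ)) ≠ 0
  · obtain ⟨v, hv1, hv⟩ := hv
    exact Or.inr (Or.inr (((hA.toLayer.moved_facts hF hv1).2.2.1 χ hv).trans (hstab v hv1).2))
  push Not at hv
  refine (hlow χ fun m hm => ?_).imp id Or.inl
  have hdec := Char.IsCharacter.eq_sum_classInner
    (Char.IsCharacter.restrict (Char.IsIrrCharacter.isCharacter χ.2) ⁅N, N⁆)
  have hlin : ∀ θ : Cfsg.IrrCharacter ↥⁅N, N⁆, Cfsg.charDegree (θ : ↥⁅N, N⁆ → ℂ) = 1 := fun θ => by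
    obtain ⟨n, ρ, hρ, hρe⟩ := θ.2
    haveI := hρ
    have h := Char.finrank_dvd_index_of_abelian_normal ρ ⊤ fun a _ b _ => by
      have h2 := Subgroup.commutator_mem_commutator a.2 b.2
      rw [hLab, Subgroup.mem_bot, commutatorElement_eq_one_iff_mul_comm] at h2
      exact Subtype.ext h2
    rw [Subgroup.index_top, Nat.dvd_one, Module.finrank_fin_fun] at h
    refine Nat.cast_injective (R := ℂ) ?_
    rw [CharTools.irr_degree_cast θ, ← hρe, ρ.char_one, Module.finrank_fin_fun, h]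
  have e1 := congrFun hdec ⟨m, hm⟩
  have e2 := congrFun hdec 1
  rw [Finset.sum_apply] at e1 e2
  show (χ : G → ℂ) m = (χ : G → ℂ) 1
  refine e1.trans (Eq.trans ?_ e2.symm)
  refine Finset.sum_congr rfl fun θ _ => ?_
  obtain ⟨μ, hμ⟩ := CharDeep.Lin.exists_hom_of_deg_one (Char.IsIrrCharacter.isCharacter θ.2)
    (by rw [← CharTools.irr_degree_cast, hlin θ, Nat.cast_one])
  by_cases hμ1 : μ = 1
  · simp [Pi.smul_apply, hμ, hμ1]
  · have h0 := hv μ hμ1
    rw [show (θ : ↥⁅N, N⁆ → ℂ) = fun l => (μ l : ℂ) from funext hμ]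
    simp [Pi.smul_apply, h0]

end CfsgLib.NoDiv
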