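import Cfsg.Agent.Lib.NoDiv.LevelCases
import Cfsg.Agent.Lib.NoDiv.TypeOne
import Cfsg.Agent.Lib.Blk83.Weight

/-!
# The normal `q`-complement of `N` and the level above it
-/

set_option autoImplicit false

open scoped Classical commutatorElement
open CfsgLib CfsgLib.DegGraph

namespace CfsgLib.NoDiv

universe u

variable {G : Type u} [Group G] [Finite G]

instance instNormalMapMk (N M : Subgroup G) [N.Normal] [M.Normal] :
    (N.map (QuotientGroup.mk' M)).Normal :=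
  Subgroup.Normal.map inferInstance _ (QuotientGroup.mk'_surjective M)

/-- A restriction of an irreducible character to a subgroup has a constituent of large degree. -/
theorem exists_constituent_large (T : Subgroup G) [Fintype T] (φ : Cfsg.IrrCharacter G) :
    ∃ β : Cfsg.IrrCharacter T,
      Cfsg.classInner (fun t : T => (φ : G → ℂ) t) (β : T → ℂ) ≠ 0 ∧
      Cfsg.charDegree (φ : G → ℂ) ≤ T.index * Cfsg.charDegree (β : T → ℂ) := by
  haveI := Fintype.ofFinite G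
  obtain ⟨β, hβ⟩ := DegGraph.exists_constituent_res φ T
  refine ⟨β, hβ, ?_⟩
  have hind := Char.IsCharacter.indFun (H := T) (Char.IsIrrCharacter.isCharacter β.2)
  obtain ⟨k, hk, hdeg⟩ := CharTools.exists_degree_combination hind
  have hi : Cfsg.charDegree (Cfsg.indFun T (β : T → ℂ)) = T.index * Cfsg.charDegree (β : T → ℂ) := by
    refine Nat.cast_injective (R := ℂ) ?_
    rw [CharTools.degree_cast hind, Char.indFun_apply_one, Nat.cast_mul, CharTools.irr_degree_cast]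
  have hφk : k φ ≠ 0 := fun h0 => hβ (by
    have h2 := hk φ
    rw [Char.classInner_indFun T _ _ (Char.IsIrrCharacter.isClassFunction φ.2), h0, Nat.cast_zero] at h2
    rw [← Char.classInner_conj_symm, h2, map_zero])
  rw [← hi, hdeg]
  exact (Nat.le_mul_of_pos_left _ (Nat.pos_of_ne_zero hφk)).trans
    (Finset.single_le_sum (f := fun χ => k χ * Cfsg.charDegree (χ : G → ℂ))
      (fun i _ => Nat.zero_le _) (Finset.mem_univ φ))

/-- If the only degree divisible by `q ^ a` is `q ^ a`, the complement is abelian. -/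
theorem linear_of_level {Γ : Type u} [Group Γ] [Finite Γ] {q : ℕ} (hq : q.Prime)
    (M : Subgroup Γ) [M.Normal] [Fintype M] (hMq : (Nat.card M).Coprime q) {k : ℕ}
    (hk : M.index = q ^ k) {a : ℕ} (φ : Cfsg.IrrCharacter Γ)
    (hφM : ∀ m ∈ M, (φ : Γ → ℂ) m = (φ : Γ → ℂ) 1) (hφd : Cfsg.charDegree (φ : Γ → ℂ) = q ^ a)
    (hD : ∀ ψ : Cfsg.IrrCharacter Γ, q ^ a ∣ Cfsg.charDegree (ψ : Γ → ℂ) →
      Cfsg.charDegree (ψ : Γ → ℂ) = q ^ a)
    (θ : Cfsg.IrrCharacter M) : Cfsg.charDegree (θ : M → ℂ) = 1 := by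
  haveI := Fintype.ofFinite Γ
  set T := CharTwist.inertia M (θ : M → ℂ)
  have hMT : M ≤ T := CharTwist.le_inertia M (Char.IsIrrCharacter.isClassFunction θ.2)
  haveI := Fintype.ofFinite T
  haveI : (M.subgroupOf T).Normal := Subgroup.normal_subgroupOf
  let e : M.subgroupOf T ≃* M := Subgroup.subgroupOfEquivOfLe hMT
  obtain ⟨η, hη, hηθ⟩ := exists_extension (M.subgroupOf T) ((θ : M → ℂ) ∘ e)
    (CharTwist.isIrrCharacter_comp_equiv θ.2 e)
    (fun g n => congrFun (CharTwist.mem_inertia.1 g.2) (e n))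
    (by
      rw [Nat.card_congr e.toEquiv]
      refine Nat.Coprime.coprime_dvd_left (show (M.subgroupOf T).index ∣ M.index from
        Dvd.intro _ (Subgroup.relIndex_mul_index hMT)) ?_
      rw [hk]
      exact hMq.symm.pow_left k)
  obtain ⟨ξ, hξ, hle⟩ := exists_constituent_large T φ
  have hξM : ∀ m ∈ M.subgroupOf T, (ξ : T → ℂ) m = (ξ : T → ℂ) 1 :=
    Blk83.apply_eq_one_of_constituent (M.subgroupOf T) (fun g z hz => by
      obtain ⟨η', -, hφη⟩ := CharTwist.exists_irr_quotient φ.2 M hφM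
      show (φ : Γ → ℂ) ((g * z : T) : Γ) = (φ : Γ → ℂ) (g : Γ)
      rw [hφη, Function.comp_apply, Function.comp_apply, Subgroup.coe_mul, map_mul,
        show QuotientGroup.mk' M (z : Γ) = 1 from (QuotientGroup.eq_one_iff _).2 hz, mul_one]) ξ.2 hξ
  obtain ⟨β, hβ, hξβ⟩ := CharTwist.exists_irr_quotient ξ.2 (M.subgroupOf T) hξM
  have hξd : Cfsg.charDegree β = Cfsg.charDegree (ξ : T → ℂ) := by
    rw [hξβ]; simp [Cfsg.charDegree]
  obtain ⟨ψ, hψ⟩ := exists_degree_over M (θ : M → ℂ) θ.2 T (fun g => CharTwist.mem_inertia) hMT η hη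
    (fun m => hηθ (e.symm m)) ⟨β, hβ⟩
  change _ = T.index * _ * Cfsg.charDegree β at hψ
  obtain ⟨i, -, hi⟩ := (Nat.dvd_prime_pow hq).1 (hk ▸ Subgroup.index_dvd_of_le hMT)
  obtain ⟨b, -, hb⟩ : ∃ b ≤ k, Cfsg.charDegree β = q ^ b := by
    refine (Nat.dvd_prime_pow hq).1 ((CharTools.degree_dvd_card (⟨β, hβ⟩ :
      Cfsg.IrrCharacter (T ⧸ M.subgroupOf T))).trans ?_)
    rw [← hk]
    exact Dvd.intro _ (Subgroup.relIndex_mul_index hMT)
  have hab : a ≤ i + b := by
    rw [hφd, hi, ← hξd, hb, ← pow_add] at hle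
    exact (Nat.pow_le_pow_iff_right hq.one_lt).1 hle
  rw [hi, hb, mul_right_comm, ← pow_add] at hψ
  have h2 := hD ψ (hψ ▸ (pow_dvd_pow q hab).trans (dvd_mul_right _ _))
  rw [hψ] at h2
  exact Nat.eq_one_of_dvd_coprimes (hMq.pow_right a) (CharTools.degree_dvd_card θ)
    (h2 ▸ dvd_mul_left _ _)

/-- A normal `q`-complement of `N`. -/
structure Comp (N M : Subgroup G) (q : ℕ) : Prop where
  le : M ≤ N
  coprime : (Nat.card M).Coprime q
  index : ∃ k, M.relIndex N = q ^ k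

variable {N : Subgroup G} [N.Normal] {q : ℕ}

theorem exists_comp (hF : Frob N q) : ∃ M : Subgroup G, M.Normal ∧ Comp N M q := by
  haveI := Fintype.ofFinite N
  obtain ⟨M, hMn, hMq, ⟨k, hk⟩, -⟩ := ThreeDeg.exists_complement hF.prime hF.q_dvd
  haveI := hMn
  have hrel : (M.map N.subtype).relIndex N = q ^ k := by
    rw [Subgroup.relIndex, Subgroup.subgroupOf,
      Subgroup.comap_map_eq_self_of_injective N.subtype_injective, hk]
  have hcard : Nat.card ↥(M.map N.subtype) = Nat.card M :=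
    Subgroup.card_map_of_injective N.subtype_injective
  refine ⟨M.map N.subtype, ⟨fun x hx g => ?_⟩, Subgroup.map_subtype_le M, hcard ▸ hMq, k, hrel⟩
  have hxN : g * x * g⁻¹ ∈ N :=
    (inferInstance : N.Normal).conj_mem x (Subgroup.map_subtype_le M hx) g
  refine ⟨⟨_, hxN⟩, (QuotientGroup.eq_one_iff _).1 (orderOf_eq_one_iff.1
    (Nat.eq_one_of_dvd_coprimes (hMq.pow_right k) ?_ (hk ▸ Subgroup.index_eq_card M ▸
      orderOf_dvd_natCard _))), rfl⟩
  refine (orderOf_map_dvd (QuotientGroup.mk' M) (⟨_, hxN⟩ : N)).trans ?_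
  refine orderOf_dvd_of_pow_eq_one (Subtype.ext ?_)
  rw [← hcard, Subgroup.coe_pow, conj_pow, Subgroup.coe_one,
    show x ^ Nat.card ↥(M.map N.subtype) = 1 from
      congrArg Subtype.val (pow_card_eq_one' (x := (⟨x, hx⟩ : ↥(M.map N.subtype)))), mul_one,
    mul_inv_cancel]

/-- A linear character of `M` fixed by `N` extends to `N`, with the same stabiliser. -/
theorem exists_canonical {M : Subgroup G} [M.Normal] (hC : Comp N M q) (hq : q.Prime)
    (θ : M →* ℂˣ) (hθ : N ≤ stab θ) :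
    ∃ η : N →* ℂˣ, (∀ m : M, η ⟨m, hC.le m.2⟩ = θ m) ∧
      ∀ g ∈ stab θ, g ∈ stab η := by
  haveI : (M.subgroupOf N).Normal := Subgroup.normal_subgroupOf
  let e := Subgroup.subgroupOfEquivOfLe hC.le
  obtain ⟨k, hk⟩ := hC.index
  have hcop : (M.subgroupOf N).index.Coprime (orderOf (θ.comp e.toMonoidHom)) := by
    refine Nat.Coprime.coprime_dvd_right (orderOf_dvd_of_pow_eq_one (n := Nat.card M) ?_) ?_
    · ext m
      rw [MonoidHom.pow_apply, ← map_pow, MonoidHom.comp_apply, map_pow, pow_card_eq_one', map_one,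
        MonoidHom.one_apply]
    · show (M.relIndex N).Coprime _
      rw [hk]
      exact hC.coprime.symm.pow_left k
  obtain ⟨η, hη, hηo, hηu⟩ := CharDeep.Lin.exists_ext_coprime (θ.comp e.toMonoidHom)
    (fun t m => DFunLike.congr_fun (mem_stab.1 (hθ t.2)) (e m)) hcop
  refine ⟨η, fun m => hη (e.symm m), fun g hg => mem_stab.2 ?_⟩
  refine hηu (cj g η) (fun m => ?_) ?_
  · show η (MulAut.conjNormal g (m : N)) = θ (e m)
    have hm : g * ((m : N) : G) * g⁻¹ ∈ M := (inferInstance : M.Normal).conj_mem _ m.2 g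
    rw [show MulAut.conjNormal g (m : N) = (⟨g * ((m : N) : G) * g⁻¹, hC.le hm⟩ : N) from
      Subtype.ext (MulAut.conjNormal_apply g (m : N))]
    refine (hη ⟨⟨g * ((m : N) : G) * g⁻¹, hC.le hm⟩, hm⟩).trans ?_
    exact DFunLike.congr_fun (mem_stab.1 hg) (e m)
  · refine Nat.Coprime.coprime_dvd_right (orderOf_dvd_of_pow_eq_one (n := orderOf η) ?_) (hηo ▸ hcop)
    refine MonoidHom.ext fun n => ?_
    rw [MonoidHom.pow_apply, MonoidHom.one_apply]
    show η (MulAut.conjNormal g n) ^ orderOf η = 1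
    rw [← MonoidHom.pow_apply, pow_orderOf_eq_one, MonoidHom.one_apply]

variable {M : Subgroup G} [M.Normal]

theorem mem_of_mk_eq {x : G} (h : QuotientGroup.mk' M x = 1) : x ∈ M :=
  (QuotientGroup.eq_one_iff x).1 h

theorem level_index (hC : Comp N M q) : (N.map (QuotientGroup.mk' M)).index = N.index :=
  Subgroup.index_map_eq N (QuotientGroup.mk'_surjective M) (by rw [QuotientGroup.ker_mk']; exact hC.le)

theorem level_card (hC : Comp N M q) : Nat.card ↥(N.map (QuotientGroup.mk' M)) = M.relIndex N := by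
  have h := MonoidHom.subgroupMap_surjective (QuotientGroup.mk' M) N
  rw [Nat.card_congr (QuotientGroup.quotientKerEquivOfSurjective _ h).toEquiv.symm,
    ← Subgroup.index_eq_card, show ((QuotientGroup.mk' M).subgroupMap N).ker = M.subgroupOf N from ?_]
  · rfl
  · ext x
    rw [MonoidHom.mem_ker, Subgroup.mem_subgroupOf]
    exact ⟨fun hx => mem_of_mk_eq (congrArg Subtype.val hx),
      fun hx => Subtype.ext ((QuotientGroup.eq_one_iff _).2 hx)⟩

/-- Characters of `N` trivial on `M` are characters of the level. -/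
theorem exists_level_char (ψ : Cfsg.IrrCharacter N)
    (h : ∀ x : N, (x : G) ∈ M → (ψ : N → ℂ) x = (ψ : N → ℂ) 1) :
    ∃ β : Cfsg.IrrCharacter ↥(N.map (QuotientGroup.mk' M)),
      ∀ x : N, (ψ : N → ℂ) x = (β : ↥(N.map (QuotientGroup.mk' M)) → ℂ)
        ((QuotientGroup.mk' M).subgroupMap N x) := by
  set f := (QuotientGroup.mk' M).subgroupMap N with hf
  have hsurj : Function.Surjective f := MonoidHom.subgroupMap_surjective _ N
  obtain ⟨η, hη, hψη⟩ := CharTwist.exists_irr_quotient ψ.2 f.ker fun x hx =>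
    h x (mem_of_mk_eq (congrArg Subtype.val (MonoidHom.mem_ker.1 hx)))
  let e := QuotientGroup.quotientKerEquivOfSurjective f hsurj
  refine ⟨⟨_, CharTwist.isIrrCharacter_comp_equiv hη e.symm⟩, fun x => ?_⟩
  rw [hψη]
  show η _ = η (e.symm (f x))
  congr 1
  rw [MulEquiv.eq_symm_apply]
  rfl

/-- A character of `N` homogeneous on `M` over an invariant linear character. -/
theorem twist_level (hC : Comp N M q) (hq : q.Prime) (ψ : Cfsg.IrrCharacter N) (θ : M →* ℂˣ)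
    (hθ : N ≤ stab θ)
    (hψ : ∀ m : M, (ψ : N → ℂ) ⟨m, hC.le m.2⟩ = (ψ : N → ℂ) 1 * (θ m : ℂ)) :
    ∃ β : Cfsg.IrrCharacter ↥(N.map (QuotientGroup.mk' M)),
      Cfsg.charDegree (β : ↥(N.map (QuotientGroup.mk' M)) → ℂ) = Cfsg.charDegree (ψ : N → ℂ) ∧
      CharTwist.inertia N (ψ : N → ℂ) ≤
        (CharTwist.inertia (N.map (QuotientGroup.mk' M))
          (β : ↥(N.map (QuotientGroup.mk' M)) → ℂ)).comap (QuotientGroup.mk' M) := by
  obtain ⟨η, hηM, hηs⟩ := exists_canonical hC hq θ hθ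
  obtain ⟨β, hβ⟩ := exists_level_char (M := M) ⟨_, Char.IsIrrCharacter.linear_mul ψ.2 η⁻¹⟩
    fun x hx => by
      show ((η⁻¹ : N →* ℂˣ) x : ℂ) * (ψ : N → ℂ) x = ((η⁻¹ : N →* ℂˣ) 1 : ℂ) * (ψ : N → ℂ) 1
      rw [show x = ⟨x, hC.le hx⟩ from rfl, hψ ⟨x, hx⟩, map_one, Units.val_one, one_mul,
        MonoidHom.inv_apply, hηM ⟨x, hx⟩, Units.val_inv_eq_inv_val, mul_left_comm,
        inv_mul_cancel₀ (Units.ne_zero _), mul_one]
  have hβ1 : (β : ↥(N.map (QuotientGroup.mk' M)) → ℂ) 1 = (ψ : N → ℂ) 1 := by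
    have h := hβ 1
    rw [map_one] at h
    rw [← h]
    show ((η⁻¹ : N →* ℂˣ) 1 : ℂ) * _ = _
    rw [map_one, Units.val_one, one_mul]
  refine ⟨β, Nat.cast_injective (R := ℂ) ?_, fun g hg => ?_⟩
  · rw [CharTools.irr_degree_cast, CharTools.irr_degree_cast, hβ1]
  have hgψ := fun n => congrFun (CharTwist.mem_inertia.1 hg) n
  have hgθ : g ∈ stab θ := mem_stab.2 (MonoidHom.ext fun m => Units.ext (by
    show (θ (MulAut.conjNormal g m) : ℂ) = θ m
    refine mul_left_cancel₀ (CharTools.irr_apply_one_ne_zero ψ) ?_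
    rw [← hψ, ← hψ]
    exact (congrArg (ψ : N → ℂ) (Subtype.ext (MulAut.conjNormal_apply g m))).trans
      (hgψ ⟨m, hC.le m.2⟩)))
  have hgη := mem_stab.1 (hηs g hgθ)
  rw [Subgroup.mem_comap, CharTwist.mem_inertia]
  funext y
  obtain ⟨n, rfl⟩ := MonoidHom.subgroupMap_surjective (QuotientGroup.mk' M) N y
  have hc : g * (n : G) * g⁻¹ ∈ N := (inferInstance : N.Normal).conj_mem n n.2 g
  rw [← hβ n]
  show (β : ↥(N.map (QuotientGroup.mk' M)) → ℂ) _ = _
  refine Eq.trans (congrArg (β : ↥(N.map (QuotientGroup.mk' M)) → ℂ)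
    (show _ = (QuotientGroup.mk' M).subgroupMap N ⟨_, hc⟩ from Subtype.ext ?_)) ((hβ ⟨_, hc⟩).symm.trans ?_)
  · show QuotientGroup.mk' M g * QuotientGroup.mk' M (n : G) * (QuotientGroup.mk' M g)⁻¹ =
      QuotientGroup.mk' M (g * n * g⁻¹)
    rw [map_mul, map_mul, map_inv]
  · show ((η⁻¹ : N →* ℂˣ) ⟨_, hc⟩ : ℂ) * (ψ : N → ℂ) ⟨_, hc⟩ = _
    rw [show (ψ : N → ℂ) ⟨g * (n : G) * g⁻¹, hc⟩ = (ψ : N → ℂ) n from hgψ n]
    have h2 := DFunLike.congr_fun hgη n
    rw [MonoidHom.inv_apply, show η ⟨g * (n : G) * g⁻¹, hc⟩ = η n from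
      (congrArg η (Subtype.ext (MulAut.conjNormal_apply g n).symm)).trans h2]
    rfl

/-- The level is a level. -/
theorem exists_level (hF : Frob N q) (hC : Comp N M q) (hqN : q ∣ Nat.card ↥⁅N, N⁆)
    (hnp : ∀ p : ℕ, p.Prime → ∀ W : Subgroup G, W.Normal → ¬ commutator G ≤ W →
      ∀ k, W.index ≠ p ^ k)
    {Q : Subgroup G} {c₀ : G} (hc₀ : c₀ ∈ Subgroup.normalizer (Q : Set G))
    (hgen₀ : ∀ g : G, ∃ k : ℕ, (c₀ ^ k)⁻¹ * g ∈ N) :
    ∃ c : G, c ∈ Subgroup.normalizer (Q : Set G) ∧ (∀ g : G, ∃ k : ℕ, (c ^ k)⁻¹ * g ∈ N) ∧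
      Lvl (N.map (QuotientGroup.mk' M)) q (QuotientGroup.mk' M c) := by
  haveI : Fact q.Prime := ⟨hF.prime⟩
  haveI := Fintype.ofFinite N
  haveI := Fintype.ofFinite (G ⧸ M)
  obtain ⟨k, hk⟩ := hC.index
  set π := QuotientGroup.mk' M
  have hπ : Function.Surjective π := QuotientGroup.mk'_surjective M
  have hidx : (N.map π).index = N.index := level_index hC
  have hgen : ∀ g : G, ∃ j : ℕ, ((c₀ ^ q ^ k) ^ j)⁻¹ * g ∈ N := by
    intro g
    obtain ⟨j₀, hj₀⟩ := hgen₀ g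
    obtain ⟨j₁, -, hj₁⟩ := Nat.exists_mul_mod_eq_one_of_coprime
      ((hF.prime.coprime_iff_not_dvd.2 hF.not_dvd).pow_left k) hF.index_gt
    refine ⟨j₁ * j₀, ?_⟩
    have e : q ^ k * (j₁ * j₀) = j₀ + N.index * (q ^ k * j₁ / N.index * j₀) := by
      conv_lhs => rw [← mul_assoc, ← Nat.mod_add_div (q ^ k * j₁) N.index, hj₁]
      ring
    rw [← pow_mul, e, add_comm, pow_add, mul_inv_rev, show
      (c₀ ^ j₀)⁻¹ * (c₀ ^ (N.index * (q ^ k * j₁ / N.index * j₀)))⁻¹ * g =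
        ((c₀ ^ j₀)⁻¹ * (c₀ ^ (N.index * (q ^ k * j₁ / N.index * j₀)))⁻¹ * c₀ ^ j₀) *
          ((c₀ ^ j₀)⁻¹ * g) by group]
    refine mul_mem ?_ hj₀
    have h := (inferInstance : N.Normal).conj_mem _ (inv_mem
      ((pow_mem_iff_dvd N hgen₀ N le_rfl _).2 (Dvd.intro (q ^ k * j₁ / N.index * j₀) rfl))) (c₀ ^ j₀)⁻¹
    rwa [inv_inv] at h
  refine ⟨c₀ ^ q ^ k, pow_mem hc₀ _, hgen, ?_⟩
  have hpg : IsPGroup q (N.map π) := IsPGroup.of_card (n := k) (by rw [level_card hC, hk])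
  obtain ⟨l, hlq, hl⟩ := hF.moved
  set f := π.subgroupMap N with hfdef
  have hfs : Function.Surjective f := MonoidHom.subgroupMap_surjective π N
  have hlM : f.ker ≤ l.ker := fun x hx => by
    have hxM : (x : G) ∈ M := mem_of_mk_eq (congrArg Subtype.val (MonoidHom.mem_ker.1 hx))
    rw [MonoidHom.mem_ker]
    refine orderOf_eq_one_iff.1 (Nat.eq_one_of_dvd_coprimes hC.coprime ?_ ?_)
    · refine (orderOf_map_dvd l x).trans (orderOf_dvd_of_pow_eq_one (Subtype.ext ?_))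
      rw [Subgroup.coe_pow, Subgroup.coe_one]
      exact congrArg Subtype.val (pow_card_eq_one' (x := (⟨(x : G), hxM⟩ : M)))
    · exact orderOf_dvd_of_pow_eq_one (by rw [← MonoidHom.pow_apply, hlq, MonoidHom.one_apply])
  let lb : ↥(N.map π) →* ℂˣ := f.liftOfSurjective hfs ⟨l, hlM⟩
  have hlb : ∀ x : N, lb (f x) = l x := fun x =>
    MonoidHom.liftOfRightInverse_comp_apply f _ _ ⟨l, hlM⟩ x
  have hstab : stab lb ≤ N.map π := fun y hy => by
    obtain ⟨g, rfl⟩ := hπ y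
    refine Subgroup.mem_map_of_mem π (hl (mem_stab.2 (MonoidHom.ext fun x => ?_)))
    show l (MulAut.conjNormal g x) = l x
    rw [← hlb, ← hlb]
    refine Eq.trans (congrArg lb (Subtype.ext ?_)) (DFunLike.congr_fun (mem_stab.1 hy) (f x))
    show π (MulAut.conjNormal g x : N) = ((MulAut.conjNormal (π g) (f x) : ↥(N.map π)) : G ⧸ M)
    rw [MulAut.conjNormal_apply, MulAut.conjNormal_apply, map_mul, map_mul, map_inv]
    rfl
  haveI := Fintype.ofFinite ↥(N.map π)
  have hθ : Cfsg.IsIrrCharacter ↥(N.map π) (fun x => (lb x : ℂ)) := Char.isIrrCharacter_linear lb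
  obtain ⟨χf, hχf⟩ : ∃ χ : Cfsg.IrrCharacter (G ⧸ M),
      Cfsg.charDegree (χ : G ⧸ M → ℂ) = (N.map π).index := by
    refine ⟨⟨_, Clifford.isIrrCharacter_indFun (N.map π) (N.map π) le_rfl hθ
      (fun g => ⟨fun hg => CharTwist.mem_inertia.1 (CharTwist.le_inertia (N.map π)
        (Char.IsIrrCharacter.isClassFunction hθ) hg), fun hg => hstab hg⟩) hθ ?_⟩, ?_⟩
    · rw [show (fun n : ↥(N.map π) => (lb ⟨n, le_rfl (a := N.map π) n.2⟩ : ℂ)) =
        fun x => (lb x : ℂ) from rfl, Char.classInner_irr_self hθ]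
      exact one_ne_zero
    · refine Nat.cast_injective (R := ℂ) ?_
      rw [CharTools.irr_degree_cast]
      show Cfsg.indFun _ _ 1 = _
      rw [Char.indFun_apply_one, map_one, Units.val_one, mul_one]
  refine ⟨⟨nd_quotient hF.hnd M, ?_, hF.prime, hidx ▸ hF.ne_one, hidx ▸ hF.not_dvd, ⟨χf, hχf⟩,
    ⟨lb, ?_, hstab⟩, fun ψ hψ => ?_⟩, hpg, fun h => ?_, fun y => ?_, ?_, fun p hp W hW hW2 i hi => ?_⟩
  · rw [commutator_def, ← Subgroup.map_top_of_surjective π hπ, ← Subgroup.map_commutator]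
    exact Subgroup.map_mono hF.comm
  · refine MonoidHom.ext fun y => ?_
    obtain ⟨x, rfl⟩ := hfs y
    rw [MonoidHom.pow_apply, hlb, ← MonoidHom.pow_apply, hlq, MonoidHom.one_apply, MonoidHom.one_apply]
  · refine ⟨χf, ?_⟩
    obtain ⟨i, -, hi⟩ := (Nat.dvd_prime_pow hF.prime).1
      (show Cfsg.charDegree (ψ : ↥(N.map π) → ℂ) ∣ q ^ k by
        rw [← hk, ← level_card hC]; exact CharTools.degree_dvd_card ψ)
    rcases Nat.eq_zero_or_pos i with rfl | h0
    · rw [hi, pow_zero, mul_one, hχf]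
    · exact absurd (hi ▸ dvd_pow_self q h0.ne') hψ
  · -- nonabelian
    refine hF.prime.ne_one (Nat.eq_one_of_dvd_coprimes hC.coprime (hqN.trans ?_) dvd_rfl)
    refine Subgroup.card_dvd_of_le fun x hx => mem_of_mk_eq ?_
    rw [← Subgroup.mem_bot, ← h, ← Subgroup.map_commutator]
    exact Subgroup.mem_map_of_mem π hx
  · obtain ⟨g, rfl⟩ := hπ y
    obtain ⟨j, hj⟩ := hgen g
    exact ⟨j, by rw [← map_pow, ← map_inv, ← map_mul]; exact Subgroup.mem_map_of_mem π hj⟩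
  · rw [hidx, ← map_pow]
    refine (QuotientGroup.eq_one_iff _).2 ?_
    rw [← pow_mul, mul_comm, pow_mul, ← hk]
    haveI : (M.subgroupOf N).Normal := Subgroup.normal_subgroupOf
    exact Subgroup.pow_index_mem (M.subgroupOf N)
      (⟨c₀ ^ N.index, (pow_mem_iff_dvd N hgen₀ N le_rfl _).2 dvd_rfl⟩ : N)
  · haveI := hW
    refine hnp p hp (W.comap π) inferInstance (fun h => hW2 ?_) i (by
      rw [Subgroup.index_comap_of_surjective W hπ, hi])
    rw [commutator_def, ← Subgroup.map_top_of_surjective π hπ, ← Subgroup.map_commutator,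
      ← commutator_def, Subgroup.map_le_iff_le_comap]
    exact h

end CfsgLib.NoDiv
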