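import Mathlib

/-!
# A Vandermonde injectivity and the final count
-/

set_option autoImplicit false

open scoped Classical

namespace CfsgLib.NoDiv

/-- Vandermonde for commuting endomorphisms with injective differences. -/
theorem vandermonde_eq_zero {M : Type*} [AddCommGroup M] {t : ℕ} (x : Fin t → AddMonoid.End M)
    (hcomm : ∀ i j, x i * x j = x j * x i)
    (hinj : ∀ i j, i ≠ j → ∀ m, x i m = x j m → m = 0) (w : Fin t → M)
    (h : ∀ k, ∑ i : Fin t, (x k ^ (i : ℕ)) (w i) = 0) : w = 0 := by
  let R := Subring.closure (Set.range x)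
  letI : CommRing R :=
    { (inferInstance : Ring R) with
      mul_comm := by
        rintro ⟨a, ha⟩ ⟨b, hb⟩
        refine Subtype.ext ?_
        show a * b = b * a
        refine (Subring.closure_le (t := Subring.centralizer {b})).2 ?_ ha b rfl |>.symm
        rintro _ ⟨i, rfl⟩ c (rfl : c = b)
        refine ((Subring.closure_le (t := Subring.centralizer {x i})).2 ?_ hb (x i) rfl).symm
        rintro _ ⟨j, rfl⟩ d (rfl : d = x i)
        exact hcomm i j }
  let v : Fin t → R := fun i => ⟨x i, Subring.subset_closure ⟨i, rfl⟩⟩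
  set A := Matrix.vandermonde v
  let act : R → M → M := fun r m => (r : AddMonoid.End M) m
  have hdet : ∀ m, act A.det m = 0 → m = 0 := by
    rw [Matrix.det_vandermonde]
    refine Finset.prod_induction _ (fun r : R => ∀ m, act r m = 0 → m = 0)
      (fun a b ha hb m hm => hb m (ha _ hm)) (fun m hm => hm) fun i _ => ?_
    refine Finset.prod_induction _ (fun r : R => ∀ m, act r m = 0 → m = 0)
      (fun a b ha hb m hm => hb m (ha _ hm)) (fun m hm => hm) fun j hj m hm => ?_
    refine hinj j i (Finset.mem_Ioi.1 hj).ne' m ?_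
    exact sub_eq_zero.1 hm
  funext l
  refine hdet (w l) ?_
  have hrow : ∀ i, (A.adjugate * A) l i = if l = i then A.det else 0 := fun i => by
    rw [Matrix.adjugate_mul, Matrix.smul_apply, Matrix.one_apply]
    split_ifs <;> simp
  calc act A.det (w l) = ∑ i, act ((A.adjugate * A) l i) (w i) := by
        rw [Finset.sum_eq_single l]
        · rw [hrow, if_pos rfl]
        · intro i _ hi
          rw [hrow, if_neg (Ne.symm hi)]
          rfl
        · simp
    _ = ∑ k, act (A.adjugate l k) (∑ i, act (A k i) (w i)) := by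
        simp only [act, Matrix.mul_apply, AddSubmonoidClass.coe_finset_sum, map_sum]
        rw [Finset.sum_comm]
        refine Finset.sum_congr rfl fun i _ => ?_
        exact AddMonoidHom.finset_sum_apply
          (fun j => ((A.adjugate l j * A j i : R) : AddMonoid.End M)) Finset.univ (w i)
    _ = 0 := Finset.sum_eq_zero fun k _ => by
        have hk : ∑ i, act (A k i) (w i) = 0 := h k
        rw [hk]
        exact map_zero _

/-- Small fixed point groups: `d * (P - 1)` is below the square root. -/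
theorem mul_pred_le_sqrt {V P t d : ℕ} (hP : 1 ≤ P) (hPV : P ^ t ≤ V) (hd : 2 * d ≤ t) :
    d * (P - 1) ≤ Nat.sqrt V - 1 := by
  refine Nat.le_sub_of_add_le (Nat.le_sqrt.2 ?_)
  have h : d * (P - 1) + 1 ≤ P ^ d := by
    obtain ⟨Q, rfl⟩ : ∃ Q, P = Q + 1 := ⟨P - 1, by omega⟩
    rw [Nat.add_sub_cancel]
    clear hd hPV
    induction d with
    | zero => simp
    | succ d ih =>
      rw [pow_succ]
      calc (d + 1) * Q + 1 ≤ (d * Q + 1) * (Q + 1) := by
            nlinarith [Nat.zero_le (d * Q * Q)]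
        _ ≤ _ := Nat.mul_le_mul_right _ ih
  calc (d * (P - 1) + 1) * (d * (P - 1) + 1) ≤ P ^ d * P ^ d := Nat.mul_le_mul h h
    _ = P ^ (2 * d) := by rw [← pow_add, two_mul]
    _ ≤ P ^ t := Nat.pow_le_pow_right hP hd
    _ ≤ V := hPV

/-- The final count. -/
theorem count_false {ι : Type*} [Fintype ι] {V u b d : ℕ} (hd : 0 < d) (hV : 2 ≤ V) (F : ι → ℕ)
    (hcard : Fintype.card ι ≤ d * b) (hbu : b ≤ u - 1) (hu : u * u ≤ V)
    (hF : ∀ i, d * (F i - 1) ≤ Nat.sqrt V - 1) (hcov : V - 1 ≤ ∑ i, (F i - 1)) : False := by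
  set m := Nat.sqrt V - 1
  have hm : (m + 1) * (m + 1) ≤ V := by
    rw [Nat.sub_add_cancel (Nat.sqrt_pos.2 (by omega))]
    exact Nat.sqrt_le V
  have hbm : b ≤ m := hbu.trans (Nat.sub_le_sub_right (Nat.le_sqrt.2 hu) 1)
  have h1 : d * (V - 1) ≤ d * (m * m) :=
    calc d * (V - 1) ≤ ∑ i, d * (F i - 1) := by
          rw [← Finset.mul_sum]; exact Nat.mul_le_mul_left _ hcov
      _ ≤ ∑ _i : ι, m := Finset.sum_le_sum fun i _ => hF i
      _ = Fintype.card ι * m := by simp
      _ ≤ d * b * m := Nat.mul_le_mul_right _ hcard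
      _ ≤ d * m * m := Nat.mul_le_mul_right _ (Nat.mul_le_mul_left _ hbm)
      _ = d * (m * m) := mul_assoc _ _ _
  have h2 := Nat.le_of_mul_le_mul_left h1 hd
  rcases Nat.eq_zero_or_pos m with h0 | h0
  · rw [h0] at h2; omega
  · nlinarith [Nat.sub_add_cancel (show 1 ≤ V by omega)]

end CfsgLib.NoDiv
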