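import Cfsg.Agent.Lib.ThreeDeg.Dichotomy
import Cfsg.Agent.Lib.NoDiv.Tools

/-!
# The dichotomy, keeping the moved linear character of `q`-power order

Same proof as `ThreeDeg.dichotomy`, with one more conclusion.
-/

set_option autoImplicit false
set_option maxHeartbeats 1000000

open scoped Classical
open CfsgLib

namespace CfsgLib.NoDiv

universe u

variable {G : Type u} [Group G] [Finite G]

/-- The linear twist with no new stabilizer, and the dichotomy. -/
theorem dichotomy (L : Subgroup G) [L.Normal] (hs : Group.IsSolvable (G ⧸ L)) (hL : ¬ commutator G ≤ L) :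
    (∃ p : ℕ, p.Prime ∧ ∃ W : Subgroup G, W.Normal ∧ ¬ commutator G ≤ W ∧ ∃ k, W.index = p ^ k) ∨
    ∃ (H : Subgroup G) (q : ℕ), H.Normal ∧ q.Prime ∧ commutator G ≤ H ∧ H.index ≠ 1 ∧ ¬ q ∣ H.index ∧
      (∃ χ : Cfsg.IrrCharacter G, Cfsg.charDegree (χ : G → ℂ) = H.index) ∧
      (∃ (hn : H.Normal) (l : H →* ℂˣ), l ^ q = 1 ∧ ∀ g : G,
        (∀ x : H, l ⟨g * x * g⁻¹, hn.conj_mem x x.2 g⟩ = l x) → g ∈ H) ∧
      ∀ ψ : Cfsg.IrrCharacter H, ¬ q ∣ Cfsg.charDegree (ψ : H → ℂ) →
        ∃ χ : Cfsg.IrrCharacter G, Cfsg.charDegree (χ : G → ℂ) = H.index * Cfsg.charDegree (ψ : H → ℂ) := by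
  haveI := Fintype.ofFinite G
  obtain ⟨W, hLW, ⟨hWn, hW⟩, hWmax⟩ := (Set.toFinite
    {K : Subgroup G | K.Normal ∧ ¬ commutator G ≤ K}).exists_le_maximal (a := L) ⟨inferInstance, hL⟩
  haveI := hWn
  set π := QuotientGroup.mk' W with hπdef
  have hπ : Function.Surjective π := QuotientGroup.mk'_surjective W
  have hmap : commutator (G ⧸ W) = (commutator G).map π := by
    rw [commutator_def, commutator_def, Subgroup.map_commutator, Subgroup.map_top_of_surjective π hπ]
  have hne : commutator (G ⧸ W) ≠ ⊥ := by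
    rw [hmap, Ne, Subgroup.map_eq_bot_iff, QuotientGroup.ker_mk']
    exact hW
  have hmin : ∀ K : Subgroup (G ⧸ W), K.Normal → K ≠ ⊥ → commutator (G ⧸ W) ≤ K := by
    intro K hK hKne
    rw [hmap, Subgroup.map_le_iff_le_comap]
    by_contra hn
    have hWK : W ≤ K.comap π := fun w hw => by
      rw [Subgroup.mem_comap, show π w = 1 from (QuotientGroup.eq_one_iff w).2 hw]
      exact K.one_mem
    have heq : K.comap π = W := le_antisymm (hWmax ⟨hK.comap π, hn⟩ hWK) hWK
    refine hKne ?_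
    rw [eq_bot_iff]
    intro x hx
    obtain ⟨g, rfl⟩ := hπ x
    rw [Subgroup.mem_bot]
    exact (QuotientGroup.eq_one_iff g).2 (heq ▸ hx)
  have hsQ : Group.IsSolvable (G ⧸ W) := by
    haveI := hs
    refine Group.isSolvable_of_surjective (f := QuotientGroup.map L W (MonoidHom.id G) hLW) fun x => ?_
    obtain ⟨g, rfl⟩ := hπ x
    exact ⟨QuotientGroup.mk g, rfl⟩
  have hab := ThreeDeg.comm_of_solvable hmin hsQ hne
  by_cases hcen : commutator (G ⧸ W) ≤ Subgroup.center (G ⧸ W)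
  · obtain ⟨p, hp, hP⟩ := ThreeDeg.isPGroup_of_central hmin hne hcen
    haveI : Fact p.Prime := ⟨hp⟩
    exact Or.inl ⟨p, hp, W, hWn, hW, IsPGroup.iff_card.1 hP⟩
  obtain ⟨q, hq, hexp, hqf, hflt, hf1, f₀, hf₀⟩ := ThreeDeg.frobenius_facts hmin hab hcen
  set H := (commutator (G ⧸ W)).comap π with hH
  haveI := Fintype.ofFinite H
  have hidx : H.index = (commutator (G ⧸ W)).index := Subgroup.index_comap_of_surjective _ hπ
  let up : (commutator (G ⧸ W) →* ℂˣ) → (H →* ℂˣ) := fun f => f.comp (π.subgroupComap _)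
  have hup : ∀ f (x : H), up f x = f ⟨π x, x.2⟩ := fun f x => rfl
  -- the key step: induce from the stabilizer `H`
  have hind : ∀ ψ : H → ℂ, Cfsg.IsIrrCharacter H ψ → (∀ g, CharTwist.conjFun H ψ g = ψ → g ∈ H) →
      ∃ χ : Cfsg.IrrCharacter G, (χ : G → ℂ) 1 = (H.index : ℂ) * ψ 1 := by
    intro ψ hψ hst
    refine ⟨⟨_, Clifford.isIrrCharacter_indFun H H le_rfl hψ
      (fun g => ⟨fun hg => CharTwist.mem_inertia.1 (CharTwist.le_inertia H
        (CfsgLib.Char.IsIrrCharacter.isClassFunction hψ) hg), hst g⟩) hψ ?_⟩, ?_⟩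
    · rw [show (fun n : H => ψ ⟨n, le_rfl (a := H) n.2⟩) = ψ from rfl, CfsgLib.Char.classInner_irr_self hψ]
      exact one_ne_zero
    · exact CfsgLib.Char.indFun_apply_one H ψ
  have hsemi : ∀ f : commutator (G ⧸ W) →* ℂˣ, f ≠ 1 → ∀ g : G, (∀ x : H,
      f ⟨π (g * x * g⁻¹), (inferInstance : H.Normal).conj_mem x x.2 g⟩ = f ⟨π x, x.2⟩) → g ∈ H := by
    intro f hf g h
    refine DegBound.stab_le_of_monolith hmin hab hcen f hf (π g) fun e => ?_
    obtain ⟨x, hx⟩ := hπ (e : G ⧸ W)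
    have h1 := h ⟨x, by rw [hH, Subgroup.mem_comap, hx]; exact e.2⟩
    convert h1 using 2
    · exact Subtype.ext (by simp [← hx, map_mul, map_inv])
    · exact Subtype.ext hx.symm
  refine Or.inr ⟨H, q, inferInstance, hq, ?_, hidx ▸ hf1, hidx ▸ hqf, ?_, ⟨inferInstance, up f₀, ?_,
    fun g hg => hsemi f₀ hf₀ g hg⟩, fun ψ hψq => ?_⟩
  · rw [hH, hmap]
    exact Subgroup.le_comap_map _ _
  · obtain ⟨χ, hχ⟩ := hind (fun x => (up f₀ x : ℂ)) (CfsgLib.Char.isIrrCharacter_linear _)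
      fun g hg => hsemi f₀ hf₀ g fun x => Units.ext (congrFun hg x)
    refine ⟨χ, Nat.cast_injective (R := ℂ) ?_⟩
    rw [CharTools.irr_degree_cast, hχ, map_one, Units.val_one, mul_one]
  · ext x
    rw [MonoidHom.pow_apply, hup, ← map_pow,
      show (⟨π x, x.2⟩ : commutator (G ⧸ W)) ^ q = 1 from Subtype.ext (hexp _ x.2), map_one,
      MonoidHom.one_apply]
  -- twist `ψ` so that its stabilizer is `H`
  set n := Cfsg.charDegree (ψ : H → ℂ) with hn
  suffices hgood : ∃ f : commutator (G ⧸ W) →* ℂˣ,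
      ∀ g, CharTwist.conjFun H (fun x => (up f x : ℂ) * (ψ : H → ℂ) x) g =
        (fun x => (up f x : ℂ) * (ψ : H → ℂ) x) → g ∈ H by
    obtain ⟨f, hf⟩ := hgood
    obtain ⟨χ, hχ⟩ := hind _ (CfsgLib.Char.IsIrrCharacter.linear_mul ψ.2 (up f)) hf
    refine ⟨χ, Nat.cast_injective (R := ℂ) ?_⟩
    rw [CharTools.irr_degree_cast, hχ, Nat.cast_mul, CharTools.irr_degree_cast, map_one, Units.val_one,
      one_mul]
  by_contra hcon
  push Not at hcon
  choose g hg hgH using hcon
  obtain ⟨δ, hδ⟩ := CharDeep.Extend.exists_det_hom H (ψ : H → ℂ) ψ.2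
  -- invariance of determinants
  have hdet : ∀ f, ∀ x : H,
      up f ⟨g f * x * (g f)⁻¹, (inferInstance : H.Normal).conj_mem x x.2 (g f)⟩ ^ n *
        δ ⟨g f * x * (g f)⁻¹, (inferInstance : H.Normal).conj_mem x x.2 (g f)⟩ = up f x ^ n * δ x := by
    intro f x
    have hirr := CfsgLib.Char.IsIrrCharacter.linear_mul ψ.2 (up f)
    have h1 : Cfsg.detChar (CharTwist.conjFun H (fun x => (up f x : ℂ) * (ψ : H → ℂ) x) (g f)) x =
        Cfsg.detChar (fun x => (up f x : ℂ) * (ψ : H → ℂ) x)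
          ⟨g f * x * (g f)⁻¹, (inferInstance : H.Normal).conj_mem x x.2 (g f)⟩ := by
      obtain ⟨d, ρ, hρ, he⟩ := hirr
      rw [← he]
      let σ : Representation ℂ H (Fin d → ℂ) := ρ.comp (MulAut.conjNormal (H := H) (g f)).toMonoidHom
      haveI : σ.IsIrreducible :=
        CharTwist.irreducible_comp_surjective ρ _ (MulAut.conjNormal (H := H) (g f)).surjective
      rw [show CharTwist.conjFun H ρ.character (g f) = σ.character from rfl, CharDeep.Cover.detChar_eq,
        CharDeep.Cover.detChar_eq]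
      rfl
    rw [hg f, CharDeep.Extend.detChar_twist ψ.2 (up f) n (CharTools.irr_degree_cast ψ).symm] at h1
    simp only [hδ] at h1
    refine Units.ext ?_
    push_cast
    exact h1.symm
  let F : (commutator (G ⧸ W) →* ℂˣ) → G ⧸ H := fun f => QuotientGroup.mk' H (g f)
  have hinj : Function.Injective F := by
    intro f f' h
    have hh : (g f)⁻¹ * g f' ∈ H := QuotientGroup.eq.1 h
    have hprop : ∀ x : H,
        up f' ⟨g f * x * (g f)⁻¹, (inferInstance : H.Normal).conj_mem x x.2 (g f)⟩ ^ n *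
          δ ⟨g f * x * (g f)⁻¹, (inferInstance : H.Normal).conj_mem x x.2 (g f)⟩ = up f' x ^ n * δ x := by
      intro x
      -- conjugation inside `H` does not change linear characters
      have h1 := hdet f' (⟨_, hh⟩⁻¹ * x * ⟨_, hh⟩)
      have h2 : (⟨g f' * ((⟨_, hh⟩⁻¹ * x * ⟨_, hh⟩ : H) : G) * (g f')⁻¹,
          (inferInstance : H.Normal).conj_mem _ (⟨_, hh⟩⁻¹ * x * ⟨_, hh⟩ : H).2 (g f')⟩ : H) =
          ⟨g f * x * (g f)⁻¹, (inferInstance : H.Normal).conj_mem x x.2 (g f)⟩ := Subtype.ext (by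
        simp only [Subgroup.coe_mul, Subgroup.coe_inv]; group)
      rw [h2] at h1
      have h3 : ∀ l : H →* ℂˣ, l (⟨_, hh⟩⁻¹ * x * ⟨_, hh⟩) = l x := fun l => by
        rw [map_mul, map_mul, map_inv, mul_comm, mul_inv_cancel_left]
      rw [h3, h3] at h1
      exact h1
    have hfix : ∀ x : H, (f / f') ⟨π (g f * x * (g f)⁻¹), (inferInstance : H.Normal).conj_mem x x.2 (g f)⟩ ^ n =
        (f / f') ⟨π x, x.2⟩ ^ n := fun x => by
      have h1 := hdet f x
      have h2 := hprop x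
      simp only [hup] at h1 h2
      rw [MonoidHom.div_apply, MonoidHom.div_apply, div_pow, div_pow, div_eq_div_iff_mul_eq_mul]
      have key : ∀ a b c d u v : ℂˣ, a * u = c * v → b * u = d * v → a * d = c * b := by
        intro a b c d u v e1 e2
        refine mul_right_cancel (b := u * v) ?_
        calc a * d * (u * v) = (a * u) * (d * v) := by ac_rfl
          _ = (c * v) * (b * u) := by rw [e1, e2]
          _ = _ := by ac_rfl
      exact key _ _ _ _ _ _ h1 h2
    by_contra hne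
    refine hgH f (hsemi ((f / f') ^ n) (fun hd => hne ?_) (g f) fun x => by
      rw [MonoidHom.pow_apply, MonoidHom.pow_apply]
      exact hfix x)
    refine MonoidHom.ext fun e => div_eq_one.1 ?_
    have h1 : ((f / f') e) ^ n = 1 := DFunLike.congr_fun hd e
    have h2 : ((f / f') e) ^ q = 1 := by
      rw [← map_pow, show e ^ q = 1 from Subtype.ext (hexp e e.2), map_one]
    rw [← MonoidHom.div_apply]
    exact orderOf_eq_one_iff.1 (Nat.eq_one_of_dvd_coprimes ((hq.coprime_iff_not_dvd.2 hψq).symm)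
      (orderOf_dvd_of_pow_eq_one h1) (orderOf_dvd_of_pow_eq_one h2))
  letI : CommGroup (commutator (G ⧸ W)) :=
    { (inferInstance : Group (commutator (G ⧸ W))) with mul_comm := fun a b => Subtype.ext (hab a a.2 b b.2) }
  haveI : NeZero (Monoid.exponent (commutator (G ⧸ W))) := ⟨Monoid.exponent_ne_zero_of_finite⟩
  have hcardX : Nat.card (commutator (G ⧸ W) →* ℂˣ) = Nat.card (commutator (G ⧸ W)) :=
    CommGroup.card_monoidHom_of_hasEnoughRootsOfUnity _ ℂ
  have hle := Nat.card_le_card_of_injective F hinj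
  rw [hcardX, ← Subgroup.index_eq_card, hidx] at hle
  omega

end CfsgLib.NoDiv
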