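import Cfsg.Agent.Lib.NoDiv.Invariant
import Mathlib.Combinatorics.SimpleGraph.Connectivity.Connected

/-!
# The degree graph of a group without divisibility
-/

set_option autoImplicit false

open scoped Classical commutatorElement
open CfsgLib CfsgLib.DegGraph

namespace CfsgLib.NoDiv

universe u

variable {G : Type u} [Group G] [Finite G]

/-- The degree graph on its vertex set. -/
abbrev Gph (G : Type u) [Group G] := (Cfsg.degreeGraph G).induce (Cfsg.degreePrimes G)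

theorem reachable_of_dvd {d r s : ℕ} (hd : d ∈ Cfsg.charDegrees G) (hr : r ∈ Cfsg.degreePrimes G)
    (hs : s ∈ Cfsg.degreePrimes G) (hrd : r ∣ d) (hsd : s ∣ d) :
    (Gph G).Reachable ⟨r, hr⟩ ⟨s, hs⟩ := by
  by_cases h : r = s
  · subst h; rfl
  · exact SimpleGraph.Adj.reachable (show (Cfsg.degreeGraph G).Adj r s from
      ⟨h, hr.1, hs.1, d, hd, ((Nat.coprime_primes hr.1 hs.1).2 h).mul_dvd_of_dvd_of_dvd hrd hsd⟩)

theorem subsingleton_components (h : (Gph G).Preconnected) : Nat.card (Gph G).ConnectedComponent ≠ 2 := by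
  haveI : Subsingleton (Gph G).ConnectedComponent := h.subsingleton_connectedComponent
  have := Finite.card_le_one_iff_subsingleton.2 this
  omega

theorem card_ne_two_of_two_degrees {m : ℕ}
    (h : ∀ χ : Cfsg.IrrCharacter G, Cfsg.charDegree (χ : G → ℂ) = 1 ∨
      Cfsg.charDegree (χ : G → ℂ) = m) : Nat.card (Gph G).ConnectedComponent ≠ 2 := by
  refine subsingleton_components fun r s => ?_
  obtain ⟨r, hrp, d, ⟨χ, rfl⟩, hrd⟩ := r
  obtain ⟨s, hsp, d', ⟨φ, rfl⟩, hsd⟩ := s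
  rcases h χ with h1 | h1
  · rw [h1, Nat.dvd_one] at hrd; exact absurd hrd hrp.ne_one
  rcases h φ with h2 | h2
  · rw [h2, Nat.dvd_one] at hsd; exact absurd hsd hsp.ne_one
  exact reachable_of_dvd ⟨χ, rfl⟩ _ _ hrd (h1 ▸ h2 ▸ hsd)

theorem three_degrees [Group.IsSolvable G] (hnd : Nd G)
    (htwo : Nat.card (Gph G).ConnectedComponent = 2) : Nat.card ↥(Cfsg.charDegrees G) = 3 := by
  haveI := Fintype.ofFinite G
  by_cases hna : commutator G = ⊥
  · exfalso
    refine card_ne_two_of_two_degrees (m := 1) (fun χ => Or.inl ?_) htwo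
    by_contra h1
    obtain ⟨η, hη, he⟩ := CharTwist.exists_irr_quotient χ.2 (⊥ : Subgroup G)
      fun x hx => by rw [Subgroup.mem_bot.1 hx]
    refine h1 ((show Cfsg.charDegree (χ : G → ℂ) = Cfsg.charDegree η by
      rw [he]; simp [Cfsg.charDegree]).trans ?_)
    obtain ⟨n, ρ, hρ, hρe⟩ := hη
    haveI := hρ
    have h := Char.finrank_dvd_index_of_abelian_normal ρ ⊤ fun a _ b _ =>
      (ThreeDeg.commutator_le_iff (⊥ : Subgroup G)).1 hna.le a b
    rw [Subgroup.index_top, Nat.dvd_one, Module.finrank_fin_fun] at h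
    refine Nat.cast_injective (R := ℂ) ?_
    subst hρe
    rw [CharTools.irr_degree_cast
      (⟨ρ.character, n, ρ, hρ, rfl⟩ : Cfsg.IrrCharacter (G ⧸ (⊥ : Subgroup G)))]
    show ρ.character 1 = _
    rw [ρ.char_one, Module.finrank_fin_fun, h]
  by_cases hp : ∀ p : ℕ, p.Prime → ∀ W : Subgroup G, W.Normal → ¬ commutator G ≤ W →
      ∀ k, W.index ≠ p ^ k
  swap
  · push Not at hp
    obtain ⟨p, hp, W, hWn, hW, k, hk⟩ := hp
    haveI := hWn
    obtain ⟨m, -, hm⟩ := two_degrees_of_pQuotient hnd hp W hW hk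
    exact absurd htwo (card_ne_two_of_two_degrees hm)
  obtain ⟨N, hN, q, hF⟩ := exists_frob hnd hna hp
  haveI := hN
  haveI := Fintype.ofFinite N
  obtain ⟨χf, hχf⟩ := hF.degree
  -- every other degree is divisible by `q`
  have hqd : ∀ χ : Cfsg.IrrCharacter G, Cfsg.charDegree (χ : G → ℂ) ≠ 1 →
      Cfsg.charDegree (χ : G → ℂ) ≠ N.index → q ∣ Cfsg.charDegree (χ : G → ℂ) := by
    intro χ h1 hf
    obtain ⟨ψ, hψ⟩ := DegGraph.exists_constituent_res χ N
    refine (hF.q_dvd ψ fun hψ1 => ?_).trans (degree_dvd_of_constituent N χ ψ hψ)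
    exact (hF.degree_of_linear_constituent χ ψ hψ hψ1).elim h1 hf
  -- no degree other than the index meets it
  have hcop : ∀ χ : Cfsg.IrrCharacter G, Cfsg.charDegree (χ : G → ℂ) ≠ 1 →
      Cfsg.charDegree (χ : G → ℂ) ≠ N.index →
      (Cfsg.charDegree (χ : G → ℂ)).Coprime N.index := by
    intro χ h1 hf
    by_contra hnc
    obtain ⟨s, hs, hsd, hsf⟩ := Nat.Prime.not_coprime_iff_dvd.1 hnc
    have hq : q ∈ Cfsg.degreePrimes G := ⟨hF.prime, _, ⟨χ, rfl⟩, hqd χ h1 hf⟩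
    have hsm : s ∈ Cfsg.degreePrimes G := ⟨hs, _, ⟨χ, rfl⟩, hsd⟩
    have key : ∀ r : Cfsg.degreePrimes G, (Gph G).Reachable r ⟨q, hq⟩ := by
      rintro ⟨r, hr⟩
      obtain ⟨d, ⟨φ, rfl⟩, hrd⟩ := hr.2
      have hφ1 : Cfsg.charDegree (φ : G → ℂ) ≠ 1 := fun h => hr.1.ne_one (Nat.dvd_one.1 (h ▸ hrd))
      by_cases hφf : Cfsg.charDegree (φ : G → ℂ) = N.index
      · exact (reachable_of_dvd ⟨χf, rfl⟩ hr hsm (hχf ▸ hφf ▸ hrd) (hχf ▸ hsf)).trans
          (reachable_of_dvd ⟨χ, rfl⟩ hsm hq hsd (hqd χ h1 hf))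
      · exact reachable_of_dvd ⟨φ, rfl⟩ hr hq hrd (hqd φ hφ1 hφf)
    exact subsingleton_components (fun r r' => (key r).trans (key r').symm) htwo
  -- hence the characters of `N` are invariant
  have hinv : ∀ ψ : Cfsg.IrrCharacter N, Cfsg.charDegree (ψ : N → ℂ) ≠ 1 →
      CharTwist.inertia N (ψ : N → ℂ) = ⊤ := by
    intro ψ h1
    obtain ⟨χ, hχ⟩ := Blk83.exists_over N ψ
    have hd := hF.degree_eq χ ψ hχ
    have hq : q ∣ Cfsg.charDegree (χ : G → ℂ) := hd ▸ (hF.q_dvd ψ h1).trans (dvd_mul_left _ _)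
    refine Subgroup.index_eq_one.1 (Nat.eq_one_of_dvd_coprimes (hcop χ
      (fun h => hF.prime.ne_one (Nat.dvd_one.1 (h ▸ hq)))
      (fun h => hF.not_dvd (h ▸ hq))) (hd ▸ dvd_mul_right _ _)
      (Subgroup.index_dvd_of_le (CharTwist.le_inertia N (Char.IsIrrCharacter.isClassFunction ψ.2))))
  obtain ⟨X, hX⟩ : ∃ X : ℕ, ∀ χ : Cfsg.IrrCharacter G, Cfsg.charDegree (χ : G → ℂ) = 1 ∨
      Cfsg.charDegree (χ : G → ℂ) = N.index ∨ Cfsg.charDegree (χ : G → ℂ) = X := by
    by_cases hq : q ∣ Nat.card ↥⁅N, N⁆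
    · exact degrees_invariant hF hq hinv
    · obtain ⟨X, -, hX⟩ := degrees_typeOne hF hq
      exact ⟨X, hX⟩
  by_cases hex : ∃ χ : Cfsg.IrrCharacter G, Cfsg.charDegree (χ : G → ℂ) ≠ 1 ∧
      Cfsg.charDegree (χ : G → ℂ) ≠ N.index
  · obtain ⟨χ, h1, hf⟩ := hex
    have hχX : Cfsg.charDegree (χ : G → ℂ) = X := ((hX χ).resolve_left h1).resolve_left hf
    have hset : Cfsg.charDegrees G = {1, N.index, X} := by
      refine Set.ext fun d => ⟨fun ⟨φ, hφ⟩ => ?_, fun hd => ?_⟩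
      · rw [← hφ]; simpa using hX φ
      · rcases hd with rfl | rfl | rfl
        · exact ⟨Char.principalIrr, CharTools.charDegree_principal⟩
        · exact ⟨χf, hχf⟩
        · exact ⟨χ, hχX⟩
    rw [hset, Nat.card_coe_set_eq, Set.ncard_eq_three]
    exact ⟨1, N.index, X, hF.ne_one.symm, fun h => h1 (hχX.trans h.symm),
      fun h => hf (hχX.trans h.symm), rfl⟩
  · push Not at hex
    refine absurd htwo (card_ne_two_of_two_degrees (m := N.index) fun φ => ?_)
    by_cases h : Cfsg.charDegree (φ : G → ℂ) = 1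
    · exact Or.inl h
    · exact Or.inr (hex φ h)

end CfsgLib.NoDiv
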