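import Cfsg.Agent.Lib.NoDiv.Tools

/-!
# A nonabelian quotient of prime power order: two degrees
-/

set_option autoImplicit false

open scoped Classical commutatorElement
open CfsgLib

namespace CfsgLib.NoDiv

universe u

variable {G : Type u} [Group G] [Finite G]

theorem eq_of_pow (hnd : Nd G) {p : ℕ} {χ φ : Cfsg.IrrCharacter G} {i j : ℕ}
    (h1 : Cfsg.charDegree (χ : G → ℂ) ≠ 1) (h2 : Cfsg.charDegree (φ : G → ℂ) ≠ 1)
    (hi : Cfsg.charDegree (χ : G → ℂ) = p ^ i) (hj : Cfsg.charDegree (φ : G → ℂ) = p ^ j) :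
    Cfsg.charDegree (χ : G → ℂ) = Cfsg.charDegree (φ : G → ℂ) := by
  rcases le_total i j with h | h
  · exact hnd χ φ (deg_gt h1) (hi ▸ hj ▸ pow_dvd_pow p h)
  · exact (hnd φ χ (deg_gt h2) (hi ▸ hj ▸ pow_dvd_pow p h)).symm

/-- With a nonabelian quotient of prime power order there is only one nonlinear degree. -/
theorem two_degrees_of_pQuotient (hnd : Nd G) {p : ℕ} (hp : p.Prime) (W : Subgroup G) [W.Normal]
    (hW : ¬ commutator G ≤ W) {k : ℕ} (hk : W.index = p ^ k) :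
    ∃ m, m ≠ 1 ∧ ∀ χ : Cfsg.IrrCharacter G,
      Cfsg.charDegree (χ : G → ℂ) = 1 ∨ Cfsg.charDegree (χ : G → ℂ) = m := by
  haveI := Fintype.ofFinite G
  obtain ⟨φ, hφ1, hφW, hφd⟩ := ThreeDeg.exists_nonlinear_quotient W hW
  obtain ⟨a, -, ha⟩ := (Nat.dvd_prime_pow hp).1 (hk ▸ hφd)
  -- every nonlinear degree is divisible by `p`
  have hpdvd : ∀ χ : Cfsg.IrrCharacter G, Cfsg.charDegree (χ : G → ℂ) ≠ 1 →
      p ∣ Cfsg.charDegree (χ : G → ℂ) := by
    intro χ hχ
    by_contra hnp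
    have hcop : (Cfsg.charDegree (χ : G → ℂ)).Coprime W.index :=
      hk ▸ ((hp.coprime_iff_not_dvd.2 hnp).symm.pow_right k)
    have hres := ThreeDeg.restrict_of_coprime W χ hcop
    haveI := Fintype.ofFinite W
    obtain ⟨η, hη, hφη⟩ := CharTwist.exists_irr_quotient φ.2 W hφW
    obtain ⟨h1, -, -⟩ := CharDeep.Gal.quotient_bijection W χ.2 hres
    obtain ⟨hψ, -⟩ := h1 η hη
    have hdeg : Cfsg.charDegree ((η ∘ QuotientGroup.mk' W) * (χ : G → ℂ)) =
        Cfsg.charDegree (φ : G → ℂ) * Cfsg.charDegree (χ : G → ℂ) := by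
      refine Nat.cast_injective (R := ℂ) ?_
      rw [CharTools.degree_cast (Char.IsIrrCharacter.isCharacter hψ), Nat.cast_mul,
        CharTools.irr_degree_cast, CharTools.irr_degree_cast, Pi.mul_apply, ← hφη]
    have h2 := hnd χ ⟨_, hψ⟩ (deg_gt hχ) (hdeg ▸ dvd_mul_left _ _)
    rw [show ((⟨_, hψ⟩ : Cfsg.IrrCharacter G) : G → ℂ) = (η ∘ QuotientGroup.mk' W) * (χ : G → ℂ)
      from rfl, hdeg] at h2
    exact hφ1 (Nat.eq_of_mul_eq_mul_right (CharTools.irr_degree_pos χ)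
      (h2.symm.trans (one_mul _).symm))
  obtain ⟨M, hM, hcop, ⟨e, he⟩, hθ⟩ := ThreeDeg.exists_complement hp hpdvd
  haveI := hM
  haveI := Fintype.ofFinite M
  -- `M` lies in `W`
  have hMW : M ≤ W := fun x hx => by
    rw [← QuotientGroup.eq_one_iff, ← orderOf_eq_one_iff]
    refine Nat.eq_one_of_dvd_coprimes (hcop.pow_right k) ?_ ?_
    · exact (orderOf_map_dvd (QuotientGroup.mk' W) x).trans
        (Subgroup.orderOf_dvd_natCard M hx)
    · exact hk ▸ Subgroup.index_eq_card W ▸ orderOf_dvd_natCard _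
  -- the degrees over a character of `M`
  have hlin : ∀ θ : Cfsg.IrrCharacter M, Cfsg.charDegree (θ : M → ℂ) = 1 := by
    intro θ
    by_contra hm
    set T := CharTwist.inertia M (θ : M → ℂ) with hTdef
    have hMT : M ≤ T := CharTwist.le_inertia M (Char.IsIrrCharacter.isClassFunction θ.2)
    haveI : (M.subgroupOf T).Normal := Subgroup.normal_subgroupOf
    obtain ⟨η, hη, hηN⟩ := exists_extension (M.subgroupOf T)
      ((θ : M → ℂ) ∘ Subgroup.subgroupOfEquivOfLe hMT)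
      (CharTwist.isIrrCharacter_comp_equiv θ.2 _)
      (fun t m => congrFun (CharTwist.mem_inertia.1 t.2) (Subgroup.subgroupOfEquivOfLe hMT m))
      (by
        rw [Nat.card_congr (Subgroup.subgroupOfEquivOfLe hMT).toEquiv]
        exact ((Nat.Coprime.coprime_dvd_left (Subgroup.relIndex_dvd_index_of_normal M T)
          (he ▸ hcop.symm.pow_left e))))
    have h1 : 1 < T.index * Cfsg.charDegree (θ : M → ℂ) :=
      lt_of_lt_of_le (deg_gt hm) (Nat.le_mul_of_pos_left _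
        (Nat.pos_of_ne_zero Subgroup.index_ne_zero_of_finite))
    obtain ⟨⟨χ, hχ⟩, hab, -⟩ := over_extendible hnd M θ T (fun g => CharTwist.mem_inertia) hMT η hη
      (fun n => hηN ⟨⟨n, hMT n.2⟩, n.2⟩) h1
    -- `T / M` is abelian, so the degree of `φ` divides the index of `T`
    obtain ⟨η', hη', hφη'⟩ := CharTwist.exists_irr_quotient φ.2 M
      (fun x hx => hφW x (hMW hx))
    have hle := TwoDeg.degree_le_index (⟨η', hη'⟩ : Cfsg.IrrCharacter (G ⧸ M))
      (T.map (QuotientGroup.mk' M)) (by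
        rintro _ ⟨x, hx, rfl⟩ _ ⟨y, hy, rfl⟩
        rw [← commutatorElement_eq_one_iff_mul_comm, ← map_commutatorElement]
        exact (QuotientGroup.eq_one_iff _).2 (hab x hx y hy))
    have hdeg : Cfsg.charDegree η' = Cfsg.charDegree (φ : G → ℂ) := by
      rw [hφη']
      simp [Cfsg.charDegree]
    have hidx : (T.map (QuotientGroup.mk' M)).index = T.index :=
      Subgroup.index_map_eq T (QuotientGroup.mk'_surjective M) (by rwa [QuotientGroup.ker_mk'])
    rw [hidx] at hle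
    change Cfsg.charDegree η' ≤ _ at hle
    rw [hdeg, ha] at hle
    obtain ⟨b, -, hb⟩ := (Nat.dvd_prime_pow hp).1 (he ▸ Subgroup.index_dvd_of_le hMT)
    rw [hb] at hle hχ
    have hdvd : Cfsg.charDegree (φ : G → ℂ) ∣ Cfsg.charDegree (χ : G → ℂ) := by
      rw [ha, hχ]
      exact (pow_dvd_pow p ((Nat.pow_le_pow_iff_right hp.one_lt).1 hle)).trans (dvd_mul_right _ _)
    have h2 := hnd φ χ (deg_gt hφ1) hdvd
    rw [ha, hχ] at h2
    have h3 : Cfsg.charDegree (θ : M → ℂ) ∣ p ^ a := h2 ▸ dvd_mul_left _ _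
    exact hm (Nat.eq_one_of_dvd_coprimes (hcop.pow_right a)
      (CharTools.degree_dvd_card θ) h3)
  refine ⟨_, hφ1, fun χ => ?_⟩
  by_cases hχ : Cfsg.charDegree (χ : G → ℂ) = 1
  · exact Or.inl hχ
  · obtain ⟨θ, hθc⟩ := DegGraph.exists_constituent_res χ M
    obtain ⟨j, hj, hjd⟩ := ThreeDeg.over_ratio M χ θ hθc
    rw [hlin θ, one_mul] at hj
    obtain ⟨i, -, hi⟩ := (Nat.dvd_prime_pow hp).1 (he ▸ hjd)
    exact Or.inr (eq_of_pow hnd hχ hφ1 (hj.trans hi) ha)

end CfsgLib.NoDiv
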