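import Cfsg.Agent.Lib.NoDiv.TypeOne
import Cfsg.Agent.Lib.TwoDeg.Basic
import Cfsg.Agent.Lib.NoDiv.PType

/-!
# All nonlinear characters of `N` invariant
-/

set_option autoImplicit false

open scoped Classical commutatorElement
open CfsgLib CfsgLib.DegGraph

namespace CfsgLib.NoDiv

universe u

variable {G : Type u} [Group G] [Finite G] {N : Subgroup G} [N.Normal] {q : ℕ}

/-- If every nonlinear character of `N` is invariant, a nonabelian `q`-quotient of `N` gives all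
the other degrees. -/
theorem degrees_invariant (hF : Frob N q) (hq : q ∣ Nat.card ↥⁅N, N⁆)
    (hinv : ∀ ψ : Cfsg.IrrCharacter N, Cfsg.charDegree (ψ : N → ℂ) ≠ 1 →
      CharTwist.inertia N (ψ : N → ℂ) = ⊤) :
    ∃ X : ℕ, ∀ χ : Cfsg.IrrCharacter G, Cfsg.charDegree (χ : G → ℂ) = 1 ∨
      Cfsg.charDegree (χ : G → ℂ) = N.index ∨ Cfsg.charDegree (χ : G → ℂ) = X := by
  haveI := Fintype.ofFinite G
  haveI := Fintype.ofFinite N
  haveI : Fact q.Prime := ⟨hF.prime⟩
  have hup : ∀ ψ : Cfsg.IrrCharacter N, Cfsg.charDegree (ψ : N → ℂ) ≠ 1 →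
      ∃ χ : Cfsg.IrrCharacter G, Cfsg.charDegree (χ : G → ℂ) = Cfsg.charDegree (ψ : N → ℂ) := by
    intro ψ h1
    obtain ⟨χ, hχ⟩ := Blk83.exists_over N ψ
    exact ⟨χ, by rw [hF.degree_eq χ ψ hχ, hinv ψ h1, Subgroup.index_top, one_mul]⟩
  have hnd : Nd N := fun ψ φ h1 h2 => by
    obtain ⟨χ, hχ⟩ := hup ψ h1.ne'
    obtain ⟨χ', hχ'⟩ := hup φ fun h => by rw [h, Nat.dvd_one] at h2; omega
    rw [← hχ] at h1 h2 ⊢
    rw [← hχ'] at h2 ⊢
    exact hF.hnd χ χ' h1 h2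
  obtain ⟨M, hMn, hMq, ⟨k, hk⟩, hM⟩ := ThreeDeg.exists_complement hF.prime hF.q_dvd
  haveI := hMn
  have hnab : ¬ commutator N ≤ M := fun hle => by
    refine hF.prime.ne_one (Nat.eq_one_of_dvd_coprimes hMq (hq.trans ?_) dvd_rfl)
    rw [← Subgroup.map_subtype_commutator, Subgroup.card_map_of_injective N.subtype_injective]
    exact Subgroup.card_dvd_of_le hle
  obtain ⟨φ₀, hφ1, hφM, hφd⟩ := ThreeDeg.exists_nonlinear_quotient M hnab
  obtain ⟨a, -, ha⟩ := (Nat.dvd_prime_pow hF.prime).1 (hk ▸ hφd)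
  -- characters of the complement are linear
  have hlin : ∀ θ : Cfsg.IrrCharacter M, Cfsg.charDegree (θ : M → ℂ) = 1 := by
    intro θ
    by_contra hθ1
    haveI := Fintype.ofFinite M
    set T := CharTwist.inertia M (θ : M → ℂ)
    have hMT : M ≤ T := CharTwist.le_inertia M (Char.IsIrrCharacter.isClassFunction θ.2)
    have hTi : ∃ i, T.index = q ^ i := by
      obtain ⟨i, -, hi⟩ := (Nat.dvd_prime_pow hF.prime).1 (hk ▸ Subgroup.index_dvd_of_le hMT)
      exact ⟨i, hi⟩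
    obtain ⟨i, hi⟩ := hTi
    haveI := Fintype.ofFinite T
    haveI : (M.subgroupOf T).Normal := Subgroup.normal_subgroupOf
    let e : M.subgroupOf T ≃* M := Subgroup.subgroupOfEquivOfLe hMT
    obtain ⟨η, hη, hηθ⟩ := exists_extension (M.subgroupOf T) ((θ : M → ℂ) ∘ e)
      (CharTwist.isIrrCharacter_comp_equiv θ.2 e)
      (fun g n => congrFun (CharTwist.mem_inertia.1 g.2) (e n))
      (by
        rw [Nat.card_congr e.toEquiv]
        refine Nat.Coprime.coprime_dvd_left (show (M.subgroupOf T).index ∣ M.index from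
          Dvd.intro _ (Subgroup.relIndex_mul_index hMT)) ?_
        rw [hk]
        exact hMq.symm.pow_left k)
    have hηM : ∀ m : M, η ⟨m, hMT m.2⟩ = (θ : M → ℂ) m := fun m => hηθ (e.symm m)
    have hdeg : ∀ β : Cfsg.IrrCharacter (T ⧸ M.subgroupOf T), ∃ ψ : Cfsg.IrrCharacter N,
        Cfsg.charDegree (ψ : N → ℂ) = T.index * Cfsg.charDegree (θ : M → ℂ) *
          Cfsg.charDegree (β : T ⧸ M.subgroupOf T → ℂ) := fun β =>
      exists_degree_over M (θ : M → ℂ) θ.2 T (fun g => CharTwist.mem_inertia) hMT η hη hηM β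
    obtain ⟨ψ₁, hψ₁⟩ := hdeg Char.principalIrr
    rw [show Cfsg.charDegree ((Char.principalIrr :
      Cfsg.IrrCharacter (T ⧸ M.subgroupOf T)) : (T ⧸ M.subgroupOf T) → ℂ) = 1 from
        CharTools.charDegree_principal, mul_one] at hψ₁
    rcases Nat.lt_or_ge i a with hia | hai
    · have hψgt : 1 < Cfsg.charDegree (ψ₁ : N → ℂ) := deg_gt fun h => hθ1
        (Nat.eq_one_of_mul_eq_one_left (hψ₁.symm.trans h))
      have hone : ∀ β : Cfsg.IrrCharacter (T ⧸ M.subgroupOf T),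
          Cfsg.charDegree (β : T ⧸ M.subgroupOf T → ℂ) = 1 := by
        intro β
        obtain ⟨ψ, hψ⟩ := hdeg β
        have h2 := hnd ψ₁ ψ hψgt (by rw [hψ, ← hψ₁]; exact dvd_mul_right _ _)
        rw [hψ, ← hψ₁] at h2
        exact (Nat.eq_of_mul_eq_mul_left (Nat.lt_trans Nat.one_pos hψgt)
          ((mul_one _).trans h2)).symm
      obtain ⟨η₀, hη₀, hφη⟩ := CharTwist.exists_irr_quotient φ₀.2 M hφM
      set π := QuotientGroup.mk' M
      have hle := TwoDeg.degree_le_index ⟨η₀, hη₀⟩ (T.map π) (by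
        rintro _ ⟨x, hx, rfl⟩ _ ⟨y, hy, rfl⟩
        have h := TwoDeg.comm_of_degree_one hone (QuotientGroup.mk (⟨x, hx⟩ : T))
          (QuotientGroup.mk ⟨y, hy⟩)
        rw [← QuotientGroup.mk_mul, ← QuotientGroup.mk_mul, QuotientGroup.eq,
          Subgroup.mem_subgroupOf] at h
        rw [← map_mul, ← map_mul]
        exact QuotientGroup.eq.2 h)
      rw [Subgroup.index_map_eq T (QuotientGroup.mk'_surjective M) (by rwa [QuotientGroup.ker_mk']),
        hi, show Cfsg.charDegree η₀ = Cfsg.charDegree (φ₀ : N → ℂ) by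
          rw [hφη]; simp [Cfsg.charDegree], ha] at hle
      exact absurd hle (not_le.2 (Nat.pow_lt_pow_right hF.prime.one_lt hia))
    · have h2 := hnd φ₀ ψ₁ (deg_gt hφ1) (by
        rw [ha, hψ₁, hi]
        exact (pow_dvd_pow q hai).trans (dvd_mul_right _ _))
      rw [ha, hψ₁] at h2
      exact hθ1 (Nat.eq_one_of_dvd_coprimes ((hF.prime.coprime_iff_not_dvd.2 (hM θ).1).symm.pow_right a)
        dvd_rfl ⟨T.index, by rw [h2, mul_comm]⟩)
  refine ⟨q ^ a, fun χ => ?_⟩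
  obtain ⟨ψ, hψ⟩ := DegGraph.exists_constituent_res χ N
  by_cases h1 : Cfsg.charDegree (ψ : N → ℂ) = 1
  · exact (hF.degree_of_linear_constituent χ ψ hψ h1).imp id Or.inl
  refine Or.inr (Or.inr ?_)
  rw [hF.degree_eq χ ψ hψ, hinv ψ h1, Subgroup.index_top, one_mul]
  haveI := Fintype.ofFinite M
  obtain ⟨θ, hθ⟩ := DegGraph.exists_constituent_res ψ M
  obtain ⟨j, hj, hjd⟩ := ThreeDeg.over_ratio M ψ θ hθ
  rw [hlin θ, one_mul] at hj
  obtain ⟨i, -, hi⟩ := (Nat.dvd_prime_pow hF.prime).1 (hk ▸ hj ▸ hjd)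
  rw [← ha]
  exact eq_of_pow hnd h1 hφ1 hi ha

end CfsgLib.NoDiv
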