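import Cfsg.Agent.Lib.NoDiv.Central
import Cfsg.Agent.Lib.NoDiv.Count

/-!
# The layer is abelian
-/

set_option autoImplicit false

open scoped Classical commutatorElement
open CfsgLib CfsgLib.DegGraph

namespace CfsgLib.NoDiv

universe u

variable {G : Type u} [Group G] [Finite G]

omit [Finite G] in
/-- Expanding a power of `n * g`. -/
theorem exists_pow_eq (N : Subgroup G) [N.Normal] (μ : N →* ℂˣ) (g : G) (n : N) (i : ℕ) :
    ∃ P : N, ((n : G) * g) ^ i = (P : G) * g ^ i ∧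
      μ P = ∏ k ∈ Finset.range i, cj (g ^ k) μ n := by
  induction i with
  | zero => exact ⟨1, by simp, by simp⟩
  | succ i ih =>
    obtain ⟨P, hP, hμ⟩ := ih
    refine ⟨P * MulAut.conjNormal (g ^ i) n, ?_, ?_⟩
    · rw [pow_succ, hP, Subgroup.coe_mul, MulAut.conjNormal_apply, pow_succ g i]
      group
    · rw [map_mul, hμ, Finset.prod_range_succ]
      rfl

/-- Endomorphisms of the additive copy. -/
def toEnd (V : Type*) [CommGroup V] : MulAut V →* AddMonoid.End (Additive V) where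
  toFun a := MonoidHom.toAdditive a.toMonoidHom
  map_one' := rfl
  map_mul' _ _ := rfl

variable {N : Subgroup G} [N.Normal] {q : ℕ}

namespace AbLayer

variable {L Q : Subgroup G} [L.Normal] {c : G} (hF : Frob N q) (hA : AbLayer N q L Q c)
include hF hA

/-- The fixed points of an element without powers in `N` up to `t` are few. -/
theorem card_fixed_pow {y : G} {t : ℕ} (ht : ∀ m : ℕ, 0 < m → m < t → y ^ m ∉ N) :
    Nat.card {v : L →* ℂˣ // y ∈ stab v} ^ t ≤ Nat.card (L →* ℂˣ) := by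
  haveI : Finite (L →* ℂˣ) := by infer_instance
  obtain ⟨E, hEQ, hEc, hEfix, e, he, heA⟩ := hA.exists_E hF
  have hNe : ∀ k : ℕ, y ^ k * e * (y ^ k)⁻¹ ∈ N := fun k =>
    (inferInstance : N.Normal).conj_mem e (hA.le_N (hEQ he)) _
  let a : ℕ → MulAut (L →* ℂˣ) := fun k => cjHom L (y ^ k * e * (y ^ k)⁻¹)
  let x : Fin t → AddMonoid.End (Additive (L →* ℂˣ)) := fun k => toEnd _ (a k)
  have hcomm : ∀ i j, x i * x j = x j * x i := by
    intro i j
    simp only [x, a, ← map_mul]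
    congr 1
    refine (div_eq_one.1 ?_)
    rw [div_eq_mul_inv, ← map_inv, ← map_mul]
    refine MonoidHom.mem_ker.1 ((mem_A1.1 (hA.L_le_A1 hF ?_)) |>.2 |> fun h =>
      MonoidHom.mem_ker.2 (MulEquiv.ext fun w => (cjHom_fixed_iff L _ w).2 (h w)))
    have h := hA.abelian _ (hNe i) _ (hNe j)
    rw [commutatorElement_def] at h
    convert h using 1
    group
  have hinj : ∀ i j, i ≠ j → ∀ m, x i m = x j m → m = 0 := by
    have key : ∀ l k : ℕ, l < k → k < t → ∀ m : L →* ℂˣ, a k m = a l m → m = 1 := by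
      intro l k hlk hkt m hm
      set b := (y ^ l * e * (y ^ l)⁻¹)⁻¹ * (y ^ k * e * (y ^ k)⁻¹) with hb
      refine hA.eq_one_of_fixed hF (mul_mem (inv_mem (hNe l)) (hNe k)) (fun hbA => ?_)
        ((cjHom_fixed_iff L b m).1 ?_)
      · refine heA ?_
        have h1 : ⁅y ^ (k - l), e⁆ ∈ A1 N L := by
          have h2 := (inferInstance : (A1 N L).Normal).conj_mem _
            ((inferInstance : (A1 N L).Normal).conj_mem b hbA (y ^ l)⁻¹) e
          convert h2 using 1
          rw [hb, commutatorElement_def,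
            show y ^ k = y ^ l * y ^ (k - l) by rw [← pow_add, Nat.add_sub_cancel' hlk.le]]
          group
        rw [hEfix (y ^ (k - l)) e (ht _ (by omega) (by omega)) he h1]
        exact one_mem _
      · show cjHom L b m = m
        rw [hb, map_mul, map_inv, MulAut.mul_apply]
        show (a l)⁻¹ (a k m) = m
        rw [hm]
        exact (a l).symm_apply_apply m
    intro i j hij m hm
    have hm' : a i m.toMul = a j m.toMul := hm
    rcases Nat.lt_or_ge i j with h | h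
    · exact key i j h j.2 _ hm'.symm
    · exact key j i (lt_of_le_of_ne h fun h' => hij (Fin.ext h'.symm)) i.2 _ hm'
  let W : Subgroup (L →* ℂˣ) :=
    { carrier := {v | cjHom L y v = v}
      one_mem' := map_one _
      mul_mem' := fun {u v} (hu : cjHom L y u = u) (hv : cjHom L y v = v) => by
        show cjHom L y (u * v) = u * v
        rw [map_mul, hu, hv]
      inv_mem' := fun {u} (hu : cjHom L y u = u) => by
        exact (map_inv (cjHom L y) u).trans (congrArg Inv.inv hu) }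
  let Φ : (Fin t → W) →* (L →* ℂˣ) :=
    MonoidHom.mk' (fun w => ∏ i : Fin t, (cjHom L e ^ (i : ℕ)) (w i : L →* ℂˣ)) fun u w => by
      simp only [Pi.mul_apply, Subgroup.coe_mul, map_mul, Finset.prod_mul_distrib]
  have hΦ : Function.Injective Φ := by
    rw [injective_iff_map_eq_one]
    intro w hw
    have hfix : ∀ (i : Fin t) (k : ℕ), cjHom L (y ^ k) (w i : L →* ℂˣ) = w i := fun i k =>
      (cjHom_fixed_iff L _ _).2 (pow_mem ((cjHom_fixed_iff L y _).1 (w i).2) k)
    have h0 := vandermonde_eq_zero x hcomm hinj (fun i => Additive.ofMul (w i : L →* ℂˣ)) fun k => by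
      have h1 := congrArg (cjHom L (y ^ (k : ℕ))) hw
      rw [map_one] at h1
      rw [show (0 : Additive (L →* ℂˣ)) = Additive.ofMul 1 from rfl, ← h1]
      show (∑ i : Fin t, ((toEnd _ (a k)) ^ (i : ℕ)) (Additive.ofMul (w i : L →* ℂˣ))) =
        Additive.ofMul (cjHom L (y ^ (k : ℕ)) (∏ i : Fin t, (cjHom L e ^ (i : ℕ)) (w i : L →* ℂˣ)))
      rw [map_prod, ofMul_prod]
      refine Finset.sum_congr rfl fun i _ => ?_
      rw [← map_pow (toEnd _)]
      refine congrArg Additive.ofMul ?_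
      show (a k ^ (i : ℕ)) (w i : L →* ℂˣ) = _
      simp only [a, map_mul, map_inv, conj_pow, MulAut.mul_apply]
      refine congrArg _ (congrArg _ ?_)
      rw [← map_inv, ← inv_pow]
      exact (cjHom_fixed_iff L _ _).2 (pow_mem (inv_mem ((cjHom_fixed_iff L y _).1 (w i).2)) _)
    exact funext fun i => Subtype.ext (congrArg Additive.toMul (congrFun h0 i))
  have h := Nat.card_le_card_of_injective Φ hΦ
  rw [Nat.card_fun, Nat.card_eq_fintype_card (α := Fin t), Fintype.card_fin] at h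
  refine le_of_eq_of_le (congrArg (· ^ t) (Nat.card_congr ?_)) h
  exact Equiv.subtypeEquivRight fun v => (cjHom_fixed_iff L y v).symm

set_option maxHeartbeats 1200000 in
/-- The layer is abelian. -/
theorem layer_abelian [Group.IsSolvable G] : ⁅L, L⁆ = ⊥ := by
  by_contra hL
  obtain ⟨K, hK⟩ := exists_bottom L hL
  haveI := hK.normal
  have hcen := hA.bottom_central hF hK
  haveI := Fintype.ofFinite G
  haveI := Fintype.ofFinite L
  haveI : Finite (L →* ℂˣ) := by infer_instance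
  obtain ⟨p, hp, hV⟩ := hA.exists_prime_dual hF
  haveI : Fact p.Prime := ⟨hp⟩
  obtain ⟨μ, hμ⟩ := hA.exists_faithful hF
  set W := annChars ⁅L, L⁆ K with hW
  have hbot := hA.bottom_facts hF hK hcen hp hV
  have hstab_cj : ∀ (g : G) (v : ↥⁅L, L⁆ →* ℂˣ) (a : G),
      a ∈ stab (cj g v) ↔ g * a * g⁻¹ ∈ stab v := by
    intro g v a
    rw [mem_stab, mem_stab, ← cj_mul]
    refine ⟨fun h => ?_, fun h => ?_⟩
    · rw [show g * a * g⁻¹ = (g * a) * g⁻¹ by group, cj_mul, h, ← cj_mul, mul_inv_cancel, cj_one]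
    · rw [show g * a = (g * a * g⁻¹) * g by group, cj_mul, h]
  -- `A1` fixes the bottom characters
  have hA1fix : ∀ v ∈ W, A1 N L ≤ stab v := by
    intro v hv a ha
    refine mem_stab.2 (MonoidHom.ext fun x => ?_)
    let e1 : ↥⁅L, L⁆ →* ℂˣ := cj a v
    show e1 x = v x
    obtain ⟨x, hx⟩ := x
    have hx' := hx
    rw [Subgroup.commutator_def] at hx'
    revert hx
    induction hx' using Subgroup.closure_induction with
    | mem z hz =>
      obtain ⟨l₁, h₁, l₂, h₂, rfl⟩ := hz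
      intro hx
      have hd : ∀ (l : G) (hl : l ∈ L), ∃ z ∈ ⁅L, L⁆, a * l * a⁻¹ = l * z := by
        intro l hl
        refine ⟨l⁻¹ * (a * l * a⁻¹), mem_derived_of_forall (mul_mem (inv_mem hl)
          ((inferInstance : L.Normal).conj_mem l hl a)) fun w => ?_, by group⟩
        have h3 := DFunLike.congr_fun (mem_stab.1 ((mem_A1.1 ha).2 w)) ⟨l, hl⟩
        show w ((⟨l, hl⟩ : L)⁻¹ * ⟨a * l * a⁻¹, (inferInstance : L.Normal).conj_mem l hl a⟩) = 1
        rw [map_mul, map_inv, show w ⟨a * l * a⁻¹, (inferInstance : L.Normal).conj_mem l hl a⟩ =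
          w ⟨l, hl⟩ from h3, inv_mul_cancel]
      obtain ⟨z₁, hz₁, he₁⟩ := hd l₁ h₁
      obtain ⟨z₂, hz₂, he₂⟩ := hd l₂ h₂
      show v ⟨a * ⁅l₁, l₂⁆ * a⁻¹, _⟩ = v ⟨⁅l₁, l₂⁆, hx⟩
      set π := QuotientGroup.mk' K
      have hc : ∀ (z : G), z ∈ ⁅L, L⁆ → ∀ l ∈ L, Commute (π z) (π l) := fun z hz l hl => by
        refine commutatorElement_eq_one_iff_mul_comm.1 ?_
        rw [← map_commutatorElement]
        exact (QuotientGroup.eq_one_iff _).2 (hcen (Subgroup.commutator_mem_commutator hz hl))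
      have hπ : π (a * ⁅l₁, l₂⁆ * a⁻¹) = π ⁅l₁, l₂⁆ := by
        rw [show a * ⁅l₁, l₂⁆ * a⁻¹ = ⁅a * l₁ * a⁻¹, a * l₂ * a⁻¹⁆ by
          simp only [commutatorElement_def]; group, he₁, he₂, map_commutatorElement,
          map_commutatorElement, map_mul, map_mul]
        have c1 := hc z₁ hz₁ l₂ h₂
        have c2 := hc z₂ hz₂ l₁ h₁
        have c3 := hc z₁ hz₁ z₂ (derived_le L hz₂)
        simp only [commutatorElement_def, mul_inv_rev]
        calc π l₁ * π z₁ * (π l₂ * π z₂) * ((π z₁)⁻¹ * (π l₁)⁻¹) * ((π z₂)⁻¹ * (π l₂)⁻¹)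
            = π l₁ * ((π z₁ * (π l₂ * π z₂)) * (π z₁)⁻¹) * (π l₁)⁻¹ *
              ((π z₂)⁻¹ * (π l₂)⁻¹) := by group
          _ = π l₁ * π l₂ * (π z₂ * (π l₁)⁻¹) * (π z₂)⁻¹ * (π l₂)⁻¹ := by
            rw [(c1.mul_right c3).eq]; group
          _ = _ := by rw [c2.inv_right.eq]; group
      have hk : (a * ⁅l₁, l₂⁆ * a⁻¹)⁻¹ * ⁅l₁, l₂⁆ ∈ K := QuotientGroup.eq.1 hπ
      have hy : a * ⁅l₁, l₂⁆ * a⁻¹ ∈ ⁅L, L⁆ :=
        (inferInstance : (⁅L, L⁆).Normal).conj_mem _ hx a
      have h4 := hv (⟨_, mul_mem (inv_mem hy) hx⟩ : ↥⁅L, L⁆) hk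
      have h5 : v ((⟨_, hy⟩ : ↥⁅L, L⁆)⁻¹ * ⟨_, hx⟩) = 1 := h4
      rw [map_mul, map_inv, inv_mul_eq_one] at h5
      exact h5
    | one => intro hx; exact (map_one e1).trans (map_one v).symm
    | mul x y hx hy ihx ihy =>
      intro hxy
      have hx' : x ∈ ⁅L, L⁆ := hx
      have hy' : y ∈ ⁅L, L⁆ := hy
      show e1 (⟨x, hx'⟩ * ⟨y, hy'⟩) = v (⟨x, hx'⟩ * ⟨y, hy'⟩)
      rw [map_mul, map_mul, ihx hx', ihy hy']
    | inv x hx ih =>
      intro hx1
      have hx' : x ∈ ⁅L, L⁆ := hx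
      show e1 (⟨x, hx'⟩⁻¹) = v (⟨x, hx'⟩⁻¹)
      rw [map_inv, map_inv, ih hx']
  -- all inertia groups inside `N` agree and are central modulo `A1`
  obtain ⟨v₀, hv₀, hv₀1⟩ := hK.exists_char
  set A2 := N ⊓ stab v₀ with hA2
  have hA12 : A1 N L ≤ A2 := le_inf inf_le_left (hA1fix v₀ hv₀)
  have hμconj : ∀ (g : G) (a : N),
      ∃ i : ℕ, (MulAut.conjNormal g a * (a ^ i)⁻¹ : N).1 ∈ A1 N L := by
    intro g a
    have hpow : μ (MulAut.conjNormal g a) ^ orderOf (μ a) = 1 := by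
      rw [← map_pow, hμ, ← map_pow]
      show g * (((a ^ orderOf (μ a) : N) : G)) * g⁻¹ ∈ A1 N L
      refine (inferInstance : (A1 N L).Normal).conj_mem _ ((hμ _).1 ?_) g
      rw [map_pow, pow_orderOf_eq_one]
    haveI : NeZero (orderOf (μ a)) :=
      ⟨(μ.isOfFinOrder (isOfFinOrder_of_finite a)).orderOf_pos.ne'⟩
    obtain ⟨i, -, hi⟩ := (IsPrimitiveRoot.coe_units_iff.2
      (IsPrimitiveRoot.orderOf (μ a))).eq_pow_of_pow_eq_one
      (ξ := (μ (MulAut.conjNormal g a) : ℂ))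
      (by rw [← Units.val_pow_eq_pow_val, hpow, Units.val_one])
    refine ⟨i, (hμ _).1 ?_⟩
    rw [map_mul, map_inv, map_pow, show μ (MulAut.conjNormal g a) = μ a ^ i from
      (Units.ext (by rw [Units.val_pow_eq_pow_val]; exact hi)).symm, mul_inv_cancel]
  have hA2n : A2.Normal := ⟨fun a ha g => by
    obtain ⟨i, hi⟩ := hμconj g ⟨a, ha.1⟩
    have h1 : g * a * g⁻¹ * (a ^ i)⁻¹ ∈ A1 N L := by simpa using hi
    rw [show g * a * g⁻¹ = (g * a * g⁻¹ * (a ^ i)⁻¹) * a ^ i by group]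
    exact mul_mem (hA12 h1) (pow_mem ha i)⟩
  haveI := hA2n
  have hA2fix : ∀ v ∈ W, A2 ≤ stab v := by
    intro v hv a ha
    refine mem_stab.2 (MonoidHom.ext fun x => ?_)
    have hx1 : a * x * a⁻¹ ∈ ⁅L, L⁆ := (inferInstance : (⁅L, L⁆).Normal).conj_mem x x.2 a
    have hk : (a * x * a⁻¹) * (x : G)⁻¹ ∈ K := by
      refine hK.mem_of_annihilated (fun u => u ∈ W ∧ A2 ≤ stab u) (fun u hu => hu.1)
        (fun g u hu => ⟨fun y hy => hu.1 _ (hK.normal.conj_mem y hy g), fun b hb =>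
          (hstab_cj g u b).2 (hu.2 (hA2n.conj_mem b hb g))⟩)
        ⟨hv₀, inf_le_right⟩ hv₀1 (mul_mem hx1 (inv_mem x.2)) fun u hu => ?_
      have h3 : u ⟨a * x * a⁻¹, hx1⟩ = u x := DFunLike.congr_fun (mem_stab.1 (hu.2 ha)) x
      show u (⟨a * x * a⁻¹, hx1⟩ * x⁻¹) = 1
      rw [map_mul, map_inv, h3, mul_inv_cancel]
    have h4 : v (⟨a * x * a⁻¹, hx1⟩ * x⁻¹) = 1 := hv _ hk
    rw [map_mul, map_inv, mul_inv_eq_one] at h4
    exact h4
  obtain ⟨ξ, hξ1, hξv⟩ := hA.exists_over_bottom hF hK hcen hv₀ hv₀1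
  have hin : ∀ g, g ∈ CharTwist.inertia L (ξ : L → ℂ) ↔ g ∈ stab v₀ :=
    hA.mem_inertia_iff hF hK hcen hv₀1 ξ hξ1 hξv
  have hLA2 : L ≤ A2 := (hA.L_le_A1 hF).trans hA12
  have hcentral : ∀ a ∈ A2, ∀ g : G, ⁅a, g⁆ ∈ A1 N L := by
    intro a ha
    set n := L.relIndex A2
    have hn : n ≠ 0 := Subgroup.index_ne_zero_of_finite (H := L.subgroupOf A2)
    set k := n.factorization p
    set m := n / p ^ k
    have hnm : p ^ k * m = n := Nat.ordProj_mul_ordCompl_eq_self n p
    have hpm : ¬ p ∣ m := Nat.not_dvd_ordCompl hp hn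
    haveI : (L.subgroupOf A2).Normal := Subgroup.normal_subgroupOf
    have hcomm2 : ∀ u ∈ N, ∀ w ∈ N, Commute (QuotientGroup.mk' L u) (QuotientGroup.mk' L w) :=
      fun u hu w hw => commutatorElement_eq_one_iff_mul_comm.1 (by
        rw [← map_commutatorElement]
        exact (QuotientGroup.eq_one_iff _).2 (hA.abelian u hu w hw))
    let S : Subgroup G :=
      { carrier := {x | x ∈ A2 ∧ x ^ m ∈ L}
        one_mem' := ⟨one_mem _, by rw [one_pow]; exact one_mem L⟩
        mul_mem' := fun {u w} hu hw => ⟨mul_mem hu.1 hw.1, by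
          rw [← QuotientGroup.eq_one_iff, ← QuotientGroup.mk'_apply, map_pow, map_mul,
            (hcomm2 u hu.1.1 w hw.1.1).mul_pow, ← map_pow, ← map_pow, QuotientGroup.mk'_apply,
            QuotientGroup.mk'_apply, (QuotientGroup.eq_one_iff _).2 hu.2,
            (QuotientGroup.eq_one_iff _).2 hw.2, one_mul]⟩
        inv_mem' := fun {u} hu => ⟨inv_mem hu.1, by rw [inv_pow]; exact inv_mem hu.2⟩ }
    have hLS : L ≤ S := fun l hl => ⟨hLA2 hl, pow_mem hl m⟩
    haveI : S.Normal := ⟨fun x hx g => ⟨hA2n.conj_mem x hx.1 g, by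
      rw [conj_pow]; exact (inferInstance : L.Normal).conj_mem _ hx.2 g⟩⟩
    haveI : (L.subgroupOf S).Normal := Subgroup.normal_subgroupOf
    have hpS : ¬ p ∣ L.relIndex S := by
      intro hd
      obtain ⟨z, hz⟩ := exists_prime_orderOf_dvd_card' (G := S ⧸ L.subgroupOf S) p hd
      obtain ⟨s, rfl⟩ := QuotientGroup.mk_surjective z
      refine hpm (hz ▸ orderOf_dvd_of_pow_eq_one ?_)
      rw [← QuotientGroup.mk_pow, QuotientGroup.eq_one_iff]
      exact s.2.2
    have hKL : ∃ i, K.relIndex L = p ^ i := by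
      haveI : (K.subgroupOf L).Normal := Subgroup.normal_subgroupOf
      haveI : Fintype (L ⧸ K.subgroupOf L) := Fintype.ofFinite _
      suffices h : IsPGroup p (L ⧸ K.subgroupOf L) from IsPGroup.iff_card.1 h
      intro z
      obtain ⟨l, rfl⟩ := QuotientGroup.mk_surjective z
      obtain ⟨i, hi⟩ := hA.isPGroup_quot hF hp hV l l.2
      refine ⟨i + 1, (QuotientGroup.eq_one_iff (l ^ p ^ (i + 1))).2 ?_⟩
      show ((l ^ p ^ (i + 1) : L) : G) ∈ K
      rw [Subgroup.coe_pow, pow_succ, pow_mul]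
      exact hbot.1 _ hi
    have hKξ : ∀ x : L, (x : G) ∈ K → (ξ : L → ℂ) x = (ξ : L → ℂ) 1 := fun x hx => by
      have h3 := hξv (x : G) (hK.le hx)
      rw [hv₀ ⟨x, hK.le hx⟩ hx, Units.val_one, mul_one] at h3
      exact h3
    obtain ⟨i₀, hi₀⟩ := hKL
    have hSc : ∀ x ∈ S, ∀ g : G, ⁅x, g⁆ ∈ A1 N L := fun x hx g =>
      hA.central_of_fixed hF ξ hξ1 K hKξ S hLS (fun y hy => hy.1.1)
        (hi₀ ▸ ((hp.coprime_iff_not_dvd.2 hpS).symm.pow_right i₀))
        (fun y hy => (hin y).2 hy.1.2) hx g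
    -- powers: one part in `A1`, one in `S`
    set π := QuotientGroup.mk' (A1 N L)
    have han : a ^ n ∈ L := Subgroup.pow_index_mem (L.subgroupOf A2) ⟨a, ha⟩
    have hiter : ∀ i : ℕ, ∀ b ∈ N, b ^ p ^ i ∈ A1 N L → b ∈ A1 N L := by
      intro i
      induction i with
      | zero => intro b _ hb; simpa using hb
      | succ i ih =>
        intro b hb hbi
        rw [pow_succ', pow_mul] at hbi
        exact hA.mem_A1_of_pow_mem hF hp hV hb (ih _ (pow_mem hb p) hbi)
    have hm1 : a ^ m ∈ A1 N L := by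
      refine hiter k _ (pow_mem ha.1 m) ?_
      rw [← pow_mul, mul_comm, hnm]
      exact hA.L_le_A1 hF han
    have hpk : a ^ p ^ k ∈ S := ⟨pow_mem ha _, by rw [← pow_mul, hnm]; exact han⟩
    intro g
    have hc1 : Commute (π (a ^ p ^ k)) (π g) := commutatorElement_eq_one_iff_mul_comm.1 (by
      rw [← map_commutatorElement]
      exact (QuotientGroup.eq_one_iff _).2 (hSc _ hpk g))
    have hg1 : π a ^ m = 1 := by rw [← map_pow]; exact (QuotientGroup.eq_one_iff _).2 hm1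
    obtain ⟨r, hr⟩ : ∃ r : ℕ, π a = (π a ^ p ^ k) ^ r := by
      have hcp : (p ^ k).Coprime (orderOf (π a)) := Nat.Coprime.coprime_dvd_right
        (orderOf_dvd_of_pow_eq_one hg1) ((hp.coprime_iff_not_dvd.2 hpm).pow_left k)
      obtain ⟨r, hr⟩ := exists_pow_eq_self_of_coprime hcp
      exact ⟨r, hr.symm⟩
    refine (QuotientGroup.eq_one_iff _).1 ?_
    show π ⁅a, g⁆ = 1
    rw [map_commutatorElement, commutatorElement_eq_one_iff_mul_comm, hr, ← map_pow]
    exact ((map_pow π a _) ▸ hc1.pow_left r : Commute _ _).eq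
  -- `A2` is larger than `A1` and meets `E` trivially
  obtain ⟨z₀, hz₀, hz₀A⟩ := SetLike.not_le_iff_exists.1 (hA.not_inertia_le hF ξ hξ1)
  have hz₀2 : z₀ ∈ A2 := ⟨hz₀.2, (hin z₀).1 hz₀.1⟩
  -- the count
  obtain ⟨X, j, hXj, hstab, -, -, hfX, -, -⟩ := hA.exists_orbit_length hF
  set f := N.index with hf
  set n0 := (A1 N L).relIndex N with hn0
  obtain ⟨v₁, hv₁⟩ := hA.nontriv
  have hjf : j ∣ f := (hstab v₁ hv₁).1 ▸ Subgroup.index_dvd_of_le le_sup_right
  set t := f / j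
  have hjt : j * t = f := Nat.mul_div_cancel' hjf
  have hj0 : 0 < j := Nat.pos_of_ne_zero fun h => by
    rw [h, zero_mul] at hjt; exact Subgroup.index_ne_zero_of_finite hjt.symm
  have ht0 : 0 < t := Nat.pos_of_ne_zero fun h => by
    rw [h, mul_zero] at hjt; exact Subgroup.index_ne_zero_of_finite hjt.symm
  set d := n0.gcd t
  have hd0 : 0 < d := Nat.gcd_pos_of_pos_right _ ht0
  have h2d : 2 * d ≤ t := by
    obtain ⟨s, hs⟩ := Nat.gcd_dvd_right n0 t
    rcases Nat.lt_or_ge s 2 with h | h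
    · exfalso
      interval_cases s
      · omega
      · refine hfX ?_
        rw [← hjt, hXj, mul_comm n0 j]
        exact Nat.mul_dvd_mul_left j (by rw [hs, mul_one]; exact Nat.gcd_dvd_left n0 t)
    · calc 2 * d ≤ s * d := Nat.mul_le_mul_right _ h
        _ = t := by rw [mul_comm, ← hs]
  set g₀ := c ^ j with hg₀
  have hgt : g₀ ^ t ∈ N := by
    rw [hg₀, ← pow_mul, hjt]; exact Subgroup.pow_index_mem N c
  let ν : N →* ℂˣ := ∏ k ∈ Finset.range t, cj (g₀ ^ k) μ
  have hiff : ∀ n : N, ((n : G) * g₀) ^ t ∈ A1 N L ↔ ν n * μ ⟨g₀ ^ t, hgt⟩ = 1 := by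
    intro n
    obtain ⟨P, hP, hμP⟩ := exists_pow_eq N μ g₀ n t
    rw [hP, MonoidHom.finsetProd_apply, ← hμP, ← map_mul]
    exact (hμ (P * ⟨g₀ ^ t, hgt⟩)).symm
  let Sset : Set ℂˣ := {s | ∃ n : N, μ n = s ∧ ((n : G) * g₀) ^ t ∈ A1 N L}
  haveI : Finite Sset :=
    ((Set.finite_range μ).subset fun s (hs : s ∈ Sset) => hs.imp fun _ hn => hn.1).to_subtype
  haveI := Fintype.ofFinite Sset
  choose rep hrep hrept using fun s : Sset => s.2
  let F : Sset → ℕ := fun s => Nat.card {v : L →* ℂˣ // (rep s : G) * g₀ ∈ stab v}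
  have hcov : Nat.card (L →* ℂˣ) - 1 ≤ ∑ s, (F s - 1) := by
    let T := Σ s : Sset, {v : {v : L →* ℂˣ // (rep s : G) * g₀ ∈ stab v} // v.1 ≠ 1}
    have hsurj : ∀ v : {v : L →* ℂˣ // v ≠ 1}, ∃ x : T, x.2.1.1 = v.1 := by
      rintro ⟨v, hv⟩
      obtain ⟨y, hy, n, hn, hyn⟩ := exists_top N hA.gen (stab v)
      rw [(hstab v hv).1] at hyn
      have hyN : y ^ t ∈ N := by
        rw [← QuotientGroup.eq_one_iff, QuotientGroup.mk_pow, hyn, QuotientGroup.mk_mul,
          (QuotientGroup.eq_one_iff n).2 hn, one_mul, ← QuotientGroup.mk_pow,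
          QuotientGroup.eq_one_iff]
        exact hgt
      have hyA : ((n : G) * g₀) ^ t ∈ A1 N L := by
        rw [hg₀, ← hyn]; exact (hA.inf_stab hF hv).le ⟨hyN, pow_mem hy t⟩
      let s : Sset := ⟨μ ⟨n, hn⟩, ⟨n, hn⟩, rfl, hyA⟩
      have hdiff : ((rep s * (⟨n, hn⟩ : N)⁻¹ : N) : G) ∈ A1 N L :=
        (hμ _).1 (by rw [map_mul, map_inv, hrep s, mul_inv_cancel])
      refine ⟨⟨s, ⟨v, ?_⟩, hv⟩, rfl⟩
      rw [show (rep s : G) * g₀ = ((rep s * (⟨n, hn⟩ : N)⁻¹ : N) : G) * y by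
        simp [hyn, hg₀, mul_assoc]]
      exact mul_mem ((mem_A1.1 hdiff).2 v) hy
    choose sec hsec using hsurj
    have h1 := Nat.card_le_card_of_injective sec fun a b h => Subtype.ext (by
      rw [← hsec a, ← hsec b, h])
    have hne : ∀ {α : Type u} [Finite α] (o : α), Nat.card {x : α // x ≠ o} = Nat.card α - 1 := by
      intro α _ o
      haveI := Fintype.ofFinite α
      rw [Nat.card_eq_fintype_card, Nat.card_eq_fintype_card,
        Fintype.card_subtype_compl (· = o), Fintype.card_subtype_eq]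
    rw [hne, Nat.card_sigma] at h1
    refine h1.trans (le_of_eq (Finset.sum_congr rfl fun s _ => ?_))
    have h1mem : (rep s : G) * g₀ ∈ stab (1 : L →* ℂˣ) :=
      mem_stab.2 (MonoidHom.ext fun l => rfl)
    rw [← hne (⟨1, h1mem⟩ : {v : L →* ℂˣ // (rep s : G) * g₀ ∈ stab v})]
    exact Nat.card_congr (Equiv.subtypeEquivRight fun v => by simp [Subtype.ext_iff])
  set b := A2.relIndex N
  have hbu : b ≤ Nat.card W - 1 := by
    haveI : Finite W := by infer_instance
    haveI := Fintype.ofFinite W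
    let Ψ : N ⧸ A2.subgroupOf N → {w : W // w ≠ 1} := fun r =>
      ⟨⟨cj ((r.out : N) : G) v₀, fun y hy => hv₀ _ (hK.normal.conj_mem y hy _)⟩, fun h => hv₀1 (by
        rw [← cj_one v₀, ← mul_inv_cancel ((r.out : N) : G), cj_mul,
          show cj ((r.out : N) : G) v₀ = 1 from congrArg Subtype.val h]
        exact cj_hom_one _)⟩
    have hinj : Function.Injective Ψ := fun r r' h => by
      have h2 : cj ((r.out : N) : G) v₀ = cj ((r'.out : N) : G) v₀ :=
        congrArg (fun w : {w : W // w ≠ 1} => (w.1 : ↥⁅L, L⁆ →* ℂˣ)) h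
      rw [← QuotientGroup.out_eq' r, ← QuotientGroup.out_eq' r']
      refine QuotientGroup.eq.2 ?_
      have hmem : ((r.out : N) : G) * ((r'.out : N) : G)⁻¹ ∈ stab v₀ :=
        mem_stab.2 (by rw [cj_mul, h2, ← cj_mul, mul_inv_cancel, cj_one])
      have h3 := hA2n.conj_mem _ (⟨(r.out * r'.out⁻¹ : N).2, hmem⟩ : _ ∈ A2) ((r'.out : N) : G)⁻¹
      show ((r.out⁻¹ * r'.out : N) : G) ∈ A2
      rw [← inv_mem_iff]
      convert h3 using 1
      simp [mul_assoc]
    refine (Nat.card_le_card_of_injective Ψ hinj).trans (le_of_eq ?_)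
    rw [Nat.card_eq_fintype_card, Nat.card_eq_fintype_card,
      Fintype.card_subtype_compl (· = (1 : W)), Fintype.card_subtype_eq]
  have hcard : Fintype.card Sset ≤ d * b := by
    rcases isEmpty_or_nonempty Sset with h | ⟨⟨s₀⟩⟩
    · simp
    set B := A2.subgroupOf N
    have h1 : Fintype.card Sset ≤ Nat.card (ν.ker.map μ) := by
      haveI : Finite (ν.ker.map μ) := Finite.of_surjective _ (μ.subgroupMap_surjective ν.ker)
      rw [← Nat.card_eq_fintype_card]
      refine Nat.card_le_card_of_injective (fun s : Sset => (⟨s.1 / s₀.1, rep s / rep s₀, ?_, by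
        rw [map_div, hrep, hrep]⟩ : ν.ker.map μ)) fun s s' h => Subtype.ext (div_left_injective
          (congrArg Subtype.val h))
      show ν (rep s / rep s₀) = 1
      rw [map_div, div_eq_one]
      exact mul_right_cancel (((hiff _).1 (hrept s)).trans ((hiff _).1 (hrept s₀)).symm)
    refine h1.trans ?_
    rw [← Subgroup.relIndex_ker (K := ν.ker) μ]
    rw [← Subgroup.inf_relIndex_right]
    have h2 : (μ.ker ⊓ ν.ker).relIndex ν.ker =
        (μ.ker ⊓ ν.ker).relIndex (B ⊓ ν.ker) * (B ⊓ ν.ker).relIndex ν.ker :=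
      (Subgroup.relIndex_mul_relIndex (μ.ker ⊓ ν.ker) (B ⊓ ν.ker) ν.ker
        (inf_le_inf_right ν.ker (show μ.ker ≤ B from fun n hn =>
          hA12 ((hμ n).1 (MonoidHom.mem_ker.1 hn)))) inf_le_right).symm
    rw [h2]
    refine Nat.mul_le_mul ?_ ?_
    · have h3 : (μ.ker ⊓ ν.ker).relIndex (B ⊓ ν.ker) = Nat.card ((B ⊓ ν.ker).map μ) := by
        rw [← Subgroup.relIndex_ker (K := B ⊓ ν.ker) μ, ← Subgroup.inf_relIndex_right μ.ker (B ⊓ ν.ker),
          ← Subgroup.inf_relIndex_right (μ.ker ⊓ ν.ker) (B ⊓ ν.ker)]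
        congr 1
        ext n
        simp only [Subgroup.mem_inf]
        tauto
      rw [h3]
      haveI : NeZero d := ⟨hd0.ne'⟩
      have hle : (B ⊓ ν.ker).map μ ≤ rootsOfUnity d ℂ := by
        rintro _ ⟨z, ⟨hzB, hzν⟩, rfl⟩
        rw [mem_rootsOfUnity]
        refine orderOf_dvd_iff_pow_eq_one.1 (Nat.dvd_gcd (orderOf_dvd_of_pow_eq_one ?_)
          (orderOf_dvd_of_pow_eq_one ?_))
        · rw [← map_pow, hμ]
          exact Subgroup.pow_index_mem ((A1 N L).subgroupOf N) z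
        · have hz : ∀ k, cj (g₀ ^ k) μ z = μ z := by
            intro k
            show μ (MulAut.conjNormal (g₀ ^ k) z) = μ z
            rw [← mul_inv_eq_one, ← map_inv, ← map_mul, hμ]
            have h4 := hcentral _ hzB (g₀ ^ k)
            rw [← commutatorElement_inv, inv_mem_iff] at h4
            show ((MulAut.conjNormal (g₀ ^ k) z : N) : G) * ((z : G))⁻¹ ∈ A1 N L
            rw [MulAut.conjNormal_apply]
            rw [commutatorElement_def] at h4
            exact h4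
          have h5 : ν z = μ z ^ t := by
            rw [MonoidHom.finsetProd_apply, Finset.prod_congr rfl fun k _ => hz k,
              Finset.prod_const, Finset.card_range]
          rw [← h5]
          exact hzν
      refine (Subgroup.card_le_of_le hle).trans ?_
      exact card_rootsOfUnity ℂ d
    · rw [Subgroup.inf_relIndex_right]
      haveI : B.Normal := Subgroup.normal_subgroupOf
      exact Nat.le_of_dvd (Nat.pos_of_ne_zero Subgroup.index_ne_zero_of_finite)
        (Subgroup.relIndex_dvd_index_of_normal B ν.ker)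
  refine count_false hd0 ?_ F hcard hbu hbot.2 (fun s => ?_) hcov
  · haveI : Nontrivial (L →* ℂˣ) := ⟨⟨v₁, 1, hv₁⟩⟩
    exact Finite.one_lt_card
  · refine mul_pred_le_sqrt ?_ (hA.card_fixed_pow hF fun i hi hit hiN => ?_) h2d
    · haveI : Nonempty {v : L →* ℂˣ // (rep s : G) * g₀ ∈ stab v} :=
        ⟨⟨1, mem_stab.2 (MonoidHom.ext fun l => rfl)⟩⟩
      exact Nat.card_pos
    · have h1 : c ^ (j * i) ∈ N := by
        rw [← QuotientGroup.eq_one_iff, QuotientGroup.mk_pow, QuotientGroup.mk_mul,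
          (QuotientGroup.eq_one_iff _).2 (rep s).2, one_mul, ← QuotientGroup.mk_pow, hg₀,
          ← pow_mul, QuotientGroup.eq_one_iff] at hiN
        exact hiN
      have h2 := (pow_mem_iff_dvd N hA.gen N le_rfl _).1 h1
      rw [← hf, ← hjt] at h2
      exact absurd (Nat.le_of_dvd hi (Nat.dvd_of_mul_dvd_mul_left hj0 h2)) (by omega)

end AbLayer

end CfsgLib.NoDiv
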