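import Cfsg.Agent.Lib.NoDiv.Setup

/-!
# Linear characters of a coprime layer
-/

set_option autoImplicit false

open scoped Classical commutatorElement
open CfsgLib CfsgLib.DegGraph

namespace CfsgLib.NoDiv

universe u

variable {G : Type u} [Group G] [Finite G]

/-- A normal subgroup inside `N'` of order prime to `q`, normalised modulo a Sylow subgroup. -/
structure Layer (N : Subgroup G) (q : ℕ) (L Q : Subgroup G) : Prop where
  le_comm : L ≤ ⁅N, N⁆
  le_N : Q ≤ N
  pgroup : IsPGroup q Q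
  sylow : ¬ q ∣ Q.relIndex N
  coprime : ¬ q ∣ Nat.card L
  sup_normal : (L ⊔ Q).Normal

variable {N : Subgroup G} [N.Normal] {q : ℕ}

/-- A Sylow subgroup of `N` and a generator of the quotient normalising it. -/
theorem Frob.exists_sylow_gen (hF : Frob N q) :
    ∃ (Q : Subgroup G) (c : G), Q ≤ N ∧ IsPGroup q Q ∧ ¬ q ∣ Q.relIndex N ∧
      c ∈ Subgroup.normalizer (Q : Set G) ∧ ∀ g : G, ∃ k : ℕ, (c ^ k)⁻¹ * g ∈ N := by
  haveI : Fact q.Prime := ⟨hF.prime⟩
  let P : Sylow q N := default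
  obtain ⟨x, hx⟩ := hF.isCyclic_quotient.exists_generator
  obtain ⟨g₀, rfl⟩ := QuotientGroup.mk_surjective x
  have hfr := Sylow.normalizer_sup_eq_top P
  have hmem : g₀ ∈ N ⊔ Subgroup.normalizer (((P : Subgroup N).map N.subtype : Subgroup G) : Set G) := by
    rw [sup_comm, hfr]; trivial
  obtain ⟨n, hn, c, hc, hnc⟩ := Subgroup.mem_sup_of_normal_left.1 hmem
  refine ⟨(P : Subgroup N).map N.subtype, c, Subgroup.map_subtype_le _, P.2.map _, ?_, hc, ?_⟩
  · have h := P.not_dvd_index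
    rwa [Subgroup.relIndex, Subgroup.subgroupOf,
      Subgroup.comap_map_eq_self_of_injective N.subtype_injective]
  · intro g
    obtain ⟨k, hk⟩ := Submonoid.mem_powers_iff _ _ |>.1
      ((isOfFinOrder_of_finite _).mem_powers_iff_mem_zpowers.2 (hx (QuotientGroup.mk g)))
    refine ⟨k, QuotientGroup.eq.1 ?_⟩
    rw [QuotientGroup.mk_pow, ← hk]
    have : (QuotientGroup.mk g₀ : G ⧸ N) = QuotientGroup.mk c := by
      rw [← hnc, QuotientGroup.mk_mul, (QuotientGroup.eq_one_iff n).2 hn, one_mul]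
    rw [this]

/-- Frattini: a normal subgroup of `L ⊔ Q` type absorbs everything but the normaliser. -/
theorem sup_normal_of_normalizer (hF : Frob N q) {L Q : Subgroup G} [L.Normal] (hQN : Q ≤ N)
    {c : G} (hc : c ∈ Subgroup.normalizer (Q : Set G))
    (hgen : ∀ g : G, ∃ k : ℕ, (c ^ k)⁻¹ * g ∈ N)
    (hN : ∀ n ∈ N, ∀ x ∈ Q, ⁅n, x⁆ ∈ L ⊔ Q) : (L ⊔ Q).Normal := by
  have hn : ∀ n ∈ N, ∀ x ∈ L ⊔ Q, n * x * n⁻¹ ∈ L ⊔ Q := by
    intro n hn x hx
    obtain ⟨l, hl, z, hz, rfl⟩ := Subgroup.mem_sup_of_normal_left.1 hx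
    rw [show n * (l * z) * n⁻¹ = (n * l * n⁻¹) * (⁅n, z⁆ * z) by rw [commutatorElement_def]; group]
    exact mul_mem (Subgroup.mem_sup_left ((inferInstance : L.Normal).conj_mem l hl n))
      (mul_mem (hN n hn z hz) (Subgroup.mem_sup_right hz))
  refine ⟨fun x hx g => ?_⟩
  obtain ⟨k, hk⟩ := hgen g
  obtain ⟨l, hl, z, hz, he⟩ := Subgroup.mem_sup_of_normal_left.1 (hn _ hk x hx)
  rw [show g * x * g⁻¹ = c ^ k * ((c ^ k)⁻¹ * g * x * ((c ^ k)⁻¹ * g)⁻¹) * (c ^ k)⁻¹ by group, ← he,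
    show c ^ k * (l * z) * (c ^ k)⁻¹ = (c ^ k * l * (c ^ k)⁻¹) * (c ^ k * z * (c ^ k)⁻¹) by group]
  exact mul_mem (Subgroup.mem_sup_left ((inferInstance : L.Normal).conj_mem l hl _))
    (Subgroup.mem_sup_right ((Subgroup.mem_normalizer_iff.1 (pow_mem hc k) z).1 hz))

namespace Layer

variable {L Q : Subgroup G} [L.Normal] (hF : Frob N q) (hL : Layer N q L Q)

include hF hL

theorem L_le_N : L ≤ N := hL.le_comm.trans (Subgroup.commutator_le_left N N)

/-- A linear character of `L` fixed by `Q` is trivial. -/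
theorem eq_one_of_sylow_le (v : L →* ℂˣ) (hv : Q ≤ stab v) : v = 1 := by
  haveI := Fintype.ofFinite G
  haveI := hL.sup_normal
  haveI : Fact q.Prime := ⟨hF.prime⟩
  set S := L ⊔ Q with hS
  have hLS : L ≤ S := le_sup_left
  have hSN : S ≤ N := sup_le (hL.L_le_N hF) hL.le_N
  have hSstab : S ≤ stab v := sup_le (le_stab L v) hv
  haveI : (L.subgroupOf S).Normal := Subgroup.normal_subgroupOf
  let e := Subgroup.subgroupOfEquivOfLe hLS
  have hidx : ¬ ∀ _u : Unit, q ∣ Nat.card L := fun h => hL.coprime (h ())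
  obtain ⟨k, hk⟩ := IsPGroup.iff_card.1 hL.pgroup
  have hrel : L.relIndex S ∣ q ^ k := by
    rw [hS, sup_comm, Subgroup.relIndex_sup_right]
    exact hk ▸ Subgroup.index_dvd_card _
  obtain ⟨F, hF', -⟩ := CharDeep.Lin.exists_ext_coprime (v.comp e.toMonoidHom)
    (fun t m => DFunLike.congr_fun (mem_stab.1 (hSstab t.2)) (e m))
    (Nat.Coprime.coprime_dvd_left hrel (Nat.Coprime.coprime_dvd_right
      (orderOf_dvd_of_pow_eq_one (n := Nat.card L) (by
        ext m
        rw [MonoidHom.pow_apply, ← map_pow, MonoidHom.comp_apply, map_pow, pow_card_eq_one',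
          map_one, MonoidHom.one_apply]))
      ((hF.prime.coprime_iff_not_dvd.2 hL.coprime).pow_left k)))
  -- a character of `N` over the extension
  haveI : (S.subgroupOf N).Normal := Subgroup.normal_subgroupOf
  haveI := Fintype.ofFinite N
  haveI := Fintype.ofFinite (S.subgroupOf N)
  let e' := Subgroup.subgroupOfEquivOfLe hSN
  set θ : S.subgroupOf N → ℂ := fun s => ((F (e' s) : ℂˣ) : ℂ) with hθdef
  have hθ : Cfsg.IsIrrCharacter (S.subgroupOf N) θ :=
    Char.isIrrCharacter_linear (F.comp e'.toMonoidHom)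
  obtain ⟨ψ, hψ⟩ := Blk83.exists_over (S.subgroupOf N) ⟨θ, hθ⟩
  obtain ⟨j, hj, hjd⟩ := ThreeDeg.over_ratio (S.subgroupOf N) ψ ⟨θ, hθ⟩ hψ
  have hθ1 : Cfsg.charDegree θ = 1 := by simp [hθdef, Cfsg.charDegree]
  change _ = Cfsg.charDegree θ * j at hj
  rw [hθ1, one_mul] at hj
  have hψ1 : Cfsg.charDegree (ψ : N → ℂ) = 1 := by
    by_contra h
    have h2 : S.relIndex N ∣ Q.relIndex N := Subgroup.relIndex_dvd_of_le_left N le_sup_right
    exact hL.sylow ((hF.q_dvd ψ h).trans ((hj ▸ hjd : _ ∣ S.relIndex N).trans h2))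
  obtain ⟨μ, hμ⟩ := CharDeep.Lin.exists_hom_of_deg_one (Char.IsIrrCharacter.isCharacter ψ.2)
    (by rw [← CharTools.irr_degree_cast, hψ1, Nat.cast_one])
  have hres : (fun s : S.subgroupOf N => (ψ : N → ℂ) s) = θ := by
    have hirr : Cfsg.IsIrrCharacter (S.subgroupOf N) (fun s : S.subgroupOf N => (ψ : N → ℂ) s) := by
      rw [show (fun s : S.subgroupOf N => (ψ : N → ℂ) s) =
        fun s : S.subgroupOf N => ((μ.comp (S.subgroupOf N).subtype) s : ℂ) from
          funext fun s => hμ s]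
      exact Char.isIrrCharacter_linear _
    exact Char.eq_of_classInner_ne_zero hirr hθ hψ
  refine MonoidHom.ext fun l => Units.ext ?_
  have h1 := congrFun hres ⟨⟨(l : G), hL.L_le_N hF l.2⟩, hLS l.2⟩
  simp only [hθdef, hμ] at h1
  have h2 : F ⟨(l : G), hLS l.2⟩ = v l := hF' ⟨⟨(l : G), hLS l.2⟩, l.2⟩
  rw [MonoidHom.one_apply, Units.val_one, ← h2]
  refine h1.symm.trans ?_
  rw [show μ ⟨(l : G), hL.L_le_N hF l.2⟩ = 1 from ?_, Units.val_one]
  have h3 : (⟨(l : G), hL.L_le_N hF l.2⟩ : N) ∈ commutator N := by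
    have h4 := hL.le_comm l.2
    rw [← Subgroup.map_subtype_commutator] at h4
    obtain ⟨m, hm, hml⟩ := h4
    rwa [show (⟨(l : G), hL.L_le_N hF l.2⟩ : N) = m from Subtype.ext hml.symm]
  exact MonoidHom.mem_ker.1 (Abelianization.commutator_subset_ker μ h3)

/-- Linear characters are trivial on the normaliser of `Q` in `L`. -/
theorem apply_eq_one (v : L →* ℂˣ) {l : G} (hl : l ∈ L)
    (hlQ : l ∈ Subgroup.normalizer (Q : Set G)) : v ⟨l, hl⟩ = 1 := by
  haveI := Fintype.ofFinite Q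
  haveI : Fact q.Prime := ⟨hF.prime⟩
  obtain ⟨k, hk⟩ := IsPGroup.iff_card.1 hL.pgroup
  have hdisj : ∀ x, x ∈ L → x ∈ Q → x = 1 := fun x hxL hxQ => orderOf_eq_one_iff.1
    (Nat.eq_one_of_dvd_coprimes ((hF.prime.coprime_iff_not_dvd.2 hL.coprime).pow_left k)
      (hk ▸ Subgroup.orderOf_dvd_natCard Q hxQ) (Subgroup.orderOf_dvd_natCard L hxL))
  have hcomm : ∀ y ∈ Q, y * l * y⁻¹ = l := by
    intro y hy
    have h1 : ⁅y, l⁆ = 1 := by
      refine hdisj _ ?_ ?_
      · rw [commutatorElement_def]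
        exact mul_mem ((inferInstance : L.Normal).conj_mem l hl y) (inv_mem hl)
      · rw [commutatorElement_def, show y * l * y⁻¹ * l⁻¹ = y * (l * y⁻¹ * l⁻¹) by group]
        exact mul_mem hy ((Subgroup.mem_normalizer_iff.1 hlQ _).1 (inv_mem hy))
    rw [commutatorElement_def, mul_inv_eq_one] at h1
    exact h1
  set w : L →* ℂˣ := ∏ y : Q, cj (y : G) v with hw
  have hwfix : Q ≤ stab w := fun z hz => by
    rw [mem_stab, hw]
    let C : (L →* ℂˣ) →* (L →* ℂˣ) :=
      { toFun := fun x => cj z x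
        map_one' := cj_hom_one z
        map_mul' := cj_hom_mul z }
    have h1 : cj z (∏ y : Q, cj (y : G) v) = ∏ y : Q, cj z (cj (y : G) v) :=
      map_prod C (fun y : Q => cj (y : G) v) Finset.univ
    rw [h1]
    refine Fintype.prod_equiv (Equiv.mulRight (⟨z, hz⟩ : Q)) _ _ fun y => ?_
    rw [← cj_mul]
    rfl
  have h1 := DFunLike.congr_fun (hL.eq_one_of_sylow_le hF w hwfix) ⟨l, hl⟩
  rw [hw, MonoidHom.finsetProd_apply, MonoidHom.one_apply] at h1
  have h2 : ∀ y : Q, cj (y : G) v ⟨l, hl⟩ = v ⟨l, hl⟩ := fun y => by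
    show v (MulAut.conjNormal (y : G) ⟨l, hl⟩) = _
    exact congrArg v (Subtype.ext (hcomm y y.2))
  rw [Finset.prod_congr rfl (fun y _ => h2 y), Finset.prod_const, Finset.card_univ,
    ← Nat.card_eq_fintype_card, hk] at h1
  refine orderOf_eq_one_iff.1 (Nat.eq_one_of_dvd_coprimes
    ((hF.prime.coprime_iff_not_dvd.2 hL.coprime).pow_left k) (orderOf_dvd_of_pow_eq_one h1) ?_)
  exact orderOf_dvd_of_pow_eq_one (by rw [← map_pow, pow_card_eq_one', map_one])

/-- Linear characters extend to their stabilisers. -/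
theorem exists_ext (v : L →* ℂˣ) :
    ∃ e : stab v →* ℂˣ, ∀ l : L, e ⟨l, le_stab L v l.2⟩ = v l := by
  haveI := hL.sup_normal
  haveI : Fact q.Prime := ⟨hF.prime⟩
  set H := Subgroup.normalizer (Q : Set G) with hH
  -- `G = L H`
  have hsplit : ∀ g : G, ∃ l : L, (l : G)⁻¹ * g ∈ H := by
    intro g
    set S := L ⊔ Q with hS
    have hQS : Q ≤ S := le_sup_right
    have hidx : ¬ q ∣ (Q.subgroupOf S).index := by
      show ¬ q ∣ Q.relIndex S
      exact fun h => hL.sylow (h.trans (Dvd.intro _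
        (Subgroup.relIndex_mul_relIndex Q S N hQS (sup_le (hL.L_le_N hF) hL.le_N))))
    let P : Sylow q S := (hL.pgroup.comap_subtype (H := Q) (K := S)).toSylow hidx
    have h := Sylow.normalizer_sup_eq_top P
    have hPm : ((P : Subgroup S).map S.subtype) = Q := by
      rw [show (P : Subgroup S) = Q.subgroupOf S from rfl, Subgroup.subgroupOf_map_subtype, inf_eq_left.2 hQS]
    rw [hPm] at h
    have hg : g ∈ S ⊔ H := by rw [sup_comm, hH, h]; trivial
    obtain ⟨s, hs, x, hx, rfl⟩ := Subgroup.mem_sup_of_normal_left.1 hg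
    obtain ⟨l, hl, y, hy, rfl⟩ := Subgroup.mem_sup_of_normal_left.1 hs
    refine ⟨⟨l, hl⟩, ?_⟩
    show l⁻¹ * (l * y * x) ∈ H
    rw [← mul_assoc, ← mul_assoc, inv_mul_cancel, one_mul]
    exact mul_mem (Subgroup.le_normalizer hy) hx
  choose sp hsp using hsplit
  have hwd : ∀ (g : G) (l : L), (l : G)⁻¹ * g ∈ H → v (sp g) = v l := by
    intro g l hl
    rw [← inv_mul_eq_one, ← map_inv, ← map_mul]
    exact hL.apply_eq_one hF v ((sp g)⁻¹ * l).2 (by
      rw [Subgroup.coe_mul, Subgroup.coe_inv,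
        show (sp g : G)⁻¹ * l = ((sp g : G)⁻¹ * g) * ((l : G)⁻¹ * g)⁻¹ by group]
      exact mul_mem (hsp g) (inv_mem hl))
  refine ⟨MonoidHom.mk' (fun g => v (sp g)) fun g₁ g₂ => ?_, fun l => hwd _ l (by simp [H.one_mem])⟩
  set h₁ := (sp g₁ : G)⁻¹ * g₁ with hh₁
  have hl : h₁ * (sp g₂ : G) * h₁⁻¹ ∈ L := (inferInstance : L.Normal).conj_mem _ (sp g₂).2 _
  have hst : h₁ ∈ stab v := mul_mem (inv_mem (le_stab L v (sp g₁).2)) g₁.2
  rw [hwd _ (sp g₁ * ⟨_, hl⟩) (by
    rw [Subgroup.coe_mul, Subgroup.coe_mul,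
      show ((sp g₁ : G) * (h₁ * (sp g₂ : G) * h₁⁻¹))⁻¹ * ((g₁ : G) * g₂) =
        h₁ * ((sp g₂ : G)⁻¹ * g₂) by rw [hh₁]; group]
    exact mul_mem (hsp g₁) (hsp g₂)), map_mul]
  congr 1
  exact DFunLike.congr_fun (mem_stab.1 hst) (sp g₂)

theorem stab_index_gt {v : L →* ℂˣ} (hv : v ≠ 1) : 1 < (stab v).index :=
  lt_of_le_of_ne (Nat.pos_of_ne_zero Subgroup.index_ne_zero_of_finite) fun h =>
    hv (hL.eq_one_of_sylow_le hF v (le_top.trans_eq (Subgroup.index_eq_one.1 h.symm).symm))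

/-- The orbit length is a degree, the stabiliser is abelian modulo `L` and not inside `N`. -/
theorem moved_facts {v : L →* ℂˣ} (hv : v ≠ 1) :
    (∃ χ : Cfsg.IrrCharacter G, Cfsg.charDegree (χ : G → ℂ) = (stab v).index) ∧
    (∀ a ∈ stab v, ∀ b ∈ stab v, ⁅a, b⁆ ∈ L) ∧
    (∀ [Fintype L] (χ : Cfsg.IrrCharacter G),
      Cfsg.classInner (fun l : L => (χ : G → ℂ) l) (fun l => (v l : ℂ)) ≠ 0 →
        Cfsg.charDegree (χ : G → ℂ) = (stab v).index) ∧
    ¬ stab v ≤ N := by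
  haveI := Fintype.ofFinite L
  obtain ⟨e, he⟩ := hL.exists_ext hF v
  have h1 : Cfsg.charDegree (fun l : L => (v l : ℂ)) = 1 := by simp [Cfsg.charDegree]
  obtain ⟨⟨χ, hχ⟩, hab, hall⟩ := over_extendible hF.hnd L ⟨_, Char.isIrrCharacter_linear v⟩ (stab v)
    (fun g => CharTwist.mem_inertia) (le_stab L v) (fun g => (e g : ℂ))
    (Char.isIrrCharacter_linear e) (fun l => by rw [he l]) (by
      show 1 < (stab v).index * Cfsg.charDegree (fun l : L => (v l : ℂ))
      rw [h1, mul_one]; exact hL.stab_index_gt hF hv)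
  change Cfsg.charDegree (χ : G → ℂ) = _ * Cfsg.charDegree (fun l : L => (v l : ℂ)) at hχ
  rw [h1, mul_one] at hχ
  refine ⟨⟨χ, hχ⟩, hab, ?_, fun hle => ?_⟩
  · intro inst χ' hχ'
    have h2 := hall χ' (by convert hχ')
    change _ = _ * Cfsg.charDegree (fun l : L => (v l : ℂ)) at h2
    rwa [h1, mul_one] at h2
  · have hidx := (hF.eq_index (hχ ▸ Subgroup.index_dvd_of_le hle))
    rw [hχ, ← Subgroup.relIndex_mul_index hle] at hidx
    have h2 : (stab v).relIndex N = 1 := Nat.eq_of_mul_eq_mul_right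
      (Nat.lt_trans Nat.one_pos hF.index_gt) (hidx.trans (one_mul _).symm)
    exact hv (hL.eq_one_of_sylow_le hF v (hL.le_N.trans (Subgroup.relIndex_eq_one.1 h2)))

/-- Stabilisers are minimal. -/
theorem stab_eq_of_le {u w : L →* ℂˣ} (hu : u ≠ 1) (hw : w ≠ 1) (h : stab w ≤ stab u) :
    stab w = stab u := by
  obtain ⟨χ, hχ⟩ := (hL.moved_facts hF hw).1
  obtain ⟨φ, hφ⟩ := (hL.moved_facts hF hu).1
  have he := hF.hnd φ χ (hφ ▸ hL.stab_index_gt hF hu) (hφ ▸ hχ ▸ Subgroup.index_dvd_of_le h)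
  rw [hφ, hχ, ← Subgroup.relIndex_mul_index h] at he
  exact le_antisymm h (Subgroup.relIndex_eq_one.1 (Nat.eq_of_mul_eq_mul_right
    (Nat.pos_of_ne_zero Subgroup.index_ne_zero_of_finite) (he.symm.trans (one_mul _).symm)))

/-- An element central modulo `L` fixing a moved linear character fixes all of them. -/
theorem fix_all {a : G} (ha : ∀ g : G, ⁅a, g⁆ ∈ L) {v : L →* ℂˣ} (hv : v ≠ 1)
    (hav : a ∈ stab v) (w : L →* ℂˣ) : a ∈ stab w := by
  by_contra hw
  have hcomm : ∀ (g : G) (x : L →* ℂˣ), cj g (cj a x) = cj a (cj g x) := fun g x => by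
    rw [← cj_mul, ← cj_mul]
    refine cj_eq_cj_iff.2 ?_
    rw [show a * g * (g * a)⁻¹ = ⁅a, g⁆ by rw [commutatorElement_def]; group]
    exact le_stab L x (ha g)
  set d : (L →* ℂˣ) → (L →* ℂˣ) := fun x => cj a x / x with hd
  have hdiv : ∀ (g : G) (x y : L →* ℂˣ), cj g (x / y) = cj g x / cj g y :=
    fun g x y => rfl
  have hdiveq : ∀ x y : L →* ℂˣ, x / y = 1 ↔ x = y := fun x y => by
    simp only [MonoidHom.ext_iff, MonoidHom.div_apply, MonoidHom.one_apply, div_eq_one]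
  have hd1 : ∀ x, d x = 1 ↔ a ∈ stab x := fun x => by
    rw [mem_stab]; exact hdiveq _ _
  have hle : ∀ x, stab x ≤ stab (d x) := fun x g hg => by
    rw [mem_stab, hd, hdiv, hcomm, mem_stab.1 hg]
  have hone : d 1 = 1 := (hd1 1).2 (mem_stab.2 (cj_hom_one a))
  have hker : ∀ x, d x ≠ 1 → d (d x) ≠ 1 := fun x hx h => by
    have heq := hL.stab_eq_of_le hF hx (fun h0 => hx (by rw [h0, hone])) (hle x)
    exact hx ((hd1 x).2 (heq ▸ (hd1 _).1 h))
  set z := d w
  have hz : z ≠ 1 := fun h => hw ((hd1 w).1 h)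
  have hdz : d z ≠ 1 := hker w hz
  have hu : d v = 1 := (hd1 v).2 hav
  have hmul : ∀ x y, d (x * y) = d x * d y := fun x y => by
    simp only [hd, cj_hom_mul]
    refine MonoidHom.ext fun l => ?_
    simp only [MonoidHom.div_apply, MonoidHom.mul_apply, mul_div_mul_comm]
  have hne : v * z ≠ 1 := fun h => hdz (by
    have h4 := hmul v z
    rw [h, hone, hu] at h4
    exact MonoidHom.ext fun l => by simpa using (DFunLike.congr_fun h4 l).symm)
  have hle2 : stab (v * z) ≤ stab v := by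
    intro g hg
    have h := mem_stab.1 hg
    rw [cj_hom_mul] at h
    have h2 : d (cj g v / v) = 1 := by
      simp only [hd, hdiv, ← hcomm, mem_stab.1 hav]
      exact (hdiveq _ _).2 rfl
    have h3 : cj g v / v = d (w / cj g w) := by
      rw [show cj g v / v = z / cj g z from MonoidHom.ext fun l => by
        have h5 := DFunLike.congr_fun h l
        simp only [MonoidHom.mul_apply] at h5
        simp only [MonoidHom.div_apply]
        rw [div_eq_div_iff_mul_eq_mul, h5, mul_comm]]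
      simp only [z, hd, hdiv, hcomm]
      refine MonoidHom.ext fun l => ?_
      simp only [MonoidHom.div_apply, div_div_div_comm]
    rw [mem_stab, ← hdiveq, h3]
    by_contra h4
    exact hker _ h4 (h3 ▸ h2)
  exact hdz (by
    have h4 := (hd1 _).2 ((hL.stab_eq_of_le hF hv hne hle2).symm ▸ hav)
    rw [hmul, hu] at h4
    exact MonoidHom.ext fun l => by simpa using DFunLike.congr_fun h4 l)

end Layer

end CfsgLib.NoDiv
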