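import Cfsg.Agent.Lib.NoDiv.Abelian
import Cfsg.Agent.Lib.DegGraph.RelDet

/-!
# A nonabelian layer: the twist and canonical extension arguments
-/

set_option autoImplicit false

open scoped Classical commutatorElement
open CfsgLib CfsgLib.DegGraph

namespace CfsgLib.NoDiv

universe u

section Hom

variable {M : Type*} [Monoid M]

theorem hom_inv_mul (x : M →* ℂˣ) : x⁻¹ * x = 1 := MonoidHom.ext fun _ => inv_mul_cancel _

theorem hom_mul_inv (x : M →* ℂˣ) : x * x⁻¹ = 1 := MonoidHom.ext fun _ => mul_inv_cancel _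

theorem hom_div_eq (x y : M →* ℂˣ) : x / y = y⁻¹ * x :=
  MonoidHom.ext fun _ => div_eq_inv_mul _ _

theorem hom_inv_mul_rev (x y : M →* ℂˣ) : (x⁻¹ * y)⁻¹ = y⁻¹ * x :=
  MonoidHom.ext fun l => by
    show (((x l)⁻¹ * y l))⁻¹ = (y l)⁻¹ * x l
    rw [mul_inv_rev, inv_inv]

theorem hom_mul_inv_cancel_right (x y : M →* ℂˣ) : x * y * y⁻¹ = x :=
  MonoidHom.ext fun _ => mul_inv_cancel_right _ _

end Hom

variable {G : Type u} [Group G] [Finite G] {N : Subgroup G} [N.Normal] {q : ℕ}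

namespace AbLayer

variable {L Q : Subgroup G} [L.Normal] {c : G} (hF : Frob N q) (hA : AbLayer N q L Q c)
include hF hA

/-- An element of `N` outside `A1` fixes no moved character. -/
theorem eq_one_of_fixed {a : G} (ha : a ∈ N) (haA : a ∉ A1 N L) {v : L →* ℂˣ}
    (hv : a ∈ stab v) : v = 1 :=
  Classical.not_not.1 fun h => haA ((hA.inf_stab hF h).le ⟨ha, hv⟩)

/-- The difference map of an element outside `A1` is onto. -/
theorem exists_cj_div {a : G} (ha : a ∈ N) (haA : a ∉ A1 N L) (v : L →* ℂˣ) :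
    ∃ w : L →* ℂˣ, cj a w = v * w := by
  haveI : Finite (L →* ℂˣ) := by infer_instance
  have hinj : Function.Injective fun w : L →* ℂˣ => cj a w / w := by
    intro x y h
    have h1 : cj a (x / y) = x / y := MonoidHom.ext fun l => by
      have h2 := DFunLike.congr_fun h l
      simp only [MonoidHom.div_apply] at h2
      show cj a x l / cj a y l = x l / y l
      rw [div_eq_div_iff_mul_eq_mul] at h2 ⊢
      rw [h2, mul_comm]
    have h3 := hA.eq_one_of_fixed hF ha haA (mem_stab.2 h1)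
    exact MonoidHom.ext fun l => div_eq_one.1 (DFunLike.congr_fun h3 l)
  obtain ⟨w, hw⟩ := (Finite.injective_iff_surjective.1 hinj) v
  exact ⟨w, MonoidHom.ext fun l => by
    rw [MonoidHom.mul_apply, ← hw, MonoidHom.div_apply, div_mul_cancel]⟩

omit hF hA in
theorem mem_derived_of_forall {x : G} (hx : x ∈ L) (h : ∀ v : L →* ℂˣ, v ⟨x, hx⟩ = 1) :
    x ∈ ⁅L, L⁆ := by
  rw [← Subgroup.map_subtype_commutator]
  refine ⟨⟨x, hx⟩, ?_, rfl⟩
  rw [SetLike.mem_coe, ← Abelianization.ker_of, MonoidHom.mem_ker]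
  exact TwoDeg.eq_of_forall_hom_eq (fun a b : Abelianization L => mul_comm a b) fun f => by
    rw [map_one]
    exact h (f.comp Abelianization.of)

omit hF hA in
theorem apply_eq_one_of_mem_derived {x : G} (hx : x ∈ L) (h : x ∈ ⁅L, L⁆) (v : L →* ℂˣ) :
    v ⟨x, hx⟩ = 1 := by
  rw [← Subgroup.map_subtype_commutator] at h
  obtain ⟨y, hy, hyx⟩ := h
  rw [show (⟨x, hx⟩ : L) = y from Subtype.ext hyx.symm]
  exact MonoidHom.mem_ker.1 (Abelianization.commutator_subset_ker v hy)

/-- The moved linear characters form a `p`-group. -/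
theorem exists_prime_dual : ∃ p : ℕ, p.Prime ∧ IsPGroup p (L →* ℂˣ) := by
  obtain ⟨v₀, hv₀⟩ := hA.nontriv
  obtain ⟨p, hp, hpd⟩ := Nat.exists_prime_and_dvd (n := orderOf v₀)
    (fun h => hv₀ (orderOf_eq_one_iff.1 h))
  refine ⟨p, hp, fun w => ?_⟩
  by_contra hw
  push Not at hw
  haveI : Fact p.Prime := ⟨hp⟩
  set v := v₀ ^ (orderOf v₀ / p) with hvdef
  have hvp : orderOf v = p := orderOf_pow_orderOf_div (orderOf_pos v₀).ne' hpd
  set w' := w ^ (p ^ (orderOf w).factorization p) with hw'def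
  have hw1 : w' ≠ 1 := hw _
  have hcop : p.Coprime (orderOf w') := by
    rw [hw'def, orderOf_pow' w (pow_ne_zero _ hp.ne_zero),
      Nat.gcd_eq_right (Nat.ordProj_dvd (orderOf w) p)]
    exact (hp.coprime_iff_not_dvd).2 (Nat.not_dvd_ordCompl hp (orderOf_pos w).ne')
  have hv1 : v ≠ 1 := fun h => hp.ne_one (hvp ▸ orderOf_eq_one_iff.2 h)
  -- stabilisers of characters of coprime orders coincide
  have key : ∀ x : L →* ℂˣ, x ≠ 1 → p.Coprime (orderOf x) → stab x = stab v := by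
    intro x hx hxo
    set b := orderOf x
    obtain ⟨k, hk⟩ : ∃ k : ℕ, b * k ≡ 1 [MOD p] := by
      obtain ⟨k, -, hk⟩ := Nat.exists_mul_mod_eq_one_of_coprime hxo.symm hp.one_lt
      exact ⟨k, by rw [Nat.ModEq, hk, Nat.one_mod_eq_one.2 hp.ne_one]⟩
    have hpow : (v * x) ^ (b * k) = v := by
      refine MonoidHom.ext fun l => ?_
      have h1 : x l ^ (b * k) = 1 := by
        rw [pow_mul, ← MonoidHom.pow_apply, pow_orderOf_eq_one, MonoidHom.one_apply, one_pow]
      have h2a : orderOf (v l) ∣ p := orderOf_dvd_of_pow_eq_one (by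
          rw [← MonoidHom.pow_apply, ← hvp, pow_orderOf_eq_one, MonoidHom.one_apply])
      have h2 : v l ^ (b * k) = v l ^ 1 := pow_eq_pow_iff_modEq.2 (hk.of_dvd h2a)
      rw [MonoidHom.pow_apply, MonoidHom.mul_apply, mul_pow, h1, h2, pow_one, mul_one]
    have hle : stab (v * x) ≤ stab v := fun g hg => hpow ▸ stab_le_pow (v * x) (b * k) hg
    have hne : v * x ≠ 1 := fun h => hv1 (by rw [← hpow, h]; exact MonoidHom.ext fun l => one_pow _)
    have heq := hA.toLayer.stab_eq_of_le hF hv1 hne hle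
    have hle2 : stab v ≤ stab x := by
      intro g hg
      have h3 := mem_stab.1 (heq ▸ hg : g ∈ stab (v * x))
      rw [cj_hom_mul, mem_stab.1 hg] at h3
      exact mem_stab.2 (MonoidHom.ext fun l => mul_left_cancel (DFunLike.congr_fun h3 l))
    exact (hA.toLayer.stab_eq_of_le hF hx hv1 hle2).symm
  obtain ⟨E, hEQ, hEc, hEfix, e, he, heA⟩ := hA.exists_E hF
  obtain ⟨y, hy, hyN⟩ := SetLike.not_le_iff_exists.1 (hA.toLayer.moved_facts hF hv1).2.2.2
  have hw2 := key w' hw1 hcop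
  have hord : orderOf (cj e w') = orderOf w' := by
    refine orderOf_eq_orderOf_iff.2 fun n => ?_
    rw [← cj_hom_pow]
    refine ⟨fun h => ?_, fun h => by rw [h]; exact cj_hom_one e⟩
    rw [← cj_one (w' ^ n), ← mul_inv_cancel e, cj_mul, h]
    exact cj_hom_one _
  have hw3 := key (cj e w') (fun h => hw1 (by
    rw [← cj_one w', ← mul_inv_cancel e, cj_mul, h]; exact cj_hom_one _)) (hord ▸ hcop)
  have hy1 : y ∈ stab w' := hw2 ▸ hy
  have hy2 : e * y * e⁻¹ ∈ stab w' := by
    have h := mem_stab.1 (hw3 ▸ hy : y ∈ stab (cj e w'))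
    rw [mem_stab, cj_mul, cj_mul, h, ← cj_mul, mul_inv_cancel, cj_one]
  have he1 : e = 1 := hEfix y e hyN he ((hA.inf_stab hF hw1).le ⟨?_, ?_⟩)
  · exact heA (he1.symm ▸ (A1 N L).one_mem)
  · exact N.mul_mem ((inferInstance : N.Normal).conj_mem e (hA.le_N (hEQ he)) y)
      (N.inv_mem (hA.le_N (hEQ he)))
  · rw [commutatorElement_def, show y * e * y⁻¹ * e⁻¹ = y * (e * y * e⁻¹)⁻¹ by group]
    exact (stab w').mul_mem hy1 ((stab w').inv_mem hy2)

/-- Elements of `p`-power order modulo `A1` lie in `A1`. -/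
theorem mem_A1_of_pow_mem {p : ℕ} (hp : p.Prime) (hV : IsPGroup p (L →* ℂˣ)) {a : G} (ha : a ∈ N)
    (hap : a ^ p ∈ A1 N L) : a ∈ A1 N L := by
  by_contra haA
  haveI : Fact p.Prime := ⟨hp⟩
  set R := A1 N L
  set π := QuotientGroup.mk' R
  let φ : G ⧸ R →* MulAut (L →* ℂˣ) :=
    QuotientGroup.lift R (cjHom L) (inf_le_right : R ≤ (cjHom L).ker)
  have hZ : IsPGroup p (Subgroup.zpowers (π a)) := by
    intro z
    obtain ⟨k, hk⟩ := z.2
    refine ⟨1, Subtype.ext ?_⟩
    rw [pow_one, Subgroup.coe_pow, Subgroup.coe_one, ← hk]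
    show ((π a) ^ k) ^ p = 1
    rw [← zpow_natCast, ← zpow_mul, mul_comm, zpow_mul, zpow_natCast, ← map_pow,
      show π (a ^ p) = 1 from (QuotientGroup.eq_one_iff _).2 hap, one_zpow]
  letI : MulAction (Subgroup.zpowers (π a)) (L →* ℂˣ) :=
    { smul := fun z v => φ (z : G ⧸ R) v
      one_smul := fun v => by
        show φ ((1 : Subgroup.zpowers (π a)) : G ⧸ R) v = v
        rw [Subgroup.coe_one, map_one]; rfl
      mul_smul := fun x y v => by
        show φ ((x * y : Subgroup.zpowers (π a)) : G ⧸ R) v = φ (x : G ⧸ R) (φ (y : G ⧸ R) v)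
        rw [Subgroup.coe_mul, map_mul]; rfl }
  obtain ⟨v₀, hv₀⟩ := hA.nontriv
  haveI : Nontrivial (L →* ℂˣ) := ⟨⟨v₀, 1, hv₀⟩⟩
  obtain ⟨v, hv, hne⟩ := hZ.exists_fixed_point_of_prime_dvd_card_of_fixed_point (L →* ℂˣ)
    (by
      obtain ⟨k, hk⟩ := IsPGroup.iff_card.1 hV
      rw [hk]
      refine dvd_pow_self p fun h0 => ?_
      rw [h0, pow_zero, Nat.card_eq_one_iff_unique] at hk
      exact hv₀ (hk.1.elim v₀ 1))
    (a := (1 : L →* ℂˣ)) (fun z => by
      show φ (z : G ⧸ R) 1 = 1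
      exact map_one _)
  exact hne (hA.eq_one_of_fixed hF ha haA
    ((cjHom_fixed_iff L a v).1 (hv ⟨π a, Subgroup.mem_zpowers _⟩))).symm

/-- The quotient `N / A1` is cyclic. -/
theorem exists_faithful : ∃ μ : N →* ℂˣ, ∀ n : N, μ n = 1 ↔ (n : G) ∈ A1 N L := by
  obtain ⟨p, hp, hV⟩ := hA.exists_prime_dual hF
  haveI : Fact p.Prime := ⟨hp⟩
  set R := (A1 N L).subgroupOf N
  haveI : R.Normal := Subgroup.normal_subgroupOf
  letI : CommGroup (N ⧸ R) :=
    { (inferInstance : Group (N ⧸ R)) with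
      mul_comm := by
        intro x y
        obtain ⟨x, rfl⟩ := QuotientGroup.mk_surjective x
        obtain ⟨y, rfl⟩ := QuotientGroup.mk_surjective y
        refine QuotientGroup.eq.2 ?_
        rw [show (x * y)⁻¹ * (y * x) = ⁅y⁻¹, x⁻¹⁆ by rw [commutatorElement_def]; group,
          Subgroup.mem_subgroupOf]
        simpa [commutatorElement_def] using
          hA.L_le_A1 hF (hA.abelian _ (inv_mem y.2) _ (inv_mem x.2)) }
  let φ : N ⧸ R →* MulAut (L →* ℂˣ) := QuotientGroup.lift R ((cjHom L).comp N.subtype)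
    fun n hn => (hn : (n : G) ∈ A1 N L).2
  obtain ⟨v₀, hv₀⟩ := hA.nontriv
  obtain ⟨E, hEQ, hEc, hEfix, e, he, heA⟩ := hA.exists_E hF
  have hcyc : IsCyclic (N ⧸ R) := by
    refine isCyclic_of_semiregular (A := N ⧸ R) (K := L →* ℂˣ) φ ?_ (fun a ha v hv b => ?_) ?_
    · obtain ⟨k, hk⟩ := IsPGroup.iff_card.1 hV
      rw [hk]
      refine Nat.Coprime.pow_right _ (Nat.Coprime.symm (hp.coprime_iff_not_dvd.2 fun hd => ?_))
      obtain ⟨x, hx⟩ := exists_prime_orderOf_dvd_card' p hd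
      obtain ⟨n, rfl⟩ := QuotientGroup.mk_surjective x
      have hnp : (n : G) ^ p ∈ A1 N L := by
        have h1 : ((n : N ⧸ R)) ^ p = 1 := by rw [← hx, pow_orderOf_eq_one]
        rw [← QuotientGroup.mk_pow, QuotientGroup.eq_one_iff] at h1
        exact h1
      have hn := hA.mem_A1_of_pow_mem hF hp hV n.2 hnp
      rw [(QuotientGroup.eq_one_iff n).2 hn, orderOf_one] at hx
      exact hp.ne_one hx.symm
    · obtain ⟨n, rfl⟩ := QuotientGroup.mk_surjective a
      have hn : (n : G) ∉ A1 N L := fun h => ha ((QuotientGroup.eq_one_iff n).2 h)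
      rw [hA.eq_one_of_fixed hF n.2 hn ((cjHom_fixed_iff L _ v).1 hv), map_one]
    · refine ⟨QuotientGroup.mk ⟨e, hA.le_N (hEQ he)⟩, v₀, fun h => ?_⟩
      exact hv₀ (hA.eq_one_of_fixed hF (hA.le_N (hEQ he)) heA ((cjHom_fixed_iff L e v₀).1 h))
  obtain ⟨g, hg⟩ := hcyc.exists_generator
  obtain ⟨ζ, hζ⟩ : ∃ ζ : ℂ, IsPrimitiveRoot ζ (orderOf g) :=
    ⟨_, Complex.isPrimitiveRoot_exp _ (orderOf_pos g).ne'⟩
  obtain ⟨u, rfl⟩ := hζ.isUnit (orderOf_pos g).ne'
  have hu : orderOf u = orderOf g := by rw [← orderOf_units]; exact hζ.eq_orderOf.symm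
  let f := monoidHomOfForallMemZpowers hg (g' := u) hu.dvd
  refine ⟨f.comp (QuotientGroup.mk' R), fun n => ?_⟩
  show f (n : N ⧸ R) = 1 ↔ n ∈ R
  rw [← QuotientGroup.eq_one_iff]
  refine ⟨fun h => ?_, fun h => by rw [h, map_one]⟩
  obtain ⟨k, hk⟩ := Subgroup.mem_zpowers_iff.1 (hg (n : N ⧸ R))
  rw [← hk] at h ⊢
  rw [map_zpow, monoidHomOfForallMemZpowers_apply_gen, ← orderOf_dvd_iff_zpow_eq_one, hu,
    orderOf_dvd_iff_zpow_eq_one] at h
  exact h

/-- Nonlinear characters of `L` are fixed inside `N` outside `A1`. -/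
theorem not_inertia_le [Fintype L] (ξ : Cfsg.IrrCharacter L)
    (h1 : Cfsg.charDegree (ξ : L → ℂ) ≠ 1) :
    ¬ CharTwist.inertia L (ξ : L → ℂ) ⊓ N ≤ A1 N L := by
  intro hle
  haveI := Fintype.ofFinite G
  obtain ⟨X, j, -, -, ⟨χ₀, hχ₀⟩, -, -, hX1, hcrit⟩ := hA.exists_orbit_length hF
  obtain ⟨χ, hχ⟩ := Blk83.exists_over L ξ
  have hd := index_mul_dvd L χ ξ hχ
  have hX := hF.hnd χ₀ χ (hχ₀ ▸ hX1) (hχ₀ ▸ (hcrit _ hle).trans (Dvd.intro _ rfl |>.trans hd))
  rw [hχ₀] at hX
  rw [← hX] at hd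
  obtain ⟨k, hk⟩ := hcrit _ hle
  rw [hk] at hd
  have h2 : k * Cfsg.charDegree (ξ : L → ℂ) ∣ 1 :=
    Nat.dvd_of_mul_dvd_mul_left (show 0 < X by omega) (by rw [← mul_assoc, mul_one]; exact hd)
  exact h1 (Nat.eq_one_of_mul_eq_one_left (Nat.dvd_one.1 h2))

/-- Nonlinear characters of `L` absorb all linear twists. -/
theorem twist_eq [Fintype L] (ξ : Cfsg.IrrCharacter L) (h1 : Cfsg.charDegree (ξ : L → ℂ) ≠ 1)
    (v : L →* ℂˣ) : tw v (ξ : L → ℂ) = (ξ : L → ℂ) := by
  haveI : Finite (L →* ℂˣ) := by infer_instance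
  set θ := (ξ : L → ℂ) with hθ
  let K : Subgroup (L →* ℂˣ) :=
    { carrier := {x | tw x θ = θ}
      one_mem' := tw_one θ
      mul_mem' := fun {x y} (hx : tw x θ = θ) (hy : tw y θ = θ) => by
        show tw (x * y) θ = θ
        rw [tw_mul, hy, hx]
      inv_mem' := fun {x} (hx : tw x θ = θ) => by
        show tw x⁻¹ θ = θ
        nth_rw 1 [← hx]
        rw [← tw_mul, hom_inv_mul, tw_one] }
  have hinv : ∀ a, CharTwist.conjFun L θ a = θ → ∀ x ∈ K, cj a x ∈ K := by
    intro a ha x hx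
    have h := conjFun_tw a x θ
    rw [(hx : tw x θ = θ), ha] at h
    exact h.symm
  have hsurjK : ∀ a ∈ N, a ∉ A1 N L → CharTwist.conjFun L θ a = θ → ∀ x ∈ K, ∀ z : L →* ℂˣ,
      cj a z = x * z → z ∈ K := by
    intro a ha haA hfix x hx z hz
    let δ : K → K := fun k => ⟨cj a k / (k : L →* ℂˣ), K.div_mem (hinv a hfix k k.2) k.2⟩
    have hinj : Function.Injective δ := by
      intro k k' h
      have h1 : cj a ((k : L →* ℂˣ) / (k' : L →* ℂˣ)) = (k : L →* ℂˣ) / (k' : L →* ℂˣ) :=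
        MonoidHom.ext fun l => by
        have h2 := DFunLike.congr_fun (congrArg Subtype.val h) l
        simp only [δ, MonoidHom.div_apply] at h2
        show cj a (k : L →* ℂˣ) l / cj a (k' : L →* ℂˣ) l = (k : L →* ℂˣ) l / (k' : L →* ℂˣ) l
        rw [div_eq_div_iff_mul_eq_mul] at h2 ⊢
        rw [h2, mul_comm]
      exact Subtype.ext (MonoidHom.ext fun l => div_eq_one.1
        (DFunLike.congr_fun (hA.eq_one_of_fixed hF ha haA (mem_stab.2 h1)) l))
    obtain ⟨k, hk⟩ := Finite.injective_iff_surjective.1 hinj ⟨x, hx⟩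
    have hk' : cj a (k : L →* ℂˣ) = x * k := MonoidHom.ext fun l => by
      have h0 : cj a (k : L →* ℂˣ) / (k : L →* ℂˣ) = x := congrArg Subtype.val hk
      rw [← h0, MonoidHom.mul_apply, MonoidHom.div_apply, div_mul_cancel]
    have h1 : cj a (z / (k : L →* ℂˣ)) = z / (k : L →* ℂˣ) := MonoidHom.ext fun l => by
      show cj a z l / cj a (k : L →* ℂˣ) l = z l / (k : L →* ℂˣ) l
      rw [hz, hk', MonoidHom.mul_apply, MonoidHom.mul_apply, mul_div_mul_left_eq_div]
    have h3 := hA.eq_one_of_fixed hF ha haA (mem_stab.2 h1)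
    rw [show z = (k : L →* ℂˣ) from MonoidHom.ext fun l => div_eq_one.1 (DFunLike.congr_fun h3 l)]
    exact k.2
  obtain ⟨a, ha, haA⟩ := SetLike.not_le_iff_exists.1 (hA.not_inertia_le hF ξ h1)
  have h1' : Cfsg.charDegree (tw v θ) ≠ 1 := by
    rwa [show Cfsg.charDegree (tw v θ) = Cfsg.charDegree θ by simp [Cfsg.charDegree, tw]]
  obtain ⟨b, hb, hbA⟩ := SetLike.not_le_iff_exists.1
    (hA.not_inertia_le hF ⟨_, isIrr_tw v ξ.2⟩ h1')
  have hfa : CharTwist.conjFun L θ a = θ := CharTwist.mem_inertia.1 ha.1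
  have hfb : tw (cj b v) (CharTwist.conjFun L θ b) = tw v θ := by
    rw [← conjFun_tw]; exact CharTwist.mem_inertia.1 hb.1
  set μ := (cj b v)⁻¹ * v with hμ
  have hθb : CharTwist.conjFun L θ b = tw μ θ := by
    rw [hμ, tw_mul, ← hfb, ← tw_mul, hom_inv_mul, tw_one]
  have hμK : μ ∈ K := by
    have hcomm : CharTwist.conjFun L θ (b * a) = CharTwist.conjFun L θ (a * b) := by
      rw [show b * a = ⁅b, a⁆ * (a * b) by rw [commutatorElement_def]; group,
        CharTwist.conjFun_mul _ θ ⁅b, a⁆ (a * b),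
        CharTwist.mem_inertia.1 (CharTwist.le_inertia L (Char.IsIrrCharacter.isClassFunction ξ.2)
          (hA.abelian b hb.2 a ha.2))]
    rw [CharTwist.conjFun_mul, CharTwist.conjFun_mul, hθb, conjFun_tw, hfa, hθb] at hcomm
    have hx : cj a μ / μ ∈ K := by
      show tw (cj a μ / μ) θ = θ
      rw [hom_div_eq, tw_mul, hcomm, ← tw_mul, hom_inv_mul, tw_one]
    exact hsurjK a ha.2 haA hfa _ hx μ (MonoidHom.ext fun l => by
      rw [MonoidHom.mul_apply, MonoidHom.div_apply, div_mul_cancel])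
  have hfb' : CharTwist.conjFun L θ b = θ := hθb.trans hμK
  have hμi : cj b v / v ∈ K := by
    rw [show cj b v / v = μ⁻¹ by rw [hμ, hom_inv_mul_rev, hom_div_eq]]
    exact K.inv_mem hμK
  exact hsurjK b hb.2 hbA hfb' _ hμi v (MonoidHom.ext fun l => by
    rw [MonoidHom.mul_apply, MonoidHom.div_apply, div_mul_cancel])

/-- Nonlinear characters of `L` vanish off `L'`. -/
theorem vanish [Fintype L] (ξ : Cfsg.IrrCharacter L) (h1 : Cfsg.charDegree (ξ : L → ℂ) ≠ 1)
    (x : L) (hx : (x : G) ∉ ⁅L, L⁆) : (ξ : L → ℂ) x = 0 := by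
  obtain ⟨v, hv⟩ : ∃ v : L →* ℂˣ, v ⟨x, x.2⟩ ≠ 1 := by
    by_contra h
    push Not at h
    exact hx (mem_derived_of_forall x.2 h)
  have h := congrFun (hA.twist_eq hF ξ h1 v) x
  simp only [tw] at h
  by_contra h0
  exact hv (Units.ext (mul_right_cancel₀ h0 (h.trans (one_mul _).symm)))

/-- Canonical extensions: a coprime normal piece fixing a nonlinear character is central
modulo `A1`. -/
theorem central_of_fixed [Fintype L] (ξ : Cfsg.IrrCharacter L)
    (h1 : Cfsg.charDegree (ξ : L → ℂ) ≠ 1)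
    (K : Subgroup G) [K.Normal] (hKξ : ∀ k : L, (k : G) ∈ K → (ξ : L → ℂ) k = (ξ : L → ℂ) 1)
    (S : Subgroup G) [S.Normal] (hLS : L ≤ S) (hSN : S ≤ N)
    (hcop : (L.relIndex S).Coprime (K.relIndex L))
    (hS : S ≤ CharTwist.inertia L (ξ : L → ℂ)) {x : G} (hx : x ∈ S) (g : G) :
    ⁅x, g⁆ ∈ A1 N L := by
  haveI := Fintype.ofFinite G
  haveI := Fintype.ofFinite N
  haveI := Fintype.ofFinite S
  obtain ⟨μ, hμ⟩ := hA.exists_faithful hF
  -- canonical extension of `ξ` to `S`
  haveI : (L.subgroupOf S).Normal := Subgroup.normal_subgroupOf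
  haveI := Fintype.ofFinite (L.subgroupOf S)
  let eL := Subgroup.subgroupOfEquivOfLe hLS
  set θ : L.subgroupOf S → ℂ := (ξ : L → ℂ) ∘ eL with hθ
  have hθi : Cfsg.IsIrrCharacter (L.subgroupOf S) θ := CharTwist.isIrrCharacter_comp_equiv ξ.2 eL
  have hinv : ∀ (s : S) (m : L.subgroupOf S), θ ⟨s * m * s⁻¹,
      (inferInstance : (L.subgroupOf S).Normal).conj_mem (m : S) m.2 s⟩ = θ m :=
    fun s m => congrFun (CharTwist.mem_inertia.1 (hS s.2)) (eL m)
  -- the degree and determinant order divide `K.relIndex L`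
  haveI : (K.subgroupOf L).Normal := Subgroup.normal_subgroupOf
  obtain ⟨ξ', hξ', hξeq⟩ := CharTwist.exists_irr_quotient ξ.2 (K.subgroupOf L)
    (fun k hk => hKξ k hk)
  have hd : Cfsg.charDegree (ξ : L → ℂ) ∣ K.relIndex L := by
    rw [show Cfsg.charDegree (ξ : L → ℂ) = Cfsg.charDegree ξ' by rw [hξeq]; simp [Cfsg.charDegree],
      show K.relIndex L = Nat.card (L ⧸ K.subgroupOf L) from rfl]
    exact CharTools.degree_dvd_card ⟨ξ', hξ'⟩
  obtain ⟨δ, hδ⟩ := CharDeep.Extend.exists_det_hom (L.subgroupOf S) θ hθi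
  have hδo : orderOf δ ∣ K.relIndex L := by
    refine orderOf_dvd_of_pow_eq_one (MonoidHom.ext fun m => ?_)
    rw [MonoidHom.pow_apply, ← map_pow, MonoidHom.one_apply]
    have hmem : (((m : S) : G)) ^ K.relIndex L ∈ K := by
      have h3 := Subgroup.pow_index_mem (K.subgroupOf L) (⟨((m : S) : G), m.2⟩ : L)
      exact h3
    set m' := m ^ K.relIndex L with hm'
    obtain ⟨d, ρ, hρ, hρe⟩ := hθi
    have h4 : ρ m' = 1 := by
      refine (Char.character_eq_degree_iff ρ m').1 ?_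
      rw [← ρ.char_one, hρe, hθ, Function.comp_apply, Function.comp_apply, map_one]
      exact hKξ _ (by simpa [hm', eL] using hmem)
    have h5 := congrFun hδ m'
    rw [← hρe, CharDeep.Cover.detChar_eq] at h5
    simp only [h4, map_one] at h5
    exact Units.ext h5.symm
  have hd1 : θ 1 = (Cfsg.charDegree (ξ : L → ℂ) : ℂ) := by
    rw [hθ, Function.comp_apply, map_one, CharTools.irr_degree_cast]
  have hcopd : (L.subgroupOf S).index.Coprime (Cfsg.charDegree (ξ : L → ℂ)) :=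
    Nat.Coprime.coprime_dvd_right hd hcop
  obtain ⟨F, hF', hFo, hFu⟩ := CharDeep.Lin.exists_ext_coprime δ (fun s m => Units.ext (by
    have h := CharDeep.Extend.det_invariant (L.subgroupOf S) θ hinv hθi s m
    rw [hδ] at h
    exact h)) (Nat.Coprime.coprime_dvd_right hδo hcop)
  have hμδ : ∀ m : L.subgroupOf S, (F m : ℂ) = Cfsg.detChar θ m := fun m => by rw [hF', hδ]
  obtain ⟨η', hη', hη'L⟩ := CharDeep.Extend.extends_of_det (L.subgroupOf S) θ hθi hinv _ hd1 hcopd F
    hμδ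
  obtain ⟨η, ⟨hη, hηL, hηdet⟩, hηu⟩ := CharDeep.Extend.existsUnique_det (L.subgroupOf S) θ hθi _
    hd1 hcopd η' hη' hη'L F hμδ
  -- elements fixing `ξ` fix `η`
  have hconj : ∀ z ∈ CharTwist.inertia L (ξ : L → ℂ), CharTwist.conjFun S η z = η := by
    intro z hz
    let α : MulAut S := MulAut.conjNormal z
    refine hηu _ ⟨CharTwist.isIrrCharacter_conjFun S hη z, fun m => ?_, ?_⟩
    · have h3 : η ⟨z * (((m : S) : G)) * z⁻¹, (inferInstance : S.Normal).conj_mem _ (m : S).2 z⟩ =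
          (ξ : L → ℂ) ⟨z * (((m : S) : G)) * z⁻¹, (inferInstance : L.Normal).conj_mem _ m.2 z⟩ :=
        hηL ⟨⟨_, (inferInstance : S.Normal).conj_mem _ (m : S).2 z⟩,
          (inferInstance : L.Normal).conj_mem _ m.2 z⟩
      show η _ = θ m
      rw [h3]
      exact congrFun (CharTwist.mem_inertia.1 hz) (eL m)
    · obtain ⟨d, ρ, hρ, hρe⟩ := hη
      let σ : Representation ℂ S (Fin d → ℂ) := ρ.comp α.toMonoidHom
      haveI : σ.IsIrreducible := CharTwist.irreducible_comp_surjective ρ _ α.surjective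
      have hFσ : (F.comp α.toMonoidHom) = F := by
        refine hFu _ (fun m => ?_) ?_
        · show F (α m) = δ m
          have hm : α (m : S) ∈ L.subgroupOf S :=
            (inferInstance : L.Normal).conj_mem _ m.2 z
          rw [hF' ⟨_, hm⟩]
          refine Units.ext ?_
          have e1 := congrFun hδ ⟨_, hm⟩
          have e2 := congrFun hδ m
          rw [← e1, ← e2]
          obtain ⟨d', τ, hτ, hτe⟩ := hθi
          rw [← hτe, CharDeep.Cover.detChar_eq]
          let β : MulAut (L.subgroupOf S) :=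
            { toFun := fun m => ⟨α m, (inferInstance : L.Normal).conj_mem _ m.2 z⟩
              invFun := fun m => ⟨α⁻¹ m, by
                have := (inferInstance : L.Normal).conj_mem _ m.2 z⁻¹
                simpa [α, Subgroup.mem_subgroupOf, MulAut.conjNormal_symm_apply] using this⟩
              left_inv := fun m => Subtype.ext (α.symm_apply_apply _)
              right_inv := fun m => Subtype.ext (α.apply_symm_apply _)
              map_mul' := fun a b => Subtype.ext (map_mul α _ _) }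
          let τ' : Representation ℂ (L.subgroupOf S) (Fin d' → ℂ) := τ.comp β.toMonoidHom
          haveI : τ'.IsIrreducible := CharTwist.irreducible_comp_surjective τ _ β.surjective
          have hτ' : τ'.character = τ.character := by
            rw [hτe]
            funext k
            show τ.character (β k) = θ k
            rw [hτe]
            exact congrFun (CharTwist.mem_inertia.1 hz) (eL k)
          have h6 := congrFun (CharDeep.Cover.detChar_eq τ') m
          rw [hτ', CharDeep.Cover.detChar_eq] at h6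
          exact h6.symm
        · refine Nat.Coprime.coprime_dvd_right (orderOf_dvd_of_pow_eq_one (n := orderOf F) ?_) ?_
          · ext s
            rw [MonoidHom.pow_apply, MonoidHom.comp_apply, ← MonoidHom.pow_apply, pow_orderOf_eq_one,
              MonoidHom.one_apply, MonoidHom.one_apply]
          · rw [hFo]; exact Nat.Coprime.coprime_dvd_right hδo hcop
      rw [← hρe, show CharTwist.conjFun S ρ.character z = σ.character from rfl,
        CharDeep.Cover.detChar_eq]
      funext s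
      have h7 := congrFun hηdet (α s)
      rw [← hρe, CharDeep.Cover.detChar_eq] at h7
      show LinearMap.det (ρ (α s)) = _
      refine h7.trans ?_
      exact congrArg Units.val (DFunLike.congr_fun hFσ s)
  -- twist by the faithful character
  let μS : S →* ℂˣ := μ.comp (Subgroup.inclusion hSN)
  set ζ : S → ℂ := tw μS η with hζ
  have hζi : Cfsg.IsIrrCharacter S ζ := isIrr_tw μS hη
  let eS := Subgroup.subgroupOfEquivOfLe hSN
  haveI : (S.subgroupOf N).Normal := Subgroup.normal_subgroupOf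
  haveI := Fintype.ofFinite (S.subgroupOf N)
  obtain ⟨ψ, hψ⟩ := Blk83.exists_over (S.subgroupOf N)
    ⟨ζ ∘ eS, CharTwist.isIrrCharacter_comp_equiv hζi eS⟩
  have hψ1 : Cfsg.charDegree (ψ : N → ℂ) ≠ 1 := by
    intro h
    obtain ⟨k, hk, -⟩ := ThreeDeg.over_ratio (S.subgroupOf N) ψ
      ⟨ζ ∘ eS, CharTwist.isIrrCharacter_comp_equiv hζi eS⟩ hψ
    rw [h] at hk
    refine h1 ?_
    have h8 : Cfsg.charDegree (ζ ∘ eS) = Cfsg.charDegree (ξ : L → ℂ) := by
      have h9 := hηL 1
      simp only [Subgroup.coe_one, hθ, Function.comp_apply, map_one] at h9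
      simp only [Cfsg.charDegree, Function.comp_apply, map_one, hζ, tw, Units.val_one, one_mul, h9]
    rw [← h8]
    exact Nat.eq_one_of_mul_eq_one_right hk.symm
  obtain ⟨y, hy, hyN⟩ := SetLike.not_le_iff_exists.1 (hF.inertia_not_le ψ hψ1)
  have hyψ := CharTwist.mem_inertia.1 hy
  -- the conjugate constituent
  have hyS : Cfsg.classInner (fun s : S.subgroupOf N => (ψ : N → ℂ) s)
      ((CharTwist.conjFun S ζ y) ∘ eS) ≠ 0 := by
    let β : S.subgroupOf N ≃ S.subgroupOf N :=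
      { toFun := fun s => ⟨⟨y * s * y⁻¹, (inferInstance : N.Normal).conj_mem _ (s : N).2 y⟩,
          (inferInstance : S.Normal).conj_mem _ s.2 y⟩
        invFun := fun s => ⟨⟨y⁻¹ * s * y⁻¹⁻¹, (inferInstance : N.Normal).conj_mem _ (s : N).2 _⟩,
          (inferInstance : S.Normal).conj_mem _ s.2 _⟩
        left_inv := fun s => by apply Subtype.ext; apply Subtype.ext; simp [mul_assoc]
        right_inv := fun s => by apply Subtype.ext; apply Subtype.ext; simp [mul_assoc] }
    intro h0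
    apply hψ
    rw [← h0]
    unfold Cfsg.classInner
    congr 1
    refine (Fintype.sum_equiv β _ _ fun s => ?_).symm
    show (ψ : N → ℂ) s * _ = (ψ : N → ℂ) (β s) * _
    have h10 := congrFun hyψ (s : N)
    simp only [CharTwist.conjFun] at h10
    rw [show (ψ : N → ℂ) ((β s : S.subgroupOf N) : N) = (ψ : N → ℂ) s from h10]
    rfl
  obtain ⟨m, hm⟩ := CharDeep.Cliff.exists_conj_eq (S.subgroupOf N) ψ.2
    (CharTwist.isIrrCharacter_comp_equiv hζi eS)
    (CharTwist.isIrrCharacter_comp_equiv (CharTwist.isIrrCharacter_conjFun S hζi y) eS) hψ hyS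
  have hm' : CharTwist.conjFun S ζ (m : G) = CharTwist.conjFun S ζ y := by
    funext s
    have h11 := congrFun hm (eS.symm s)
    simp only [CharTwist.conjFun, Function.comp_apply] at h11 ⊢
    convert h11 using 2
    · exact Subtype.ext (by simp [eS])
    · exact Subtype.ext (by simp [eS])
  have hz : CharTwist.conjFun S ζ (y * (m : G)⁻¹) = ζ := by
    rw [CharTwist.conjFun_mul, ← hm', ← CharTwist.conjFun_mul, mul_inv_cancel,
      CharTwist.conjFun_one]
  set z := y * (m : G)⁻¹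
  have hzN : z ∉ N := fun h => hyN (by
    rw [show y = z * m by simp [z]]
    exact mul_mem h m.2)
  have hμL : ∀ s : S, (s : G) ∈ L → μS s = 1 := fun s hs => (hμ _).2 (hA.L_le_A1 hF hs)
  have hzξ : z ∈ CharTwist.inertia L (ξ : L → ℂ) := by
    refine CharTwist.mem_inertia.2 (funext fun l => ?_)
    have hls : ∀ (s : G) (hs : s ∈ L), ζ ⟨s, hLS hs⟩ = (ξ : L → ℂ) ⟨s, hs⟩ := fun s hs => by
      simp only [hζ, tw]
      rw [hμL ⟨s, hLS hs⟩ hs, Units.val_one, one_mul]
      exact hηL ⟨⟨s, hLS hs⟩, hs⟩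
    have h12 := congrFun hz ⟨l, hLS l.2⟩
    simp only [CharTwist.conjFun] at h12 ⊢
    rw [hls _ ((inferInstance : L.Normal).conj_mem l l.2 z), hls _ l.2] at h12
    exact h12
  -- the twist is fixed
  rw [hζ, conjFun_tw, hconj z hzξ] at hz
  have hμfix : cj z μS = μS := by
    let ν : S →* ℂˣ := μS⁻¹ * cj z μS
    have hν : tw ν η = η := by rw [tw_mul, hz, ← tw_mul, hom_inv_mul, tw_one]
    haveI := Fintype.ofFinite (S ⧸ L.subgroupOf S)
    obtain ⟨-, hinj, -⟩ := CharDeep.Gal.quotient_bijection (L.subgroupOf S) hη (by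
      rw [show (fun m : L.subgroupOf S => η m) = θ from funext hηL]; exact hθi)
    let ν' : S ⧸ L.subgroupOf S →* ℂˣ := QuotientGroup.lift (L.subgroupOf S) ν fun s hs => by
      rw [MonoidHom.mem_ker]
      show (μS s)⁻¹ * μS (MulAut.conjNormal z s) = 1
      rw [hμL s hs, hμL _ ((inferInstance : L.Normal).conj_mem s hs z), inv_one, one_mul]
    have heq := hinj (fun a => (ν' a : ℂ)) (fun _ => 1) (Char.isIrrCharacter_linear ν')
      Char.isIrrCharacter_principal (by
        funext s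
        show (ν s : ℂ) * η s = 1 * η s
        rw [one_mul]
        exact congrFun hν s)
    refine MonoidHom.ext fun s => ?_
    have h13 : ν' (QuotientGroup.mk s) = 1 := Units.ext (congrFun heq _)
    have h14 : (μS s)⁻¹ * cj z μS s = 1 := h13
    exact (inv_mul_eq_one.1 h14).symm
  have hcomm : ⁅z, x⁆ ∈ A1 N L := by
    have h15 := DFunLike.congr_fun hμfix ⟨x, hx⟩
    change μ ⟨z * x * z⁻¹, _⟩ = μ ⟨x, _⟩ at h15
    have h16 : μ (⟨z * x * z⁻¹, (inferInstance : N.Normal).conj_mem x (hSN hx) z⟩ *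
        (⟨x, hSN hx⟩ : N)⁻¹) = 1 := by rw [map_mul, map_inv, h15, mul_inv_cancel]
    exact (hμ _).1 h16
  exact hA.central_mod hF (A1 N L) (hA.L_le_A1 hF) inf_le_left hzN (hSN hx) hcomm g

end AbLayer

end CfsgLib.NoDiv
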