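import Cfsg.Agent.Lib.NoDiv.LevelTools
import Cfsg.Agent.Lib.NoDiv.Linear
import Cfsg.Agent.Lib.NoDiv.NilLayer
import Cfsg.Agent.Lib.Solvable.CoprimeAction
import Cfsg.Agent.Lib.FrattiniEmbed.Basic

/-!
# A normal Sylow subgroup with cyclic coprime complement: the moving part is a Camina group
-/

set_option autoImplicit false

open scoped Classical commutatorElement
open CfsgLib CfsgLib.DegGraph

namespace CfsgLib.NoDiv

universe u

variable {G : Type u} [Group G] [Finite G]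

/-- The data of the level `N / M`. -/
structure Lvl (Q : Subgroup G) [Q.Normal] (q : ℕ) (c : G) : Prop where
  frob : Frob Q q
  pgroup : IsPGroup q Q
  nonab : ⁅Q, Q⁆ ≠ ⊥
  gen : ∀ g : G, ∃ k : ℕ, (c ^ k)⁻¹ * g ∈ Q
  pow : c ^ Q.index = 1
  hnp : ∀ p : ℕ, p.Prime → ∀ W : Subgroup G, W.Normal → ¬ commutator G ≤ W →
    ∀ k, W.index ≠ p ^ k

/-- The part moved by `c`. -/
abbrev rad (Q : Subgroup G) (c : G) : Subgroup G := ⁅Q, Subgroup.zpowers c⁆

/-- The part fixed by `c`. -/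
abbrev fixd (Q : Subgroup G) (c : G) : Subgroup G :=
  Q ⊓ Subgroup.centralizer (Subgroup.zpowers c : Set G)

theorem solvable_zpowers {H : Type u} [Group H] (g : H) : Group.IsSolvable (Subgroup.zpowers g) :=
  Group.isSolvable_of_comm fun ⟨a, i, hi⟩ ⟨b, j, hj⟩ => Subtype.ext (by
    subst hi hj
    exact ((Commute.refl g).zpow_zpow i j).eq)

namespace Lvl

variable {Q : Subgroup G} [Q.Normal] {q : ℕ} {c : G} (hL : Lvl Q q c)
include hL

theorem pow_mem_iff (k : ℕ) : c ^ k ∈ Q ↔ Q.index ∣ k := pow_mem_iff_dvd Q hL.gen Q le_rfl k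

theorem pow_eq_one_of_mem {k : ℕ} (h : c ^ k ∈ Q) : c ^ k = 1 := by
  obtain ⟨j, rfl⟩ := (hL.pow_mem_iff k).1 h
  rw [pow_mul, hL.pow, one_pow]

theorem one_not_dvd : ¬ Q.index ∣ 1 := fun h => hL.frob.ne_one (Nat.dvd_one.1 h)

theorem coprime : (Nat.card (Subgroup.zpowers c)).Coprime (Nat.card Q) := by
  haveI : Fact q.Prime := ⟨hL.frob.prime⟩
  obtain ⟨e, he⟩ := IsPGroup.iff_card.1 hL.pgroup
  rw [Nat.card_zpowers, he]
  exact Nat.Coprime.coprime_dvd_left (orderOf_dvd_of_pow_eq_one hL.pow)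
    ((hL.frob.prime.coprime_iff_not_dvd.2 hL.frob.not_dvd).symm.pow_right e)

theorem nilpotent : Group.IsNilpotent Q := by
  haveI : Fact q.Prime := ⟨hL.frob.prime⟩
  exact hL.pgroup.isNilpotent

theorem solvable : Group.IsSolvable (Subgroup.zpowers c) ∨ Group.IsSolvable Q :=
  Or.inl (solvable_zpowers _)

omit [Finite G] hL in
theorem le_normalizer (H : Subgroup G) : H ≤ Subgroup.normalizer (Q : Set G) := by
  rw [Subgroup.normalizer_eq_top]
  exact le_top

theorem sup_eq : rad Q c ⊔ fixd Q c = Q :=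
  Solvable.commutator_sup_centralizer (le_normalizer _) hL.coprime hL.solvable

omit [Finite G] hL in
theorem rad_le : rad Q c ≤ Q := Subgroup.commutator_le_left _ _

omit [Finite G] hL in
theorem normal_of_stable {H : Subgroup G} (hgen : ∀ g : G, ∃ k : ℕ, (c ^ k)⁻¹ * g ∈ Q)
    (hQ : Q ≤ Subgroup.normalizer (H : Set G)) (hc : c ∈ Subgroup.normalizer (H : Set G)) :
    H.Normal := by
  rw [← Subgroup.normalizer_eq_top_iff, Subgroup.eq_top_iff']
  intro g
  obtain ⟨k, hk⟩ := hgen g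
  rw [show g = c ^ k * ((c ^ k)⁻¹ * g) by group]
  exact mul_mem (pow_mem hc k) (hQ hk)

theorem rad_normal : (rad Q c).Normal :=
  normal_of_stable hL.gen (Subgroup.normalizer_commutator_ge_left _ _)
    ((Subgroup.normalizer_commutator_ge_right _ _) (Subgroup.mem_zpowers c))

omit [Finite G] hL in
theorem fixd_comm {d : G} (hd : d ∈ fixd Q c) (k : ℕ) : Commute (c ^ k) d :=
  Subgroup.mem_centralizer_iff.1 hd.2 _ (pow_mem (Subgroup.mem_zpowers c) k)

theorem exists_split {x : G} (hx : x ∈ Q) :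
    ∃ r ∈ rad Q c, ∃ d ∈ fixd Q c, r * d = x := by
  haveI := hL.rad_normal
  rw [← hL.sup_eq] at hx
  exact Subgroup.mem_sup_of_normal_left.1 hx

theorem derived_le_rad : ⁅Q, Q⁆ ≤ rad Q c := by
  haveI : Fact q.Prime := ⟨hL.frob.prime⟩
  haveI := hL.rad_normal
  set W := rad Q c ⊔ Subgroup.zpowers c with hWdef
  have hcW : c ∈ W := Subgroup.mem_sup_right (Subgroup.mem_zpowers c)
  haveI hW : W.Normal := by
    refine normal_of_stable hL.gen (fun g hg => ?_) (Subgroup.le_normalizer hcW)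
    rw [Subgroup.mem_normalizer_iff]
    have h1 : ∀ z ∈ Q, ∀ w ∈ W, z * w * z⁻¹ ∈ W := by
      intro z hz w hw
      obtain ⟨r, hr, y, hy, rfl⟩ := Subgroup.mem_sup_of_normal_left.1 hw
      rw [show z * (r * y) * z⁻¹ = (z * r * z⁻¹) * (⁅z, y⁆ * y) by
        rw [commutatorElement_def]; group]
      exact mul_mem (Subgroup.mem_sup_left ((inferInstance : (rad Q c).Normal).conj_mem r hr z))
        (mul_mem (Subgroup.mem_sup_left (Subgroup.commutator_mem_commutator hz hy))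
          (Subgroup.mem_sup_right hy))
    refine fun w => ⟨h1 g hg w, fun h => ?_⟩
    simpa [mul_assoc] using h1 g⁻¹ (inv_mem hg) _ h
  have hWQ : W ⊔ Q = ⊤ := by
    rw [Subgroup.eq_top_iff']
    intro g
    obtain ⟨k, hk⟩ := hL.gen g
    rw [show g = c ^ k * ((c ^ k)⁻¹ * g) by group]
    exact mul_mem (Subgroup.mem_sup_left (pow_mem hcW k)) (Subgroup.mem_sup_right hk)
  obtain ⟨e, he⟩ := IsPGroup.iff_card.1 hL.pgroup
  obtain ⟨i, -, hi⟩ := (Nat.dvd_prime_pow hL.frob.prime).1 (show W.index ∣ q ^ e by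
    rw [← Subgroup.relIndex_top_right W, ← hWQ, sup_comm, Subgroup.relIndex_sup_right, ← he]
    exact Subgroup.index_dvd_card _)
  have hle : commutator G ≤ W := by
    by_contra h
    exact hL.hnp q hL.frob.prime W hW h i hi
  intro x hx
  have hxQ : x ∈ Q := Subgroup.commutator_le_left Q Q hx
  have hxW : x ∈ W := hle (Subgroup.commutator_mono le_top le_top hx)
  obtain ⟨r, hr, y, hy, hry⟩ := Subgroup.mem_sup_of_normal_left.1 hxW
  obtain ⟨k, rfl⟩ := (Submonoid.mem_powers_iff _ _).1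
    ((isOfFinOrder_of_finite c).mem_powers_iff_mem_zpowers.2 hy)
  have hk : c ^ k ∈ Q := by
    rw [show c ^ k = r⁻¹ * x by rw [← hry]; group]
    exact mul_mem (inv_mem (rad_le hr)) hxQ
  rw [← hry, hL.pow_eq_one_of_mem hk, mul_one]
  exact hr

/-- The derived subgroup with the fixed part. -/
theorem core_le : ⁅Q, Q⁆ ⊔ fixd Q c ≤ Q := sup_le (Subgroup.commutator_le_left Q Q) inf_le_left

omit hL in
theorem core_normal : ((⁅Q, Q⁆ ⊔ fixd Q c).subgroupOf Q).Normal := by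
  refine Subgroup.Normal.of_commutator_le (G := Q) ?_
  intro x hx
  rw [Subgroup.mem_subgroupOf]
  refine Subgroup.mem_sup_left ?_
  rw [← Subgroup.map_subtype_commutator]
  exact Subgroup.mem_map_of_mem _ hx

/-- A linear character of `Q` fixed by a nontrivial power of `c` kills the moved part. -/
theorem apply_rad {ν : Q →* ℂˣ} {j : ℕ} (hj : ¬ Q.index ∣ j) (hν : c ^ j ∈ stab ν) {x : G}
    (hx : x ∈ rad Q c) : ν ⟨x, rad_le hx⟩ = 1 := by
  have htop : stab ν = ⊤ := hL.frob.stab_top_of_mem ν hν fun h => hj ((hL.pow_mem_iff j).1 h)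
  have hle : rad Q c ≤ (ν.ker).map Q.subtype := Subgroup.commutator_le.2 fun a ha y _ => by
    have hconj : y * a⁻¹ * y⁻¹ ∈ Q := (inferInstance : Q.Normal).conj_mem _ (inv_mem ha) y
    refine ⟨⟨a, ha⟩ * ⟨_, hconj⟩, MonoidHom.mem_ker.2 ?_, ?_⟩
    · have h := DFunLike.congr_fun (mem_stab.1 (htop ▸ Subgroup.mem_top y : y ∈ stab ν))
        (⟨a, ha⟩⁻¹ : Q)
      rw [map_mul, show ν ⟨_, hconj⟩ = ν (⟨a, ha⟩⁻¹ : Q) from h, ← map_mul, mul_inv_cancel, map_one]
    · show a * (y * a⁻¹ * y⁻¹) = ⁅a, y⁆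
      rw [commutatorElement_def]; group
  obtain ⟨z, hz, hzx⟩ := hle hx
  rw [show (⟨x, rad_le hx⟩ : Q) = z from Subtype.ext hzx.symm]
  exact MonoidHom.mem_ker.1 hz

/-- The characters trivial on the fixed part. -/
theorem eq_one_of_fixed {ν : Q →* ℂˣ} (hd : ∀ d : Q, (d : G) ∈ fixd Q c → ν d = 1) {j : ℕ}
    (hj : ¬ Q.index ∣ j) (hν : c ^ j ∈ stab ν) : ν = 1 := by
  refine MonoidHom.ext fun x => ?_
  obtain ⟨r, hr, d, hd', e⟩ := hL.exists_split x.2
  rw [show x = ⟨r, rad_le hr⟩ * ⟨d, hd'.1⟩ from Subtype.ext e.symm, map_mul, hL.apply_rad hj hν hr,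
    hd _ hd', one_mul, MonoidHom.one_apply]

omit [Finite G] hL in
/-- Conjugation by a power of `c` on the characters trivial on the fixed part. -/
theorem cj_mem_V0 {ν : Q →* ℂˣ} (hd : ∀ d : Q, (d : G) ∈ fixd Q c → ν d = 1) (j : ℕ) :
    ∀ d : Q, (d : G) ∈ fixd Q c → cj (c ^ j) ν d = 1 := fun d hd' => by
  show ν (MulAut.conjNormal (c ^ j) d) = 1
  rw [show MulAut.conjNormal (c ^ j) d = d from Subtype.ext (by
    rw [MulAut.conjNormal_apply, (fixd_comm hd' j).eq, mul_inv_cancel_right])]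
  exact hd d hd'

/-- A power of `c` moves everything outside the core. -/
theorem mem_core_of_fixed {x : G} (hx : x ∈ Q) {j : ℕ} (hj : ¬ Q.index ∣ j)
    (h : ⁅c ^ j, x⁆ ∈ ⁅Q, Q⁆ ⊔ fixd Q c) : x ∈ ⁅Q, Q⁆ ⊔ fixd Q c := by
  haveI := core_normal (Q := Q) (c := c)
  by_contra hxn
  obtain ⟨χ, hχ, hχx⟩ := sep_char Q (⁅Q, Q⁆ ⊔ fixd Q c) le_sup_left hx hxn
  let V : Subgroup (Q →* ℂˣ) :=
    { carrier := {ν | ∀ d : Q, (d : G) ∈ fixd Q c → ν d = 1}
      one_mem' := fun _ _ => rfl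
      mul_mem' := fun {a b} ha hb d hd => by rw [MonoidHom.mul_apply, ha d hd, hb d hd, one_mul]
      inv_mem' := fun {a} ha d hd => by rw [MonoidHom.inv_apply, ha d hd, inv_one] }
  haveI : Finite (Q →* ℂˣ) := by infer_instance
  let T : V →* V := MonoidHom.mk' (fun ν => ⟨cj (c ^ j) ν.1, cj_mem_V0 ν.2 j⟩) fun a b =>
    Subtype.ext (cj_hom_mul (c ^ j) a.1 b.1)
  obtain ⟨μ, hμ⟩ := surjective_div T (fun ν hν => Subtype.ext
    (hL.eq_one_of_fixed ν.2 hj (mem_stab.2 (congrArg Subtype.val hν))))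
    ⟨χ, fun d hd => hχ d (Subgroup.mem_sup_right hd)⟩
  refine hχx ?_
  have hconj : c ^ j * x * (c ^ j)⁻¹ ∈ Q := (inferInstance : Q.Normal).conj_mem x hx _
  have e := DFunLike.congr_fun (congrArg Subtype.val hμ) (⟨x, hx⟩ : Q)
  change cj (c ^ j) μ.1 ⟨x, hx⟩ / μ.1 ⟨x, hx⟩ = χ ⟨x, hx⟩ at e
  rw [← e]
  show μ.1 (MulAut.conjNormal (c ^ j) (⟨x, hx⟩ : Q)) / μ.1 ⟨x, hx⟩ = 1
  rw [← map_div]
  have hker : ∀ y : Q, (y : G) ∈ ⁅Q, Q⁆ ⊔ fixd Q c → μ.1 y = 1 := by
    intro y hy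
    have hle : ⁅Q, Q⁆ ⊔ fixd Q c ≤ μ.1.ker.map Q.subtype := sup_le
      (by
        rw [← Subgroup.map_subtype_commutator]
        exact Subgroup.map_mono (Abelianization.commutator_subset_ker μ.1))
      fun d hd => ⟨⟨d, hd.1⟩, MonoidHom.mem_ker.2 (μ.2 _ hd), rfl⟩
    obtain ⟨z, hz, hzy⟩ := hle hy
    rw [show y = z from Subtype.ext hzy.symm]
    exact MonoidHom.mem_ker.1 hz
  refine hker _ ?_
  rw [div_eq_mul_inv, Subgroup.coe_mul, Subgroup.coe_inv, MulAut.conjNormal_apply,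
    ← commutatorElement_def]
  exact h

/-- Nonlinear characters vanish outside the core. -/
theorem vanish (ψ : Cfsg.IrrCharacter Q) (h1 : Cfsg.charDegree (ψ : Q → ℂ) ≠ 1) {x : Q}
    (hx : (x : G) ∉ ⁅Q, Q⁆ ⊔ fixd Q c) : (ψ : Q → ℂ) x = 0 := by
  by_contra hψx
  haveI := core_normal (Q := Q) (c := c)
  haveI := Fintype.ofFinite Q
  obtain ⟨χ, hχ, hχx⟩ := sep_char Q (⁅Q, Q⁆ ⊔ fixd Q c) le_sup_left x.2 hx
  let V : Subgroup (Q →* ℂˣ) :=
    { carrier := {ν | ∀ d : Q, (d : G) ∈ fixd Q c → ν d = 1}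
      one_mem' := fun _ _ => rfl
      mul_mem' := fun {a b} ha hb d hd => by rw [MonoidHom.mul_apply, ha d hd, hb d hd, one_mul]
      inv_mem' := fun {a} ha d hd => by rw [MonoidHom.inv_apply, ha d hd, inv_one] }
  haveI : Finite (Q →* ℂˣ) := by infer_instance
  let T : ℕ → (V →* V) := fun j => MonoidHom.mk' (fun ν => ⟨cj (c ^ j) ν.1, cj_mem_V0 ν.2 j⟩)
    fun a b => Subtype.ext (cj_hom_mul (c ^ j) a.1 b.1)
  have hTinj : ∀ j, ¬ Q.index ∣ j → ∀ ν : V, T j ν = ν → ν = 1 := fun j hj ν hν =>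
    Subtype.ext (hL.eq_one_of_fixed ν.2 hj (mem_stab.2 (congrArg Subtype.val hν)))
  let H : Subgroup V :=
    { carrier := {ν | ∀ n, (ν.1 n : ℂ) * (ψ : Q → ℂ) n = (ψ : Q → ℂ) n}
      one_mem' := fun n => by simp
      mul_mem' := fun {a b} ha hb n => by
        rw [Subgroup.coe_mul, MonoidHom.mul_apply, Units.val_mul, mul_assoc, hb n, ha n]
      inv_mem' := fun {a} ha n => by
        rw [InvMemClass.coe_inv, MonoidHom.inv_apply, Units.val_inv_eq_inv_val, inv_mul_eq_iff_eq_mul₀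
          (Units.ne_zero _), ha n] }
  have hstable : ∀ j, (∀ n, (ψ : Q → ℂ) (MulAut.conjNormal (c ^ j) n) = (ψ : Q → ℂ) n) →
      ∀ ν ∈ H, T j ν ∈ H := by
    intro j hj ν hν n
    have h := hν (MulAut.conjNormal (c ^ j) n)
    rw [hj] at h
    exact h
  have hback : ∀ j, ¬ Q.index ∣ j →
      (∀ n, (ψ : Q → ℂ) (MulAut.conjNormal (c ^ j) n) = (ψ : Q → ℂ) n) →
      ∀ ν, T j ν / ν ∈ H → ν ∈ H := by
    intro j hj hfix ν hν
    let TH : H →* H := ((T j).comp H.subtype).codRestrict H fun a => hstable j hfix a.1 a.2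
    obtain ⟨⟨μ, hμH⟩, hμ⟩ := surjective_div TH (fun a ha =>
      Subtype.ext (hTinj j hj a.1 (congrArg Subtype.val ha))) ⟨_, hν⟩
    have h : T j μ / μ = T j ν / ν := congrArg Subtype.val hμ
    have h2 : ν / μ = 1 := hTinj j hj _ (by
      rw [map_div, div_eq_div_iff_mul_eq_mul]
      rw [div_eq_div_iff_mul_eq_mul] at h
      rw [← h, mul_comm])
    rw [div_eq_one] at h2
    exact h2 ▸ hμH
  -- some powers fix `ψ` and its twists
  have hpow : ∀ φ : Cfsg.IrrCharacter Q, Cfsg.charDegree (φ : Q → ℂ) ≠ 1 →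
      ∃ i, ¬ Q.index ∣ i ∧ ∀ n, (φ : Q → ℂ) (MulAut.conjNormal (c ^ i) n) = (φ : Q → ℂ) n := by
    intro φ hφ
    obtain ⟨g, hg, hgQ⟩ := SetLike.not_le_iff_exists.1 (hL.frob.inertia_not_le φ hφ)
    obtain ⟨i, hi⟩ := hL.gen g
    have hci : c ^ i ∈ CharTwist.inertia Q (φ : Q → ℂ) := by
      rw [show c ^ i = g * ((c ^ i)⁻¹ * g)⁻¹ by group]
      exact mul_mem hg (inv_mem (CharTwist.le_inertia Q (Char.IsIrrCharacter.isClassFunction φ.2) hi))
    refine ⟨i, fun hdvd => hgQ ?_, fun n => ?_⟩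
    · rw [show g = c ^ i * ((c ^ i)⁻¹ * g) by group]
      exact mul_mem ((hL.pow_mem_iff i).2 hdvd) hi
    · exact (congrArg (φ : Q → ℂ) (Subtype.ext (by rw [MulAut.conjNormal_apply]))).trans
        (congrFun (CharTwist.mem_inertia.1 hci) n)
  obtain ⟨i, hi, hfix⟩ := hpow ψ h1
  have hall : ∀ ν : V, ν ∈ H := by
    intro ν
    obtain ⟨k, hk, hkfix⟩ := hpow ⟨_, Char.IsIrrCharacter.linear_mul ψ.2 ν.1⟩ (by
      show Cfsg.charDegree (fun x => (ν.1 x : ℂ) * (ψ : Q → ℂ) x) ≠ 1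
      simpa [Cfsg.charDegree, map_one] using h1)
    have e1 : ∀ n, (ν.1 (MulAut.conjNormal (c ^ k) n) : ℂ) * (ψ : Q → ℂ) (MulAut.conjNormal (c ^ k) n)
        = (ν.1 n : ℂ) * (ψ : Q → ℂ) n := hkfix
    have hsw : ∀ n : Q, (MulAut.conjNormal (c ^ k) (MulAut.conjNormal (c ^ i) n) : Q) =
        MulAut.conjNormal (c ^ i) (MulAut.conjNormal (c ^ k) n) := fun n => by
      rw [← MulAut.mul_apply, ← MulAut.mul_apply, ← map_mul, ← map_mul,
        ((Commute.refl c).pow_pow k i).eq]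
    have hmem : T i (T k ν / ν) / (T k ν / ν) ∈ H := by
      intro n
      have ha := e1 n
      have hb := e1 (MulAut.conjNormal (c ^ i) n)
      rw [hfix n] at hb
      rw [show (ψ : Q → ℂ) (MulAut.conjNormal (c ^ k) (MulAut.conjNormal (c ^ i) n)) =
        (ψ : Q → ℂ) (MulAut.conjNormal (c ^ k) n) by rw [hsw, hfix]] at hb
      show ((ν.1 (MulAut.conjNormal (c ^ k) (MulAut.conjNormal (c ^ i) n)) /
          ν.1 (MulAut.conjNormal (c ^ i) n) /
          (ν.1 (MulAut.conjNormal (c ^ k) n) / ν.1 n) : ℂˣ) : ℂ) * _ = _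
      simp only [div_eq_mul_inv, mul_inv_rev, inv_inv, Units.val_mul, Units.val_inv_eq_inv_val]
      set A := (ν.1 (MulAut.conjNormal (c ^ k) n) : ℂ)
      set B := (ν.1 n : ℂ)
      set A' := (ν.1 (MulAut.conjNormal (c ^ k) (MulAut.conjNormal (c ^ i) n)) : ℂ)
      set B' := (ν.1 (MulAut.conjNormal (c ^ i) n) : ℂ)
      set P := (ψ : Q → ℂ) n
      set P' := (ψ : Q → ℂ) (MulAut.conjNormal (c ^ k) n)
      have hA : A ≠ 0 := Units.ne_zero _
      have hB' : B' ≠ 0 := Units.ne_zero _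
      calc A' * B'⁻¹ * (B * A⁻¹) * P = A' * B'⁻¹ * A⁻¹ * (A * P') := by rw [ha]; ring
        _ = B'⁻¹ * (A' * P') := by field_simp
        _ = B'⁻¹ * (B' * P) := by rw [hb]
        _ = P := by rw [← mul_assoc, inv_mul_cancel₀ hB', one_mul]
    have h2 : T k ν / ν ∈ H := hback i hi hfix _ hmem
    refine hback k hk (fun n => ?_) ν h2
    have ha := e1 n
    have h3 := h2 n
    change ((ν.1 (MulAut.conjNormal (c ^ k) n) / ν.1 n : ℂˣ) : ℂ) * _ = _ at h3
    rw [Units.val_div_eq_div_val, div_mul_eq_mul_div, div_eq_iff (Units.ne_zero _),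
      mul_comm ((ψ : Q → ℂ) n)] at h3
    rw [← h3] at ha
    exact mul_left_cancel₀ (Units.ne_zero _) ha
  refine hχx (Units.ext ?_)
  have h := hall ⟨χ, fun d hd => hχ d (Subgroup.mem_sup_right hd)⟩ x
  rw [Units.val_one]
  exact mul_right_cancel₀ hψx (h.trans (one_mul _).symm)

/-- Every nontrivial power of `c` generates the moved part. -/
theorem rad_le_pow {j : ℕ} (hj : ¬ Q.index ∣ j) :
    rad Q c ≤ ⁅Q, Subgroup.zpowers (c ^ j)⁆ := by
  set S := ⁅Q, Subgroup.zpowers (c ^ j)⁆ with hS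
  have hSQ : S ≤ Q := Subgroup.commutator_le_left _ _
  haveI : S.Normal := normal_of_stable hL.gen (Subgroup.normalizer_commutator_ge_left _ _) (by
    rw [Subgroup.mem_normalizer_iff]
    intro x
    have key : ∀ a : G, (∀ y ∈ Subgroup.zpowers (c ^ j), a * y * a⁻¹ = y) →
        S ≤ S.comap (MulAut.conj a).toMonoidHom := fun a ha =>
      Subgroup.commutator_le.2 fun u hu y hy => by
        rw [Subgroup.mem_comap, map_commutatorElement]
        refine Subgroup.commutator_mem_commutator ((inferInstance : Q.Normal).conj_mem u hu a) ?_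
        show a * y * a⁻¹ ∈ _
        rw [ha y hy]
        exact hy
    have hcy : ∀ y ∈ Subgroup.zpowers (c ^ j), Commute c y := fun y hy => by
      obtain ⟨k, rfl⟩ := hy
      exact ((Commute.refl c).pow_right j).zpow_right k
    refine ⟨fun h => key c (fun y hy => by rw [(hcy y hy).eq, mul_inv_cancel_right]) h, fun h => ?_⟩
    have := key c⁻¹ (fun y hy => by rw [(hcy y hy).inv_left.eq, mul_inv_cancel_right]) h
    simpa [mul_assoc] using this)
  have hfull : S ⊔ (Q ⊓ Subgroup.centralizer (Subgroup.zpowers (c ^ j) : Set G)) = Q :=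
    Solvable.commutator_sup_centralizer (le_normalizer _)
      (hL.coprime.coprime_dvd_left (Subgroup.card_dvd_of_le
        (Subgroup.zpowers_le.2 (pow_mem (Subgroup.mem_zpowers c) j))))
      (Or.inl (solvable_zpowers _))
  have hCle : Q ⊓ Subgroup.centralizer (Subgroup.zpowers (c ^ j) : Set G) ≤
      ⁅Q, Q⁆ ⊔ fixd Q c := fun x hx => hL.mem_core_of_fixed hx.1 hj (by
    rw [(commutatorElement_eq_one_iff_mul_comm.2
      (Subgroup.mem_centralizer_iff.1 hx.2 _ (Subgroup.mem_zpowers _)))]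
    exact one_mem _)
  have hQ : S ⊔ fixd Q c = Q := by
    refine le_antisymm (sup_le hSQ inf_le_left) ?_
    have hsub : ((S ⊔ fixd Q c).subgroupOf Q) ⊔ commutator Q = ⊤ := by
      rw [eq_top_iff, ← Subgroup.map_subtype_le_map_subtype, ← MonoidHom.range_eq_map,
        Subgroup.range_subtype, Subgroup.map_sup, Subgroup.map_subtype_commutator,
        Subgroup.subgroupOf_map_subtype, inf_of_le_left (sup_le hSQ inf_le_left)]
      conv_lhs => rw [← hfull]
      exact sup_le (le_sup_left.trans le_sup_left)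
        (hCle.trans (sup_le le_sup_right (le_sup_right.trans le_sup_left)))
    haveI := hL.nilpotent
    have htop := frattini_nongenerating (top_unique (hsub ▸
      sup_le_sup_left (FrattiniEmbed.commutator_le_frattini_of_nilpotent (K := Q)) _))
    exact Subgroup.subgroupOf_eq_top.1 htop
  refine Subgroup.commutator_le.2 fun x hx y hy => ?_
  rw [← hQ] at hx
  obtain ⟨s, hs, d, hd, rfl⟩ := Subgroup.mem_sup_of_normal_left.1 hx
  rw [show ⁅s * d, y⁆ = s * ⁅d, y⁆ * (y * s⁻¹ * y⁻¹) by rw [commutatorElement_def, commutatorElement_def]; group,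
    commutatorElement_eq_one_iff_mul_comm.2 (Subgroup.mem_centralizer_iff.1 hd.2 y hy).symm, mul_one]
  exact mul_mem hs ((inferInstance : S.Normal).conj_mem _ (inv_mem hs) y)

/-- A linear character of the moved part fixed by a nontrivial power of `c` is trivial. -/
theorem hom_eq_one [(rad Q c).Normal] (μ : rad Q c →* ℂˣ) {j : ℕ} (hj : ¬ Q.index ∣ j)
    (hμ : c ^ j ∈ stab μ) : μ = 1 := by
  have hle : ⁅Q, Subgroup.zpowers (c ^ j)⁆ ≤ μ.ker.map (rad Q c).subtype := by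
    refine Subgroup.commutator_le.2 fun x hx y hy => ?_
    obtain ⟨r, hr, d, hd, rfl⟩ := hL.exists_split hx
    have hyμ : y ∈ stab μ := Subgroup.zpowers_le.2 hμ hy
    have hdy : Commute d y := by
      obtain ⟨k, rfl⟩ := hy
      exact ((fixd_comm hd j).symm).zpow_right k
    have hconj : y * r⁻¹ * y⁻¹ ∈ rad Q c :=
      (inferInstance : (rad Q c).Normal).conj_mem _ (inv_mem hr) y
    refine ⟨⟨r, hr⟩ * ⟨_, hconj⟩, MonoidHom.mem_ker.2 ?_, ?_⟩
    · have h := DFunLike.congr_fun (mem_stab.1 hyμ) (⟨r, hr⟩⁻¹ : rad Q c)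
      rw [map_mul, show μ ⟨_, hconj⟩ = μ (⟨r, hr⟩⁻¹ : rad Q c) from h, ← map_mul, mul_inv_cancel,
        map_one]
    · show r * (y * r⁻¹ * y⁻¹) = ⁅r * d, y⁆
      rw [commutatorElement_def, show r * d * y * (r * d)⁻¹ * y⁻¹ = r * (d * y * d⁻¹) * r⁻¹ * y⁻¹ by
        group, hdy.eq, mul_inv_cancel_right]
      group
  refine MonoidHom.ext fun x => ?_
  obtain ⟨z, hz, hzx⟩ := hle (hL.rad_le_pow hj x.2)
  rw [show x = z from Subtype.ext hzx.symm]
  exact MonoidHom.mem_ker.1 hz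

/-- The fixed part centralises the moved part. -/
theorem fixd_comm_rad {d : G} (hd : d ∈ fixd Q c) {r : G} (hr : r ∈ rad Q c) : Commute d r := by
  haveI := hL.rad_normal
  set T := ⁅fixd Q c, rad Q c⁆ with hTdef
  have hTR : T ≤ rad Q c := Subgroup.commutator_le_right _ _
  have hTQ' : T ≤ ⁅Q, Q⁆ := Subgroup.commutator_mono inf_le_left rad_le
  haveI : T.Normal := by
    refine normal_of_stable hL.gen ?_ ?_
    · conv_lhs => rw [← hL.sup_eq]
      exact sup_le (Subgroup.normalizer_commutator_ge_right _ _) (Subgroup.normalizer_commutator_ge_left _ _)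
    · rw [Subgroup.mem_normalizer_iff]
      have key : ∀ a : G, (∀ z ∈ fixd Q c, a * z * a⁻¹ = z) →
          T ≤ T.comap (MulAut.conj a).toMonoidHom := fun a ha =>
        Subgroup.commutator_le.2 fun u hu y hy => by
          rw [Subgroup.mem_comap, map_commutatorElement]
          refine Subgroup.commutator_mem_commutator ?_
            ((inferInstance : (rad Q c).Normal).conj_mem y hy a)
          show a * u * a⁻¹ ∈ fixd Q c
          rw [ha u hu]
          exact hu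
      have hcz : ∀ z ∈ fixd Q c, Commute c z := fun z hz => pow_one c ▸ fixd_comm hz 1
      refine fun x => ⟨fun h => key c (fun z hz => by rw [(hcz z hz).eq, mul_inv_cancel_right]) h,
        fun h => ?_⟩
      have := key c⁻¹ (fun z hz => by rw [(hcz z hz).inv_left.eq, mul_inv_cancel_right]) h
      simpa [mul_assoc] using this
  by_contra hne
  have hT : T ≠ ⊥ := fun h => hne (commutatorElement_eq_one_iff_mul_comm.1
    (Subgroup.mem_bot.1 (h ▸ Subgroup.commutator_mem_commutator hd hr)))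
  set K := ⁅T, Q⁆ with hKdef
  have hKT : K < T := by
    refine lt_of_le_of_ne (Subgroup.commutator_le_left _ _) fun h => hT ?_
    obtain ⟨n, hn⟩ := (Subgroup.isNilpotent_iff_lowerCentralSeries Q).1 hL.nilpotent
    have hall : ∀ k, T ≤ Q.lowerCentralSeries k := fun k => by
      induction k with
      | zero => exact hTR.trans rad_le
      | succ k ih =>
        rw [← h]
        exact Subgroup.commutator_mono ih le_rfl
    exact le_bot_iff.1 (hn ▸ hall n)
  have hKTT : ⁅T, T⁆ ≤ K := Subgroup.commutator_mono le_rfl (hTR.trans rad_le)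
  obtain ⟨t, ht, htK⟩ := SetLike.exists_of_lt hKT
  haveI : (K.subgroupOf T).Normal := Subgroup.normal_subgroupOf
  obtain ⟨φ, hφK, hφt⟩ := sep_char T K hKTT ht htK
  have hinv : Q ≤ stab φ := fun g hg => mem_stab.2 (MonoidHom.ext fun x => by
    show φ (MulAut.conjNormal g x) = φ x
    rw [← div_eq_one, ← map_div]
    refine hφK _ ?_
    have h := inv_mem (Subgroup.commutator_mem_commutator x.2 hg : ⁅(x : G), g⁆ ∈ K)
    simpa [commutatorElement_def, div_eq_mul_inv, mul_assoc] using h)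
  obtain ⟨ψ, hψ⟩ := exists_over_sub Q T (hTR.trans rad_le) φ hinv
  have hψ1 : Cfsg.charDegree (ψ : Q → ℂ) ≠ 1 := fun h1 => hφt (by
    have h0 : (ψ : Q → ℂ) 1 = 1 := by rw [← CharTools.irr_degree_cast, h1, Nat.cast_one]
    obtain ⟨ν, hν⟩ := CharDeep.Lin.exists_hom_of_deg_one (Char.IsIrrCharacter.isCharacter ψ.2) h0
    have h := hψ ⟨t, ht⟩
    rw [h0, one_mul, hν, AbLayer.apply_eq_one_of_mem_derived _ (hTQ' ht) ν] at h
    exact Units.ext h.symm)
  obtain ⟨g, hg, hgQ⟩ := SetLike.not_le_iff_exists.1 (hL.frob.inertia_not_le ψ hψ1)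
  obtain ⟨i, hi⟩ := hL.gen g
  have hij : ¬ Q.index ∣ i := fun hdvd => hgQ (by
    rw [show g = c ^ i * ((c ^ i)⁻¹ * g) by group]
    exact mul_mem ((hL.pow_mem_iff i).2 hdvd) hi)
  have hgφ : g ∈ stab φ := mem_stab.2 (MonoidHom.ext fun x => Units.ext (by
    show (φ (MulAut.conjNormal g x) : ℂ) = φ x
    refine mul_left_cancel₀ (CharTools.irr_apply_one_ne_zero ψ) ?_
    rw [← hψ, ← hψ]
    exact (congrArg (ψ : Q → ℂ) (Subtype.ext (by rw [MulAut.conjNormal_apply]))).trans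
      (congrFun (CharTwist.mem_inertia.1 hg) ⟨x, (hTR.trans rad_le) x.2⟩)))
  have hciφ : c ^ i ∈ stab φ := by
    rw [show c ^ i = g * ((c ^ i)⁻¹ * g)⁻¹ by group]
    exact mul_mem hgφ (inv_mem (hinv hi))
  obtain ⟨_, ⟨⟨d', hd', r', hr', rfl⟩, hne'⟩⟩ :
      ∃ z, (∃ d ∈ fixd Q c, ∃ r ∈ rad Q c, ⁅d, r⁆ = z) ∧ ∀ hz : z ∈ T, φ ⟨z, hz⟩ ≠ 1 := by
    by_contra hcon
    push Not at hcon
    have hle : T ≤ φ.ker.map T.subtype := Subgroup.commutator_le.2 fun a ha b hb => by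
      obtain ⟨hz, he⟩ := hcon _ ⟨a, ha, b, hb, rfl⟩
      exact ⟨⟨_, hz⟩, MonoidHom.mem_ker.2 he, rfl⟩
    obtain ⟨z, hz, hzt⟩ := hle ht
    exact hφt (by rw [show (⟨t, ht⟩ : T) = z from Subtype.ext hzt.symm]; exact MonoidHom.mem_ker.1 hz)
  have hval : ∀ r : rad Q c, ⁅d', (r : G)⁆ ∈ T := fun r =>
    Subgroup.commutator_mem_commutator hd' r.2
  let μ : rad Q c →* ℂˣ := MonoidHom.mk' (fun r => φ ⟨_, hval r⟩) fun a b => by
    have hb : (a : G) * ⁅d', (b : G)⁆ * (a : G)⁻¹ ∈ T :=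
      (inferInstance : T.Normal).conj_mem _ (hval b) a
    rw [show φ ⟨_, hval b⟩ = φ ⟨_, hb⟩ from
      (DFunLike.congr_fun (mem_stab.1 (hinv (rad_le a.2))) ⟨_, hval b⟩).symm, ← map_mul]
    refine congrArg φ (Subtype.ext ?_)
    simp only [Subgroup.coe_mul, commutatorElement_def]
    group
  have hμ : c ^ i ∈ stab μ := mem_stab.2 (MonoidHom.ext fun r => by
    show φ ⟨_, hval _⟩ = φ ⟨_, hval r⟩
    rw [← DFunLike.congr_fun (mem_stab.1 hciφ) ⟨_, hval r⟩]
    refine congrArg φ (Subtype.ext ?_)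
    show ⁅d', ((MulAut.conjNormal (c ^ i) r : rad Q c) : G)⁆ = c ^ i * ⁅d', (r : G)⁆ * (c ^ i)⁻¹
    rw [conjugate_commutatorElement, MulAut.conjNormal_apply, (fixd_comm hd' i).eq,
      mul_inv_cancel_right])
  exact hne' (hval ⟨r', hr'⟩) (DFunLike.congr_fun (hL.hom_eq_one μ hij hμ) ⟨r', hr'⟩)

/-- The fixed points of the moved part lie in its derived subgroup. -/
theorem inf_le_derived : rad Q c ⊓ fixd Q c ≤ ⁅rad Q c, rad Q c⁆ := by
  haveI := hL.rad_normal
  rintro x ⟨hx, hxd⟩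
  refine AbLayer.mem_derived_of_forall hx fun ν => ?_
  haveI : Finite (rad Q c →* ℂˣ) := by infer_instance
  let T : (rad Q c →* ℂˣ) →* (rad Q c →* ℂˣ) :=
    MonoidHom.mk' (fun v => cj c v) fun a b => cj_hom_mul c a b
  obtain ⟨μ, hμ⟩ := surjective_div T (fun v hv => hL.hom_eq_one v hL.one_not_dvd
    (by rw [pow_one]; exact mem_stab.2 hv)) ν
  rw [← hμ]
  show μ (MulAut.conjNormal c (⟨x, hx⟩ : rad Q c)) / μ ⟨x, hx⟩ = 1
  rw [div_eq_one]
  refine congrArg μ (Subtype.ext ?_)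
  rw [MulAut.conjNormal_apply]
  have h := fixd_comm hxd 1
  rw [pow_one] at h
  rw [h.eq, mul_inv_cancel_right]

theorem derived_eq : ⁅Q, Q⁆ = ⁅rad Q c, rad Q c⁆ := by
  refine le_antisymm (Subgroup.commutator_le.2 fun a ha b hb => ?_)
    (Subgroup.commutator_mono rad_le rad_le)
  obtain ⟨r, hr, d, hd, rfl⟩ := hL.exists_split ha
  obtain ⟨r', hr', d', hd', rfl⟩ := hL.exists_split hb
  have e : ⁅r * d, r' * d'⁆ = ⁅r, r'⁆ * ⁅d, d'⁆ := by
    have h1 := hL.fixd_comm_rad hd hr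
    have h2 := hL.fixd_comm_rad hd hr'
    have h3 := hL.fixd_comm_rad hd' hr
    have h4 := hL.fixd_comm_rad hd' hr'
    calc ⁅r * d, r' * d'⁆ = r * (d * r') * d' * d⁻¹ * r⁻¹ * d'⁻¹ * r'⁻¹ := by
          rw [commutatorElement_def]; group
      _ = r * r' * (d * d' * d⁻¹ * r⁻¹) * d'⁻¹ * r'⁻¹ := by rw [h2.eq]; group
      _ = r * r' * (r⁻¹ * (d * d' * d⁻¹)) * d'⁻¹ * r'⁻¹ := by
          rw [(((h1.mul_left h3).mul_left h1.inv_left).inv_right).eq]
      _ = r * r' * r⁻¹ * ((d * d' * d⁻¹ * d'⁻¹) * r'⁻¹) := by group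
      _ = r * r' * r⁻¹ * (r'⁻¹ * (d * d' * d⁻¹ * d'⁻¹)) := by
          rw [((((h2.mul_left h4).mul_left h2.inv_left).mul_left h4.inv_left).inv_right).eq]
      _ = ⁅r, r'⁆ * ⁅d, d'⁆ := by rw [commutatorElement_def, commutatorElement_def]; group
  rw [e]
  refine mul_mem (Subgroup.commutator_mem_commutator hr hr') (hL.inf_le_derived ⟨?_, ?_⟩)
  · exact hL.derived_le_rad (Subgroup.commutator_mem_commutator hd.1 hd'.1)
  · show _ ∈ fixd Q c
    rw [commutatorElement_def]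
    exact mul_mem (mul_mem (mul_mem hd hd') (inv_mem hd)) (inv_mem hd')

/-- The core meets the moved part in its derived subgroup. -/
theorem mem_derived_of_core {x : G} (hx : x ∈ rad Q c) (h : x ∈ ⁅Q, Q⁆ ⊔ fixd Q c) :
    x ∈ ⁅rad Q c, rad Q c⁆ := by
  haveI : (⁅Q, Q⁆).Normal := inferInstance
  obtain ⟨a, ha, d, hd, rfl⟩ := Subgroup.mem_sup_of_normal_left.1 h
  have hd' : d ∈ rad Q c := by
    simpa using mul_mem (inv_mem (hL.derived_le_rad ha)) hx
  exact mul_mem (hL.derived_eq ▸ ha) (hL.inf_le_derived ⟨hd', hd⟩)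

omit hL in
theorem mem_commutator_rad_iff {x : rad Q c} :
    x ∈ commutator (rad Q c) ↔ (x : G) ∈ ⁅rad Q c, rad Q c⁆ := by
  rw [← Subgroup.map_subtype_commutator]
  exact (Subgroup.mem_map_iff_mem (rad Q c).subtype_injective).symm

theorem rad_derived_ne : ⁅rad Q c, rad Q c⁆ ≠ ⊥ := fun h => hL.nonab (hL.derived_eq.trans h)

/-- **The moved part is a Camina group with an automorphism.** -/
theorem cam [(rad Q c).Normal] :
    Cam q (MulAut.conjNormal (H := rad Q c) c) Q.index := by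
  haveI := Fintype.ofFinite Q
  have hσ : ∀ (m : ℕ) (x : rad Q c),
      (((MulAut.conjNormal (H := rad Q c) c) ^ m) x : G) = c ^ m * x * (c ^ m)⁻¹ := fun m x => by
    rw [← map_pow, MulAut.conjNormal_apply]
  have hover : ∀ θ : Cfsg.IrrCharacter (rad Q c), Cfsg.charDegree (θ : rad Q c → ℂ) ≠ 1 →
      ∃ (ψ : Cfsg.IrrCharacter Q) (e : ℂ), e ≠ 0 ∧ Cfsg.charDegree (ψ : Q → ℂ) ≠ 1 ∧
        ∀ x : rad Q c, (ψ : Q → ℂ) ⟨x, rad_le x.2⟩ = e * (θ : rad Q c → ℂ) x := by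
    intro θ hθ
    haveI : ((rad Q c).subgroupOf Q).Normal := Subgroup.normal_subgroupOf
    haveI := Fintype.ofFinite ((rad Q c).subgroupOf Q)
    let E := Subgroup.subgroupOfEquivOfLe (rad_le (Q := Q) (c := c))
    have hirr := CharTwist.isIrrCharacter_comp_equiv θ.2 E
    obtain ⟨ψ, hψ⟩ := Blk83.exists_over ((rad Q c).subgroupOf Q) ⟨_, hirr⟩
    refine ⟨ψ, _, hψ, fun h1 => hθ ?_, fun x => ?_⟩
    · have h := degree_dvd_of_constituent ((rad Q c).subgroupOf Q) ψ ⟨_, hirr⟩ hψ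
      rw [h1, Nat.dvd_one] at h
      simpa [Cfsg.charDegree] using h
    · have hres := Char.restrict_eq_smul_sum_conj ((rad Q c).subgroupOf Q) (ψ : Q → ℂ) ψ.2 _ hirr hψ
      have hconj : {η : (rad Q c).subgroupOf Q → ℂ | ∃ g : Q,
          η = CharTwist.conjFun ((rad Q c).subgroupOf Q) ((θ : rad Q c → ℂ) ∘ E) g} =
          {(θ : rad Q c → ℂ) ∘ E} := by
        refine Set.eq_singleton_iff_unique_mem.2 ⟨⟨1, (CharTwist.conjFun_one _ _).symm⟩, ?_⟩
        rintro _ ⟨g, rfl⟩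
        funext m
        obtain ⟨r, hr, d, hd, hg⟩ := hL.exists_split g.2
        have hm : ((m : Q) : G) ∈ rad Q c := m.2
        show (θ : rad Q c → ℂ) _ = (θ : rad Q c → ℂ) _
        rw [← Char.IsIrrCharacter.isClassFunction θ.2 (E m) ⟨r, hr⟩]
        refine congrArg (θ : rad Q c → ℂ) (Subtype.ext ?_)
        show (g : G) * ((m : Q) : G) * (g : G)⁻¹ = r * ((m : Q) : G) * r⁻¹
        rw [← hg, show r * d * ((m : Q) : G) * (r * d)⁻¹ = r * (d * ((m : Q) : G) * d⁻¹) * r⁻¹ by group,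
          (hL.fixd_comm_rad hd hm).eq, mul_inv_cancel_right]
      rw [hconj, finsum_mem_singleton] at hres
      exact congrFun hres ⟨⟨x, rad_le x.2⟩, x.2⟩
  refine ⟨hL.frob.prime, hL.pgroup.to_le rad_le, fun h => hL.rad_derived_ne ?_, ?_,
    hL.frob.not_dvd, fun m hm x hx => ?_, fun θ hθ x hx => ?_, fun θ hθ => ?_⟩
  · rw [← Subgroup.map_subtype_commutator, h, Subgroup.map_bot]
  · rw [← map_pow, hL.pow, map_one]
  · rw [mem_commutator_rad_iff] at hx ⊢
    refine hL.mem_derived_of_core x.2 (hL.mem_core_of_fixed (rad_le x.2) hm ?_)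
    rw [Subgroup.coe_mul, Subgroup.coe_inv, hσ, ← hL.derived_eq] at hx
    refine Subgroup.mem_sup_left ?_
    rw [commutatorElement_def]
    exact hx
  · obtain ⟨ψ, e, he, hψ1, hψ⟩ := hover θ hθ
    have h0 : (ψ : Q → ℂ) ⟨x, rad_le x.2⟩ = 0 := hL.vanish ψ hψ1 fun h =>
      hx (mem_commutator_rad_iff.2 (hL.mem_derived_of_core x.2 h))
    rw [hψ] at h0
    exact (mul_eq_zero.1 h0).resolve_left he
  · obtain ⟨ψ, e, he, hψ1, hψ⟩ := hover θ hθ
    obtain ⟨g, hg, hgQ⟩ := SetLike.not_le_iff_exists.1 (hL.frob.inertia_not_le ψ hψ1)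
    obtain ⟨i, hi⟩ := hL.gen g
    refine ⟨i, fun hdvd => hgQ ?_, fun x => mul_left_cancel₀ he ?_⟩
    · rw [show g = c ^ i * ((c ^ i)⁻¹ * g) by group]
      exact mul_mem ((hL.pow_mem_iff i).2 hdvd) hi
    · have hci : c ^ i ∈ CharTwist.inertia Q (ψ : Q → ℂ) := by
        rw [show c ^ i = g * ((c ^ i)⁻¹ * g)⁻¹ by group]
        exact mul_mem hg
          (inv_mem (CharTwist.le_inertia Q (Char.IsIrrCharacter.isClassFunction ψ.2) hi))
      rw [← hψ, ← hψ]
      exact (congrArg (ψ : Q → ℂ) (Subtype.ext (hσ i x))).trans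
        (congrFun (CharTwist.mem_inertia.1 hci) ⟨x, rad_le x.2⟩)

end Lvl

end CfsgLib.NoDiv
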