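import Cfsg.Agent.Lib.NoDiv.LevelChar
import Cfsg.Agent.Lib.NoDiv.PType

/-!
# The level: all characters invariant, or two moved layers
-/

set_option autoImplicit false

open scoped Classical commutatorElement
open CfsgLib CfsgLib.DegGraph

namespace CfsgLib.NoDiv

universe u

variable {G : Type u} [Group G] [Finite G]

/-- The second term of the moved part. -/
abbrev r2 (Q : Subgroup G) (c : G) : Subgroup G := ⁅rad Q c, rad Q c⁆

/-- The third term of the moved part. -/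
abbrev r3 (Q : Subgroup G) (c : G) : Subgroup G := ⁅r2 Q c, rad Q c⁆

/-- All nonlinear characters of the level are invariant, of one degree. -/
def LevelInv (Q : Subgroup G) [Q.Normal] : Prop :=
  ∃ D, D ≠ 1 ∧ (∃ ψ : Cfsg.IrrCharacter Q, Cfsg.charDegree (ψ : Q → ℂ) = D) ∧
    ∀ ψ : Cfsg.IrrCharacter Q, Cfsg.charDegree (ψ : Q → ℂ) ≠ 1 →
      CharTwist.inertia Q (ψ : Q → ℂ) = ⊤ ∧ Cfsg.charDegree (ψ : Q → ℂ) = D

/-- The moved layers. -/
structure LevelMoved (Q : Subgroup G) [Q.Normal] (q : ℕ) (c : G) : Prop where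
  degrees : ∃ D2 D3, ∀ ψ : Cfsg.IrrCharacter Q, Cfsg.charDegree (ψ : Q → ℂ) ≠ 1 →
    (CharTwist.inertia Q (ψ : Q → ℂ)).index * Cfsg.charDegree (ψ : Q → ℂ) = D2 ∨
    (CharTwist.inertia Q (ψ : Q → ℂ)).index * Cfsg.charDegree (ψ : Q → ℂ) = D3
  bound : ∀ B : Subgroup G, B ≤ Q → ∀ (x : G) (j : ℕ), x ∈ Q → ¬ Q.index ∣ j →
    (∀ b ∈ B, Commute (x * c ^ j) b) →
    B ≤ fixd Q c ∨ ∃ (χ : Cfsg.IrrCharacter G) (j' d : ℕ), j' ∣ j ∧ j' ∣ Q.index ∧
      Cfsg.charDegree (χ : G → ℂ) = j' * d ∧ 1 < d ∧ d * d ∣ B.relIndex Q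
  central : ∀ d ∈ fixd Q c, ∀ g : G, Commute d g
  disj : rad Q c ⊓ fixd Q c = ⊥
  pair : ∃ u ∈ rad Q c, ∃ z ∈ rad Q c,
    u ^ q = 1 ∧ z ^ q = 1 ∧ u ≠ 1 ∧ Commute u z ∧ z ∉ Subgroup.zpowers u

omit [Finite G] in
theorem map_g3_subtype (R : Subgroup G) : (g3 R).map R.subtype = ⁅⁅R, R⁆, R⁆ := by
  rw [g3, Subgroup.map_commutator, Subgroup.map_subtype_commutator, ← MonoidHom.range_eq_map,
    Subgroup.range_subtype]

omit [Finite G] in
theorem map_g4_subtype (R : Subgroup G) : (g4 R).map R.subtype = ⁅⁅⁅R, R⁆, R⁆, R⁆ := by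
  rw [g4, Subgroup.map_commutator, map_g3_subtype, ← MonoidHom.range_eq_map, Subgroup.range_subtype]

omit [Finite G] in
theorem mem_g3_iff {R : Subgroup G} {x : R} : x ∈ g3 R ↔ (x : G) ∈ ⁅⁅R, R⁆, R⁆ := by
  rw [← map_g3_subtype]
  exact (Subgroup.mem_map_iff_mem R.subtype_injective).symm

omit [Finite G] in
/-- Class two and odd exponent: powers are multiplicative. -/
theorem pow_mul_of_central {P : Type u} [Group P] (a b : P) (h : ∀ g : P, Commute ⁅b, a⁆ g)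
    (n : ℕ) : (a * b) ^ n = a ^ n * b ^ n * ⁅b, a⁆ ^ n.choose 2 := by
  set w := ⁅b, a⁆ with hw
  have hba : ∀ k : ℕ, b ^ k * a = a * b ^ k * w ^ k := by
    intro k
    induction k with
    | zero => simp
    | succ k ih =>
      rw [pow_succ, mul_assoc, show b * a = w * (a * b) by rw [hw, commutatorElement_def]; group,
        ← mul_assoc, ← (h (b ^ k)).eq, mul_assoc w, ← mul_assoc (b ^ k), ih, ← mul_assoc w,
        (h (a * b ^ k * w ^ k)).eq, mul_assoc (a * b ^ k * w ^ k) w b, (h b).eq,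
        ← mul_assoc (a * b ^ k * w ^ k), mul_assoc (a * b ^ k) (w ^ k) b,
        ((h b).pow_left k).eq, ← mul_assoc, mul_assoc a, ← pow_succ, mul_assoc (a * b ^ (k + 1)),
        ← pow_succ w]
  induction n with
  | zero => simp
  | succ n ih =>
    calc (a * b) ^ (n + 1) = a ^ n * b ^ n * (w ^ n.choose 2 * (a * b)) := by
          rw [pow_succ, ih, mul_assoc]
      _ = a ^ n * (b ^ n * a) * (b * w ^ n.choose 2) := by
          rw [((h (a * b)).pow_left _).eq]; simp only [mul_assoc]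
      _ = a ^ n * a * b ^ n * (w ^ n * b) * w ^ n.choose 2 := by
          rw [hba]; simp only [mul_assoc]
      _ = a ^ n * a * (b ^ n * b) * (w ^ n * w ^ n.choose 2) := by
          rw [((h b).pow_left n).eq]; simp only [mul_assoc]
      _ = a ^ (n + 1) * b ^ (n + 1) * w ^ (n + 1).choose 2 := by
          rw [← pow_succ, ← pow_succ, ← pow_add, Nat.choose_succ_succ', Nat.choose_one_right]

namespace Lvl

variable {Q : Subgroup G} [Q.Normal] {q : ℕ} {c : G} (hL : Lvl Q q c)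
include hL

theorem core_eq : ⁅Q, Q⁆ ⊔ fixd Q c = r2 Q c ⊔ fixd Q c := by rw [hL.derived_eq]

theorem comm_fixd_rad {T : Subgroup G} [T.Normal] {K : Subgroup G} [K.Normal] (hT : T ≤ rad Q c)
    (h : ⁅T, rad Q c⁆ ≤ K) : ⁅T, Q⁆ ≤ K := by
  haveI := hL.rad_normal
  refine Subgroup.commutator_le.2 fun t ht g hg => ?_
  obtain ⟨r, hr, d, hd, rfl⟩ := hL.exists_split hg
  rw [show ⁅t, r * d⁆ = ⁅t, r⁆ * (r * ⁅t, d⁆ * r⁻¹) by
      rw [commutatorElement_def, commutatorElement_def, commutatorElement_def]; group,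
    commutatorElement_eq_one_iff_mul_comm.2 (hL.fixd_comm_rad hd (hT ht)).symm.eq, mul_one,
    mul_inv_cancel, mul_one]
  exact h (Subgroup.commutator_mem_commutator ht hr)

theorem comm_layer {T : Subgroup G} [T.Normal] {K : Subgroup G} [K.Normal] (hT : ⁅T, Q⁆ ≤ K)
    (hD : rad Q c ⊓ fixd Q c ≤ K) : ⁅T ⊔ fixd Q c, Q⁆ ≤ K := by
  haveI := hL.fixd_normal
  refine Subgroup.commutator_le.2 fun e he g hg => ?_
  obtain ⟨t, ht, d, hd, rfl⟩ := Subgroup.mem_sup_of_normal_left.1 he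
  rw [show ⁅t * d, g⁆ = t * ⁅d, g⁆ * t⁻¹ * ⁅t, g⁆ by
    rw [commutatorElement_def, commutatorElement_def, commutatorElement_def]; group]
  refine mul_mem ((inferInstance : K.Normal).conj_mem _ (hD ⟨?_, ?_⟩) t)
    (hT (Subgroup.commutator_mem_commutator ht hg))
  · exact hL.derived_le_rad (Subgroup.commutator_mem_commutator hd.1 hg)
  · show _ ∈ fixd Q c
    rw [commutatorElement_def, show d * g * d⁻¹ * g⁻¹ = d * (g * d⁻¹ * g⁻¹) by group]
    exact mul_mem hd ((inferInstance : (fixd Q c).Normal).conj_mem _ (inv_mem hd) g)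

/-- A nonlinear character is nontrivial on the derived subgroup. -/
theorem exists_ne_on_derived (ψ : Cfsg.IrrCharacter Q) (h1 : Cfsg.charDegree (ψ : Q → ℂ) ≠ 1) :
    ∃ x : Q, (x : G) ∈ r2 Q c ∧ (ψ : Q → ℂ) x ≠ (ψ : Q → ℂ) 1 := by
  by_contra hcon
  push Not at hcon
  obtain ⟨μ, hμ⟩ := exists_scalar_hom ψ (⊤ : Subgroup Q) fun t _ g => hcon _ (by
    rw [show ((⁅t, g⁆ : Q) : G) = ⁅(t : G), (g : G)⁆ from map_commutatorElement Q.subtype t g]
    show ⁅(t : G), (g : G)⁆ ∈ ⁅rad Q c, rad Q c⁆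
    rw [← hL.derived_eq]
    exact Subgroup.commutator_mem_commutator t.2 g.2)
  have h := sq_degree_of_vanish ψ ⊤ (fun x hx => absurd (Subgroup.mem_top x) hx) μ fun x => by
    have h := hμ x 1
    rw [mul_one] at h
    rw [h, mul_comm]
  rw [Subgroup.index_top] at h
  exact h1 (Nat.eq_one_of_mul_eq_one_left h)

theorem exists_nonlinear : ∃ ψ : Cfsg.IrrCharacter Q, Cfsg.charDegree (ψ : Q → ℂ) ≠ 1 := by
  by_contra hcon
  push Not at hcon
  refine hL.nonab (Subgroup.commutator_eq_bot_iff_le_centralizer.2 fun a ha =>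
    Subgroup.mem_centralizer_iff.2 fun b hb => ?_)
  exact congrArg Subtype.val (TwoDeg.comm_of_degree_one hcon ⟨b, hb⟩ ⟨a, ha⟩)

/-- A nonlinear character restricted to a central layer. -/
theorem exists_restriction {T K : Subgroup G} (hTQ : T ≤ Q) (hcT : ⁅T, Q⁆ ≤ K)
    {ψ : Cfsg.IrrCharacter Q}
    (hψK : ∀ x : Q, (x : G) ∈ K → (ψ : Q → ℂ) x = (ψ : Q → ℂ) 1)
    (hne : ∃ x : Q, (x : G) ∈ T ∧ (ψ : Q → ℂ) x ≠ (ψ : Q → ℂ) 1) :
    ∃ φ : T →* ℂˣ, φ ∈ annChars T K ∧ φ ≠ 1 ∧ ∀ t (ht : t ∈ T) (htQ : t ∈ Q),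
      (ψ : Q → ℂ) ⟨t, htQ⟩ = (ψ : Q → ℂ) 1 * (φ ⟨t, ht⟩ : ℂ) := by
  obtain ⟨μ, hμ⟩ := exists_scalar_hom ψ (T.subgroupOf Q) fun t ht g => kills_comm hcT hψK ht g
  let φ : T →* ℂˣ := μ.comp (Subgroup.subgroupOfEquivOfLe hTQ).symm.toMonoidHom
  have hφ : ∀ t (ht : t ∈ T) (htQ : t ∈ Q),
      (ψ : Q → ℂ) ⟨t, htQ⟩ = (ψ : Q → ℂ) 1 * (φ ⟨t, ht⟩ : ℂ) := fun t ht htQ => by
    have h := hμ ⟨⟨t, htQ⟩, ht⟩ 1
    rw [mul_one] at h
    rw [h, mul_comm]
    rfl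
  refine ⟨φ, fun x hx => Units.ext (mul_left_cancel₀ (CharTools.irr_apply_one_ne_zero ψ) ?_),
    fun h1 => ?_, hφ⟩
  · rw [← hφ _ x.2 (hTQ x.2), Units.val_one, mul_one]
    exact hψK _ hx
  · obtain ⟨x, hx, hne⟩ := hne
    refine hne ?_
    rw [show x = ⟨x, x.2⟩ from rfl, hφ _ hx, h1, MonoidHom.one_apply, Units.val_one, mul_one]

/-- The element version of the action on the moved part. -/
theorem h2_of [(rad Q c).Normal] {m : ℕ} (h : ∀ x ∈ r2 Q c, ⁅c ^ m, x⁆ ∈ r3 Q c) :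
    ∀ x ∈ commutator (rad Q c),
      ((MulAut.conjNormal (H := rad Q c) c) ^ m) x * x⁻¹ ∈ g3 (rad Q c) := fun x hx => by
  rw [mem_g3_iff, Subgroup.coe_mul, Subgroup.coe_inv, ← map_pow, MulAut.conjNormal_apply,
    ← commutatorElement_def]
  exact h x (mem_commutator_rad_iff.1 hx)

theorem r4_eq_bot [(rad Q c).Normal] {m : ℕ} (hm : ¬ Q.index ∣ m)
    (h : ∀ x ∈ r2 Q c, ⁅c ^ m, x⁆ ∈ r3 Q c) : ⁅r3 Q c, rad Q c⁆ = ⊥ := by
  rw [← map_g4_subtype, hL.cam.g4_eq_bot hm (hL.h2_of h), Subgroup.map_bot]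

/-- Everything fixed: one degree, all invariant. -/
theorem levelInv [(rad Q c).Normal] (hfix : ∀ x ∈ r2 Q c, ⁅c, x⁆ ∈ r3 Q c) :
    ⁅⁅Q, Q⁆, ⁅Q, Q⁆⁆ = ⊥ ∧ LevelInv Q := by
  haveI := hL.fixd_normal
  have hm1 : ¬ Q.index ∣ 1 := hL.one_not_dvd
  have hpow : ∀ m : ℕ, ∀ x ∈ r2 Q c, ⁅c ^ m, x⁆ ∈ r3 Q c := by
    intro m
    induction m with
    | zero => intro x _; rw [pow_zero, commutatorElement_one_left]; exact one_mem _
    | succ m ih =>
      intro x hx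
      rw [pow_succ, show ⁅c ^ m * c, x⁆ = c ^ m * ⁅c, x⁆ * (c ^ m)⁻¹ * ⁅c ^ m, x⁆ by
        rw [commutatorElement_def, commutatorElement_def, commutatorElement_def]; group]
      exact mul_mem ((inferInstance : (r3 Q c).Normal).conj_mem _ (hfix x hx) _) (ih x hx)
  have h4 := hL.r4_eq_bot hm1 (hpow 1)
  -- the third term is trivial
  have h3 : r3 Q c = ⊥ := by
    by_contra hne
    obtain ⟨⟨z, hz⟩, hz1'⟩ := (Subgroup.ne_bot_iff_exists_ne_one).1 hne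
    have hz1 : z ≠ 1 := fun h => hz1' (Subtype.ext h)
    have hcT : ⁅r3 Q c, Q⁆ ≤ ⊥ := hL.comm_fixd_rad (Subgroup.commutator_le_right _ _) h4.le
    have habel : ⁅r3 Q c, r3 Q c⁆ ≤ ⊥ :=
      (Subgroup.commutator_mono le_rfl ((Subgroup.commutator_le_right _ _).trans rad_le)).trans hcT
    obtain ⟨φ, hφK, hφz⟩ := sep_char (r3 Q c) ⊥ habel hz (fun h => hz1 (Subgroup.mem_bot.1 h))
    have hφ1 : φ ≠ 1 := fun h => hφz (by rw [h, MonoidHom.one_apply])
    obtain ⟨ψ, hψ1, -, hψT⟩ := hL.exists_layer_char bot_le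
      ((Subgroup.commutator_mono (Subgroup.commutator_le_left _ _) le_rfl).trans
        (Subgroup.commutator_mono rad_le rad_le)) hcT hφK hφ1
    obtain ⟨g, hg, hgQ⟩ := SetLike.not_le_iff_exists.1 (hL.frob.inertia_not_le ψ hψ1)
    obtain ⟨i, hi⟩ := hL.gen g
    have hij : ¬ Q.index ∣ i := fun hdvd => hgQ (by
      rw [show g = c ^ i * ((c ^ i)⁻¹ * g) by group]
      exact mul_mem ((hL.pow_mem_iff i).2 hdvd) hi)
    have hci : c ^ i ∈ CharTwist.inertia Q (ψ : Q → ℂ) := by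
      rw [show c ^ i = g * ((c ^ i)⁻¹ * g)⁻¹ by group]
      exact mul_mem hg (inv_mem (CharTwist.le_inertia Q (Char.IsIrrCharacter.isClassFunction ψ.2) hi))
    -- the character of the third layer
    let e : ↥(g3 (rad Q c)) →* ↥(r3 Q c) :=
      ((rad Q c).subtype.comp (g3 (rad Q c)).subtype).codRestrict (r3 Q c) fun x => mem_g3_iff.1 x.2
    let χ : L3 (rad Q c) →* ℂˣ := QuotientGroup.lift _ (φ.comp e) fun x hx => by
      have h5 : ((x : rad Q c) : G) ∈ (⊥ : Subgroup G) :=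
        h4 ▸ (map_g4_subtype (rad Q c) ▸ Subgroup.mem_map_of_mem _ hx)
      exact MonoidHom.mem_ker.2 (hφK (e x) h5)
    have hχ1 : χ = 1 := hL.cam.not_fixed hij (hL.h2_of (hpow i)) χ fun x => by
      show φ (e _) = φ (e x)
      refine Units.ext (mul_left_cancel₀ (CharTools.irr_apply_one_ne_zero ψ) ?_)
      rw [← hψT _ (e _).2 (rad_le ((Subgroup.commutator_le_right _ _) (e _).2)),
        ← hψT _ (e x).2 (rad_le ((Subgroup.commutator_le_right _ _) (e x).2))]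
      refine Eq.trans (congrArg (ψ : Q → ℂ) (Subtype.ext ?_))
        (congrFun (CharTwist.mem_inertia.1 hci) _)
      show (((MulAut.conjNormal (H := rad Q c) c ^ i) (x : rad Q c) : rad Q c) : G) = _
      rw [← map_pow, MulAut.conjNormal_apply]
      rfl
    refine hφz ?_
    have hzr : z ∈ rad Q c := Subgroup.commutator_le_right _ _ hz
    have h5 := DFunLike.congr_fun hχ1 (cl3 ⟨⟨z, hzr⟩, mem_g3_iff.2 hz⟩)
    exact h5
  have hle : r2 Q c ≤ fixd Q c := fun x hx => by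
    have hxR : x ∈ rad Q c := Subgroup.commutator_le_left _ _ hx
    refine ⟨rad_le hxR, Subgroup.mem_centralizer_iff.2 fun y hy => ?_⟩
    have h := hfix x hx
    rw [h3, Subgroup.mem_bot, commutatorElement_eq_one_iff_mul_comm] at h
    obtain ⟨k, rfl⟩ := hy
    exact (show Commute c x from h).zpow_left k
  refine ⟨?_, ?_⟩
  · rw [hL.derived_eq, Subgroup.commutator_eq_bot_iff_le_centralizer]
    exact fun a ha => Subgroup.mem_centralizer_iff.2 fun b hb =>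
      (hL.fixd_comm_rad (hle hb) (Subgroup.commutator_le_left _ _ ha)).eq
  -- invariance
  have hin : ∀ ψ : Cfsg.IrrCharacter Q, Cfsg.charDegree (ψ : Q → ℂ) ≠ 1 →
      CharTwist.inertia Q (ψ : Q → ℂ) = ⊤ := by
    intro ψ h1
    rw [Subgroup.eq_top_iff']
    intro g
    obtain ⟨k, hk⟩ := hL.gen g
    rw [show g = c ^ k * ((c ^ k)⁻¹ * g) by group]
    refine mul_mem (CharTwist.mem_inertia.2 (funext fun n => ?_))
      (CharTwist.le_inertia Q (Char.IsIrrCharacter.isClassFunction ψ.2) hk)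
    show (ψ : Q → ℂ) _ = (ψ : Q → ℂ) n
    by_cases hn : (n : G) ∈ fixd Q c
    · refine congrArg (ψ : Q → ℂ) (Subtype.ext ?_)
      show c ^ k * n * (c ^ k)⁻¹ = n
      rw [(fixd_comm hn k).eq, mul_inv_cancel_right]
    · have hv := fun x hx => hL.vanish ψ h1 (x := x) (by
        rw [hL.core_eq, sup_eq_right.2 hle]; exact hx)
      rw [hv n hn, hv _ fun h => hn ?_]
      have h2 := (inferInstance : (fixd Q c).Normal).conj_mem _ h (c ^ k)⁻¹
      simpa [mul_assoc] using h2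
  obtain ⟨ψ₀, hψ₀⟩ := hL.exists_nonlinear
  refine ⟨_, hψ₀, ⟨ψ₀, rfl⟩, fun ψ h1 => ⟨hin ψ h1, ?_⟩⟩
  obtain ⟨χ, hχ⟩ := hL.exists_degree ψ
  obtain ⟨χ₀, hχ₀⟩ := hL.exists_degree ψ₀
  rw [hin ψ h1, Subgroup.index_top, one_mul] at hχ
  rw [hin ψ₀ hψ₀, Subgroup.index_top, one_mul] at hχ₀
  haveI : Fact q.Prime := ⟨hL.frob.prime⟩
  obtain ⟨e, he⟩ := IsPGroup.iff_card.1 hL.pgroup
  obtain ⟨a, -, ha⟩ := (Nat.dvd_prime_pow hL.frob.prime).1 (he ▸ CharTools.degree_dvd_card ψ)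
  obtain ⟨b, -, hb⟩ := (Nat.dvd_prime_pow hL.frob.prime).1 (he ▸ CharTools.degree_dvd_card ψ₀)
  rw [← hχ, ← hχ₀]
  exact eq_of_pow hL.frob.hnd (hχ ▸ h1) (hχ₀ ▸ hψ₀) (hχ.trans ha) (hχ₀.trans hb)

/-- Nothing fixed: two layers. -/
theorem levelMoved [(rad Q c).Normal]
    (hfpf : ∀ x ∈ r2 Q c, ⁅c, x⁆ ∈ r3 Q c → x ∈ r3 Q c) :
    ⁅⁅Q, Q⁆, ⁅Q, Q⁆⁆ = ⊥ ∧ LevelMoved Q q c := by
  haveI := hL.fixd_normal
  haveI : Fact q.Prime := ⟨hL.frob.prime⟩
  have hC := hL.cam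
  set R := rad Q c with hRdef
  have hr2R : r2 Q c ≤ R := Subgroup.commutator_le_left _ _
  have hr32 : r3 Q c ≤ r2 Q c := Subgroup.commutator_le_left _ _
  have hr2Q : r2 Q c ≤ ⁅Q, Q⁆ := Subgroup.commutator_mono rad_le rad_le
  have hinf : R ⊓ fixd Q c ≤ r3 Q c := fun x hx => by
    refine hfpf x (hL.inf_le_derived hx) ?_
    have h := fixd_comm hx.2 1
    rw [pow_one] at h
    rw [commutatorElement_eq_one_iff_mul_comm.2 h.eq]
    exact one_mem _
  have hcT2 : ⁅r2 Q c, Q⁆ ≤ r3 Q c := hL.comm_fixd_rad hr2R le_rfl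
  have hlay2 : Layered Q c (r2 Q c) (r3 Q c) :=
    ⟨hr32, hr2Q, hL.comm_layer hcT2 hinf, fun ψ φ _ _ h1 _ _ x hx =>
      hL.vanish ψ h1 (by rw [hL.core_eq]; exact hx)⟩
  have hr22 : ⁅r2 Q c, r2 Q c⁆ ≤ r3 Q c := Subgroup.commutator_mono le_rfl hr2R
  -- a character of the first layer
  have hne32 : ¬ r2 Q c ≤ r3 Q c := fun hle => hC.g3_ne (le_antisymm g3_le fun x hx =>
    mem_g3_iff.2 (hle (mem_commutator_rad_iff.1 hx)))
  obtain ⟨u₀, hu₀, hu₀3⟩ := SetLike.not_le_iff_exists.1 hne32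
  haveI : ((r3 Q c).subgroupOf (r2 Q c)).Normal := Subgroup.normal_subgroupOf
  obtain ⟨φ₂, hφ₂K, hφ₂u⟩ := sep_char (r2 Q c) (r3 Q c) hr22 hu₀ hu₀3
  have hφ₂1 : φ₂ ≠ 1 := fun h => hφ₂u (by rw [h, MonoidHom.one_apply])
  obtain ⟨χ₂, d₂, hd₂, hsq₂, hχ₂, hns₂⟩ := hL.layer_facts hlay2 hφ₂K hφ₂1
  -- a power acting trivially on the first layer
  obtain ⟨g, hg, hgQ⟩ := SetLike.not_le_iff_exists.1 hns₂
  obtain ⟨m, hm0⟩ := hL.gen g
  have hm : ¬ Q.index ∣ m := fun hdvd => hgQ (by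
    rw [show g = c ^ m * ((c ^ m)⁻¹ * g) by group]
    exact mul_mem ((hL.pow_mem_iff m).2 hdvd) hm0)
  have hcm : c ^ m ∈ stab φ₂ := by
    rw [show c ^ m = g * ((c ^ m)⁻¹ * g)⁻¹ by group]
    exact mul_mem hg (inv_mem (le_stab_of_kills hcT2 hφ₂K hm0))
  have hm2 : ∀ x ∈ r2 Q c, ⁅c ^ m, x⁆ ∈ r3 Q c := by
    intro x hx
    by_contra hn
    have hcx : ⁅c ^ m, x⁆ ∈ r2 Q c := by
      rw [commutatorElement_def]
      exact mul_mem ((inferInstance : (r2 Q c).Normal).conj_mem x hx _) (inv_mem hx)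
    obtain ⟨φ, hφK, hφx⟩ := sep_char (r2 Q c) (r3 Q c) hr22 hcx hn
    have hφ1 : φ ≠ 1 := fun h => hφx (by rw [h, MonoidHom.one_apply])
    have hst : c ^ m ∈ stab φ := hL.layer_stab hlay2 hφ₂K hφ₂1 hφK hφ1 ▸ hcm
    refine hφx ?_
    rw [show (⟨⁅c ^ m, x⁆, hcx⟩ : r2 Q c) =
      MulAut.conjNormal (c ^ m) (⟨x, hx⟩ : r2 Q c) * (⟨x, hx⟩ : r2 Q c)⁻¹ from Subtype.ext
        (show ⁅c ^ m, x⁆ = ((MulAut.conjNormal (c ^ m) (⟨x, hx⟩ : r2 Q c) *
          (⟨x, hx⟩ : r2 Q c)⁻¹ : r2 Q c) : G) by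
          rw [Subgroup.coe_mul, Subgroup.coe_inv, MulAut.conjNormal_apply, commutatorElement_def]),
      map_mul, map_inv, mul_inv_eq_one]
    exact DFunLike.congr_fun (mem_stab.1 hst) ⟨x, hx⟩
  have hh2 := hL.h2_of hm2
  have hg4 : g4 R = ⊥ := hC.g4_eq_bot hm hh2
  have h4 : ⁅r3 Q c, R⁆ = ⊥ := hL.r4_eq_bot hm hm2
  have hfix3 : ∀ z ∈ r3 Q c, Commute (c ^ m) z → z = 1 := by
    intro z hz hcz
    have h := hC.mem_g4_of_fixed hm hh2 (z := ⟨z, hr2R (hr32 hz)⟩) (mem_g3_iff.2 hz) (by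
      rw [hg4, Subgroup.mem_bot, mul_inv_eq_one, Subtype.ext_iff, ← map_pow,
        MulAut.conjNormal_apply]
      show c ^ m * z * (c ^ m)⁻¹ = z
      rw [hcz.eq, mul_inv_cancel_right])
    rw [hg4, Subgroup.mem_bot] at h
    exact congrArg Subtype.val h
  have hdisj : R ⊓ fixd Q c = ⊥ := le_bot_iff.1 fun x hx =>
    Subgroup.mem_bot.2 (hfix3 x (hinf hx) (fixd_comm hx.2 m))
  have hcentral : ∀ d ∈ fixd Q c, ∀ g : G, Commute d g := by
    intro d hd g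
    obtain ⟨k, hk⟩ := hL.gen g
    obtain ⟨r, hr, d', hd', he⟩ := hL.exists_split hk
    rw [show g = c ^ k * (r * d') by rw [he]; group]
    refine ((fixd_comm hd k).symm).mul_right ((hL.fixd_comm_rad hd hr).mul_right ?_)
    refine commutatorElement_eq_one_iff_mul_comm.1 (Subgroup.mem_bot.1 (hdisj ▸ ?_))
    refine ⟨hL.derived_le_rad (Subgroup.commutator_mem_commutator hd.1 hd'.1), ?_⟩
    show _ ∈ fixd Q c
    rw [commutatorElement_def]
    exact mul_mem (mul_mem (mul_mem hd hd') (inv_mem hd)) (inv_mem hd')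
  have hcT3 : ⁅r3 Q c, Q⁆ ≤ ⊥ := hL.comm_fixd_rad (hr32.trans hr2R) h4.le
  have hlay3 : Layered Q c (r3 Q c) ⊥ := by
    refine ⟨bot_le, hr32.trans hr2Q, hL.comm_layer hcT3 hdisj.le, ?_⟩
    intro ψ φ hφK hφ1 h1 hψK hψT x hx
    by_cases hx2 : (x : G) ∈ r2 Q c ⊔ fixd Q c
    swap
    · exact hL.vanish ψ h1 (by rw [hL.core_eq]; exact hx2)
    obtain ⟨u, hu, d, hd, he⟩ := Subgroup.mem_sup_of_normal_left.1 hx2
    have hu3 : u ∉ r3 Q c := fun h => hx (by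
      rw [← he]
      exact mul_mem (Subgroup.mem_sup_left h) (Subgroup.mem_sup_right hd))
    -- the character of the third layer
    let e : ↥(g3 R) →* ↥(r3 Q c) :=
      (R.subtype.comp (g3 R).subtype).codRestrict (r3 Q c) fun z => mem_g3_iff.1 z.2
    let χ : L3 R →* ℂˣ := QuotientGroup.lift _ (φ.comp e) fun z hz => by
      have h5 : ((z : R) : G) ∈ (⊥ : Subgroup G) :=
        h4 ▸ (map_g4_subtype R ▸ Subgroup.mem_map_of_mem _ hz)
      exact MonoidHom.mem_ker.2 (hφK (e z) h5)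
    have hχ1 : χ ≠ 1 := fun h => hφ1 (MonoidHom.ext fun z => by
      have hzR : (z : G) ∈ R := hr2R (hr32 z.2)
      exact DFunLike.congr_fun h (cl3 ⟨⟨z, hzR⟩, mem_g3_iff.2 z.2⟩))
    obtain ⟨-, hU, -, -⟩ := hC.macdonald χ hχ1
    have hu2 : (⟨u, hr2R hu⟩ : R) ∈ commutator R := mem_commutator_rad_iff.2 hu
    obtain ⟨a, ha⟩ : ∃ a : R, χ (c3 R (cl2 ⟨_, hu2⟩) (Abelianization.of a)) ≠ 1 := by
      by_contra hcon
      push Not at hcon
      refine hu3 (mem_g3_iff.1 ((cl2_eq_one (z := ⟨⟨u, hr2R hu⟩, hu2⟩)).1 (hU _ fun b => ?_)))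
      obtain ⟨a, rfl⟩ := of_surj b
      exact hcon a
    have hw3 : ⁅u, (a : G)⁆ ∈ r3 Q c := Subgroup.commutator_mem_commutator hu a.2
    have haQ : (a : G) ∈ Q := rad_le a.2
    have hval : φ ⟨_, hw3⟩ ≠ 1 := ha
    have hcl := Char.IsIrrCharacter.isClassFunction ψ.2
    have hwa : (⟨⁅u, (a : G)⁆⁻¹, rad_le (hr2R (hr32 (inv_mem hw3)))⟩ : Q) * x =
        ⟨(a : G), haQ⟩ * x * (⟨(a : G), haQ⟩ : Q)⁻¹ := Subtype.ext (by
      show ⁅u, (a : G)⁆⁻¹ * x = (a : G) * x * (a : G)⁻¹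
      rw [← he, commutatorElement_inv, commutatorElement_def,
        show (a : G) * (u * d) * (a : G)⁻¹ = (a : G) * u * (d * (a : G)⁻¹) by group,
        ((hL.fixd_comm_rad hd a.2).inv_right).eq]
      group)
    have h2 : (ψ : Q → ℂ) (⟨⁅u, (a : G)⁆⁻¹, rad_le (hr2R (hr32 (inv_mem hw3)))⟩ * x) =
        (ψ : Q → ℂ) x := by rw [hwa]; exact hcl x ⟨(a : G), haQ⟩
    have h3 := (kernel_mul ψ (kills_comm hcT3 hψK
      (t := ⟨⁅u, (a : G)⁆⁻¹, rad_le (hr2R (hr32 (inv_mem hw3)))⟩) (inv_mem hw3))).2 x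
    rw [h2, hψT _ (inv_mem hw3)] at h3
    by_contra hne
    refine hval ?_
    have h4' : (φ ⟨⁅u, (a : G)⁆⁻¹, inv_mem hw3⟩ : ℂ) = 1 := by
      refine mul_left_cancel₀ (CharTools.irr_apply_one_ne_zero ψ) (mul_right_cancel₀ hne ?_)
      rw [mul_one]
      linear_combination -h3
    rw [show (⟨_, hw3⟩ : r3 Q c) = (⟨⁅u, (a : G)⁆⁻¹, inv_mem hw3⟩ : r3 Q c)⁻¹ from
      Subtype.ext (inv_inv _).symm, map_inv, inv_eq_one]
    exact Units.ext h4'
  refine ⟨?_, ?_, ?_, hcentral, hdisj, ?_⟩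
  · -- metabelian
    rw [hL.derived_eq]
    have h : ((⁅commutator R, commutator R⁆).map R.subtype : Subgroup G) ≤ (g4 R).map R.subtype :=
      Subgroup.map_mono g2g2
    rw [hg4, Subgroup.map_bot, Subgroup.map_commutator, Subgroup.map_subtype_commutator] at h
    exact le_bot_iff.1 h
  · -- the degrees
    obtain ⟨D3, hD3⟩ : ∃ D3, ∀ φ : r3 Q c →* ℂˣ, φ ∈ annChars (r3 Q c) ⊥ → φ ≠ 1 →
        ∀ d, d * d = (r3 Q c ⊔ fixd Q c).relIndex Q → (stab φ).index * d = D3 := by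
      by_cases h : ∃ φ : r3 Q c →* ℂˣ, φ ∈ annChars (r3 Q c) ⊥ ∧ φ ≠ 1
      · obtain ⟨φ₃, h₃, h₃1⟩ := h
        obtain ⟨-, d₃, -, hsq₃, -, -⟩ := hL.layer_facts hlay3 h₃ h₃1
        refine ⟨(stab φ₃).index * d₃, fun φ hφ hφ1 d hd => ?_⟩
        rw [hL.layer_stab hlay3 hφ hφ1 h₃ h₃1, Nat.mul_self_inj.1 (hd.trans hsq₃.symm)]
      · exact ⟨0, fun φ hφ hφ1 => absurd ⟨φ, hφ, hφ1⟩ h⟩
    refine ⟨(stab φ₂).index * d₂, D3, fun ψ h1 => ?_⟩
    by_cases hk : ∀ x : Q, (x : G) ∈ r3 Q c → (ψ : Q → ℂ) x = (ψ : Q → ℂ) 1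
    · obtain ⟨φ, hφK, hφ1, hφT⟩ := hL.exists_restriction (hr2Q.trans (Subgroup.commutator_le_left Q Q))
        hcT2 hk (hL.exists_ne_on_derived ψ h1)
      have hv := hlay2.2.2.2 ψ φ hφK hφ1 h1 hk hφT
      refine Or.inl ?_
      rw [hL.inertia_eq (hr2Q.trans (Subgroup.commutator_le_left Q Q)) hcT2 hφK hk hφT hv,
        hL.layer_stab hlay2 hφK hφ1 hφ₂K hφ₂1,
        Nat.mul_self_inj.1 ((hL.layer_sq hlay2.2.2.1 hk hv).trans hsq₂.symm)]
    · push Not at hk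
      have hk0 : ∀ x : Q, (x : G) ∈ (⊥ : Subgroup G) → (ψ : Q → ℂ) x = (ψ : Q → ℂ) 1 := fun x hx => by
        rw [show x = 1 from Subtype.ext (Subgroup.mem_bot.1 hx)]
      have hT3Q : r3 Q c ≤ Q := (hr32.trans hr2Q).trans (Subgroup.commutator_le_left Q Q)
      obtain ⟨φ, hφK, hφ1, hφT⟩ := hL.exists_restriction hT3Q hcT3 hk0 hk
      have hv := hlay3.2.2.2 ψ φ hφK hφ1 h1 hk0 hφT
      refine Or.inr ?_
      rw [hL.inertia_eq hT3Q hcT3 hφK hk0 hφT hv]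
      exact hD3 φ hφK hφ1 _ (hL.layer_sq hlay3.2.2.1 hk0 hv)
  · -- commuting subgroups
    intro B hBQ x j hx hj hcomm
    have hcb : ∀ b ∈ B, ⁅c ^ j, b⁆ = ⁅x⁻¹, b⁆ := fun b hb => by
      have h := (hcomm b hb).eq
      rw [commutatorElement_def, commutatorElement_def, inv_inv,
        show x⁻¹ * b * x = c ^ j * b * (c ^ j)⁻¹ by
          rw [show x⁻¹ * b * x = x⁻¹ * (b * (x * c ^ j)) * (c ^ j)⁻¹ by group, ← h]; group]
    have hB2 : B ≤ r2 Q c ⊔ fixd Q c := fun b hb => by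
      rw [← hL.core_eq]
      refine hL.mem_core_of_fixed (hBQ hb) hj ?_
      rw [hcb b hb]
      exact Subgroup.mem_sup_left (Subgroup.commutator_mem_commutator (inv_mem hx) (hBQ hb))
    have hstep : ∀ (T K : Subgroup G) [T.Normal] [K.Normal], Layered Q c T K → ⁅T, T⁆ ≤ K →
        B ≤ T ⊔ fixd Q c →
        (∃ φ : T →* ℂˣ, φ ∈ annChars T K ∧ φ ≠ 1 ∧ c ^ j ∈ stab φ) ∨ B ≤ K ⊔ fixd Q c := by
      intro T K _ _ hlay hTT hBT
      by_cases hex : ∃ φ : T →* ℂˣ, φ ∈ annChars T K ∧ φ ≠ 1 ∧ c ^ j ∈ stab φ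
      · exact Or.inl hex
      refine Or.inr fun b hb => ?_
      obtain ⟨u, hu, d, hd, rfl⟩ := Subgroup.mem_sup_of_normal_left.1 (hBT hb)
      refine mul_mem (Subgroup.mem_sup_left (mem_of_no_fixed T K hTT (c ^ j) (fun φ hφ hst =>
        by_contra fun h => hex ⟨φ, hφ, h, hst⟩) hu ?_)) (Subgroup.mem_sup_right hd)
      have hK : ⁅x⁻¹, u * d⁆ ∈ K := by
        rw [← inv_mem_iff, commutatorElement_inv]
        exact hlay.2.2.1 (Subgroup.commutator_mem_commutator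
          (mul_mem (Subgroup.mem_sup_left hu) (Subgroup.mem_sup_right hd)) (inv_mem hx))
      rw [← hcb _ hb] at hK
      have e : ⁅c ^ j, u * d⁆ = ⁅c ^ j, u⁆ := by
        rw [commutatorElement_def, commutatorElement_def, mul_inv_rev,
          show c ^ j * (u * d) * (c ^ j)⁻¹ * (d⁻¹ * u⁻¹) =
            c ^ j * u * (c ^ j)⁻¹ * (c ^ j * d * (c ^ j)⁻¹ * d⁻¹) * u⁻¹ by group,
          (fixd_comm hd j).eq, mul_inv_cancel_right, mul_inv_cancel, mul_one]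
      rwa [e] at hK
    have hout : ∀ (T K : Subgroup G) [T.Normal], Layered Q c T K → B ≤ T ⊔ fixd Q c →
        (∃ φ : T →* ℂˣ, φ ∈ annChars T K ∧ φ ≠ 1 ∧ c ^ j ∈ stab φ) →
        ∃ (χ : Cfsg.IrrCharacter G) (j' d : ℕ), j' ∣ j ∧ j' ∣ Q.index ∧
          Cfsg.charDegree (χ : G → ℂ) = j' * d ∧ 1 < d ∧ d * d ∣ B.relIndex Q := by
      rintro T K _ hlay hBT ⟨φ, hφ, hφ1, hst⟩
      obtain ⟨χ, d, hd, hsq, hχ, -⟩ := hL.layer_facts hlay hφ hφ1
      have hQs : Q ≤ stab φ := le_stab_of_kills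
        ((Subgroup.commutator_mono le_sup_left le_rfl).trans hlay.2.2.1) hφ
      exact ⟨χ, _, d, (pow_mem_iff_dvd Q hL.gen (stab φ) hQs j).1 hst,
        Subgroup.index_dvd_of_le hQs, hχ, hd, hsq ▸ Subgroup.relIndex_dvd_of_le_left Q hBT⟩
    rcases hstep (r2 Q c) (r3 Q c) hlay2 hr22 hB2 with h | hB3
    · exact Or.inr (hout _ _ hlay2 hB2 h)
    rcases hstep (r3 Q c) ⊥ hlay3 ((Subgroup.commutator_mono le_rfl (hr32.trans hr2R)).trans h4.le)
      hB3 with h | hB4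
    · exact Or.inr (hout _ _ hlay3 hB3 h)
    · exact Or.inl (by simpa using hB4)
  · -- two commuting elements of order `q`
    have hexp : ∀ u ∈ r2 Q c, u ^ q = 1 := fun u hu => by
      have h := hC.pow_mem_g4 hm hh2 (u := ⟨u, hr2R hu⟩) (mem_commutator_rad_iff.2 hu)
      rw [hg4, Subgroup.mem_bot] at h
      simpa using congrArg Subtype.val h
    have habel2 : ∀ a ∈ r2 Q c, ∀ b ∈ r2 Q c, Commute a b := fun a ha b hb => by
      have h := g2g2 (Subgroup.commutator_mem_commutator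
        (mem_commutator_rad_iff.2 ha : (⟨a, hr2R ha⟩ : R) ∈ commutator R)
        (mem_commutator_rad_iff.2 hb : (⟨b, hr2R hb⟩ : R) ∈ commutator R))
      rw [hg4, Subgroup.mem_bot, commutatorElement_eq_one_iff_mul_comm] at h
      exact congrArg Subtype.val h
    by_cases h3 : r3 Q c = ⊥
    swap
    · obtain ⟨⟨z, hz⟩, hz1⟩ := (Subgroup.ne_bot_iff_exists_ne_one).1 h3
      exact ⟨z, hr2R (hr32 hz), u₀, hr2R hu₀, hexp z (hr32 hz), hexp u₀ hu₀,
        fun h => hz1 (Subtype.ext h), habel2 z (hr32 hz) u₀ hu₀,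
        fun h => hu₀3 (Subgroup.zpowers_le.2 hz h)⟩
    have hu₀1 : u₀ ≠ 1 := fun h => hu₀3 (h ▸ one_mem _)
    by_cases hbig : r2 Q c ≤ Subgroup.zpowers u₀
    swap
    · obtain ⟨z, hz, hzn⟩ := SetLike.not_le_iff_exists.1 hbig
      exact ⟨u₀, hr2R hu₀, z, hr2R hz, hexp u₀ hu₀, hexp z hz, hu₀1, habel2 u₀ hu₀ z hz, hzn⟩
    -- the derived subgroup has prime order
    have hord : orderOf u₀ = q := (Nat.dvd_prime hL.frob.prime).1
      (orderOf_dvd_of_pow_eq_one (hexp u₀ hu₀)) |>.resolve_left (fun h => hu₀1 (orderOf_eq_one_iff.1 h))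
    have hcard : Nat.card (r2 Q c) = q := by
      rw [le_antisymm hbig (Subgroup.zpowers_le.2 hu₀), Nat.card_zpowers, hord]
    have hq2 : q ≠ 2 := fun h2 => hu₀3 (by
      refine hfpf u₀ hu₀ ?_
      have hmem : c * u₀ * c⁻¹ ∈ r2 Q c :=
        (inferInstance : (r2 Q c).Normal).conj_mem u₀ hu₀ c
      have hne : c * u₀ * c⁻¹ ≠ 1 := fun h => hu₀1 (by simpa using h)
      have he : c * u₀ * c⁻¹ = u₀ := by
        obtain ⟨k, hk⟩ := (Submonoid.mem_powers_iff _ _).1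
          ((isOfFinOrder_of_finite u₀).mem_powers_iff_mem_zpowers.2 (hbig hmem))
        rw [← pow_mod_orderOf, hord, h2] at hk
        rcases Nat.mod_two_eq_zero_or_one k with h0 | h0 <;> rw [h0] at hk
        · exact absurd (hk.symm.trans (pow_zero u₀)) hne
        · exact hk.symm.trans (pow_one u₀)
      rw [commutatorElement_def, he, mul_inv_cancel]
      exact one_mem _)
    have hg3 : g3 R = ⊥ := (Subgroup.map_eq_bot_iff_of_injective _ R.subtype_injective).1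
      ((map_g3_subtype R).trans h3)
    have hc2 : Nat.card ↥(commutator R) = q := by
      rw [← Subgroup.card_map_of_injective R.subtype_injective, Subgroup.map_subtype_commutator]
      exact hcard
    have hcen : ∀ a b g : R, Commute ⁅a, b⁆ g := fun a b g => by
      refine commutatorElement_eq_one_iff_mul_comm.1 (Subgroup.mem_bot.1 (hg3 ▸ ?_))
      exact mem_g3_of_comm (Subgroup.commutator_mem_commutator (Subgroup.mem_top a) (Subgroup.mem_top b))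
    have hwq : ∀ w ∈ commutator R, w ^ q = 1 := fun w hw => by
      have h := pow_card_eq_one' (G := ↥(commutator R)) (x := ⟨w, hw⟩)
      rw [hc2] at h
      simpa using congrArg Subtype.val h
    let pw : R →* R := MonoidHom.mk' (fun a => a ^ q) fun a b => by
      rw [pow_mul_of_central a b (hcen b a) q]
      obtain ⟨k, hk⟩ := Nat.Prime.dvd_choose_self hL.frob.prime two_ne_zero
        (lt_of_le_of_ne hL.frob.prime.two_le (Ne.symm hq2))
      rw [hk, pow_mul, hwq _ (Subgroup.commutator_mem_commutator (Subgroup.mem_top b) (Subgroup.mem_top a)),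
        one_pow, mul_one]
    have hrange : pw.range ≤ commutator R := by
      rintro _ ⟨a, rfl⟩
      refine (QuotientGroup.eq_one_iff _).1 ?_
      show Abelianization.of (a ^ q) = 1
      rw [map_pow]
      exact hC.exp1 _
    obtain ⟨u, hu, hu2⟩ : ∃ u : R, u ^ q = 1 ∧ u ∉ commutator R := by
      by_contra hcon
      push Not at hcon
      have hker : pw.ker ≤ commutator R := fun a ha => hcon a (MonoidHom.mem_ker.1 ha)
      have h1 := pw.ker.card_mul_index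
      rw [Subgroup.index_ker] at h1
      have h2 := Subgroup.card_le_of_le hker
      have h3 := Subgroup.card_le_of_le hrange
      have h4 := Subgroup.card_eq_card_quotient_mul_card_subgroup (commutator R)
      have h5 := hC.card_sq
      have h6 := hC.one_lt_B
      have hB : Nat.card (L2 R) = q := by
        have h7 := Subgroup.card_eq_card_quotient_mul_card_subgroup
          ((g3 R).subgroupOf (commutator R))
        rw [hc2, show (g3 R).subgroupOf (commutator R) = ⊥ by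
          rw [hg3, Subgroup.bot_subgroupOf], Subgroup.card_bot, mul_one] at h7
        have h8 : Nat.card (L2 R) = Nat.card (↥(commutator R) ⧸ (⊥ : Subgroup ↥(commutator R))) := by
          rw [L2, hg3, Subgroup.bot_subgroupOf]
        rw [h8, ← h7]
      rw [hc2] at h2 h3 h4
      rw [hB] at h5 h6
      change q * q ≤ Nat.card (R ⧸ commutator R) at h5
      have h9 := Nat.mul_le_mul h2 h3
      nlinarith [hL.frob.prime.two_le]
    refine ⟨u₀, hr2R hu₀, u, u.2, hexp u₀ hu₀, by simpa using congrArg Subtype.val hu, hu₀1, ?_,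
      fun h => hu2 (mem_commutator_rad_iff.2 (Subgroup.zpowers_le.2 hu₀ h))⟩
    have h := (hg3 ▸ mem_g3_of_comm (x := (⟨u₀, hr2R hu₀⟩ : R)) (y := u)
      (mem_commutator_rad_iff.2 hu₀) : ⁅(⟨u₀, hr2R hu₀⟩ : R), u⁆ ∈ (⊥ : Subgroup R))
    rw [Subgroup.mem_bot, commutatorElement_eq_one_iff_mul_comm] at h
    exact congrArg Subtype.val h

/-- **The level.** -/
theorem cases : ⁅⁅Q, Q⁆, ⁅Q, Q⁆⁆ = ⊥ ∧ (LevelInv Q ∨ LevelMoved Q q c) := by
  haveI := hL.rad_normal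
  by_cases hfix : ∀ x ∈ r2 Q c, ⁅c, x⁆ ∈ r3 Q c
  · exact (hL.levelInv hfix).imp id Or.inl
  by_cases hfpf : ∀ x ∈ r2 Q c, ⁅c, x⁆ ∈ r3 Q c → x ∈ r3 Q c
  · exact (hL.levelMoved hfpf).imp id Or.inr
  exfalso
  push Not at hfix hfpf
  obtain ⟨y, hy, hmov⟩ := hfix
  obtain ⟨x, hx, hxc, hx3⟩ := hfpf
  haveI := hL.fixd_normal
  have hr2R : r2 Q c ≤ rad Q c := Subgroup.commutator_le_left _ _
  have hcT : ⁅r2 Q c, Q⁆ ≤ r3 Q c := hL.comm_fixd_rad hr2R le_rfl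
  obtain ⟨φ₀, hφ₀, hφ₀1, hst⟩ : ∃ φ ∈ annChars (r2 Q c) (r3 Q c), φ ≠ 1 ∧ c ∈ stab φ := by
    by_contra hcon
    push Not at hcon
    exact hx3 (mem_of_no_fixed (r2 Q c) (r3 Q c) (Subgroup.commutator_mono le_rfl hr2R) c
      (fun φ hφ hst => by_contra fun h => hcon φ hφ h hst) hx hxc)
  refine hL.false_of_mixed (T := r2 Q c) (K := r3 Q c) (Subgroup.commutator_le_left _ _)
    (Subgroup.commutator_mono rad_le rad_le) hcT
    (fun ψ h1 n hn => hL.vanish ψ h1 (by rw [hL.core_eq]; exact hn)) hφ₀ hφ₀1 hst hy fun hmem => ?_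
  -- a commutator with `c` fixed by `c` modulo the third term
  obtain ⟨k, hk, d, hd, he⟩ := Subgroup.mem_sup_of_normal_left.1 hmem
  set π := QuotientGroup.mk' (r3 Q c)
  refine hmov ((QuotientGroup.eq_one_iff _).1 ?_)
  have hπ : π ⁅c, y⁆ = π d := by
    rw [← he, map_mul, show π k = 1 from (QuotientGroup.eq_one_iff k).2 hk, one_mul]
  haveI : Fact q.Prime := ⟨hL.frob.prime⟩
  obtain ⟨e, he'⟩ := IsPGroup.iff_card.1 hL.pgroup
  refine eq_one_of_commute_commutator (c := π c) (x := π y) (f := Q.index) (n := q ^ e)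
    (a := π ⁅c, y⁆) ?_ ?_ ?_ ?_ ?_
  · rw [map_commutatorElement, commutatorElement_def]
  · rw [hπ]
    have h := fixd_comm hd 1
    rw [pow_one] at h
    exact h.map π
  · rw [← map_pow, hL.pow, map_one]
    exact Commute.one_left _
  · have hmemQ : ⁅c, y⁆ ∈ Q := by
      rw [← he]
      exact mul_mem (rad_le (hr2R (Subgroup.commutator_le_left _ _ hk))) hd.1
    rw [← map_pow]
    have h := pow_card_eq_one' (G := Q) (x := ⟨_, hmemQ⟩)
    rw [he'] at h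
    rw [show ⁅c, y⁆ ^ q ^ e = 1 by simpa using congrArg Subtype.val h, map_one]
  · exact (hL.frob.prime.coprime_iff_not_dvd.2 hL.frob.not_dvd).pow_left e

end Lvl

end CfsgLib.NoDiv
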