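import Cfsg.Agent.Lib.NoDiv.Level
import Cfsg.Agent.Lib.NoDiv.Chief

/-!
# Characters of one layer of the moved part
-/

set_option autoImplicit false

open scoped Classical commutatorElement ComplexConjugate
open CfsgLib CfsgLib.DegGraph

namespace CfsgLib.NoDiv

universe u

variable {G : Type u} [Group G] [Finite G]

/-- A linear character of `T` trivial on `K ≥ [T, Q]` is fixed by `Q`. -/
theorem le_stab_of_kills {Q T K : Subgroup G} [T.Normal] (hcT : ⁅T, Q⁆ ≤ K) {φ : T →* ℂˣ}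
    (hφ : φ ∈ annChars T K) : Q ≤ stab φ := fun g hg => mem_stab.2 (MonoidHom.ext fun x => by
  show φ (MulAut.conjNormal g x) = φ x
  rw [← div_eq_one, ← map_div]
  refine hφ _ ?_
  have h := inv_mem (hcT (Subgroup.commutator_mem_commutator x.2 hg) : ⁅(x : G), g⁆ ∈ K)
  simpa [commutatorElement_def, div_eq_mul_inv, mul_assoc] using h)

/-- Fixed points of a layer come from fixed characters. -/
theorem mem_of_no_fixed (T K : Subgroup G) [T.Normal] [K.Normal] (hKT : ⁅T, T⁆ ≤ K) (g : G)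
    (h : ∀ φ ∈ annChars T K, g ∈ stab φ → φ = 1) {u : G} (hu : u ∈ T) (hfix : ⁅g, u⁆ ∈ K) :
    u ∈ K := by
  haveI : (K.subgroupOf T).Normal := Subgroup.normal_subgroupOf
  letI : CommGroup (↥T ⧸ K.subgroupOf T) :=
    { (inferInstance : Group _) with mul_comm := comm_quotient_of_le G hKT }
  let S : ↥T ⧸ K.subgroupOf T →* ↥T ⧸ K.subgroupOf T :=
    QuotientGroup.map _ _ (MulAut.conjNormal g : MulAut T).toMonoidHom fun x hx => by
      show ((MulAut.conjNormal g x : T) : G) ∈ K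
      rw [MulAut.conjNormal_apply]
      exact (inferInstance : K.Normal).conj_mem _ hx g
  refine Subgroup.mem_subgroupOf.1 ((QuotientGroup.eq_one_iff (N := K.subgroupOf T) (⟨u, hu⟩ : T)).1
    (eq_one_of_no_fixed_char S (fun χ hχ => ?_) ?_))
  · refine MonoidHom.ext fun v => ?_
    obtain ⟨t, rfl⟩ := QuotientGroup.mk_surjective v
    exact DFunLike.congr_fun (h (χ.comp (QuotientGroup.mk' (K.subgroupOf T)))
      (fun x hx => by
        rw [MonoidHom.comp_apply, show QuotientGroup.mk' (K.subgroupOf T) x = 1 from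
          (QuotientGroup.eq_one_iff x).2 hx, map_one])
      (mem_stab.2 (MonoidHom.ext fun x => DFunLike.congr_fun hχ (QuotientGroup.mk x)))) t
  · show ((MulAut.conjNormal g (⟨u, hu⟩ : T) : T) : ↥T ⧸ K.subgroupOf T) = QuotientGroup.mk _
    refine QuotientGroup.eq_iff_div_mem.2 ?_
    rw [Subgroup.mem_subgroupOf, div_eq_mul_inv, Subgroup.coe_mul, Subgroup.coe_inv,
      MulAut.conjNormal_apply, ← commutatorElement_def]
    exact hfix

namespace Lvl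

variable {Q : Subgroup G} [Q.Normal] {q : ℕ} {c : G} (hL : Lvl Q q c)
include hL

theorem fixd_normal : (fixd Q c).Normal := by
  refine normal_of_stable hL.gen ?_ ?_
  · conv_lhs => rw [← hL.sup_eq]
    refine sup_le (fun r hr => ?_) Subgroup.le_normalizer
    rw [Subgroup.mem_normalizer_iff]
    refine fun d => ⟨fun hd => ?_, fun hd => ?_⟩
    · rw [← (hL.fixd_comm_rad hd hr).eq, mul_inv_cancel_right]
      exact hd
    · have h := hL.fixd_comm_rad hd hr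
      have e : r * d * r⁻¹ = d := by
        have := h.eq
        have h2 : r * d = r * (r * d * r⁻¹) := by
          rw [← this]; group
        exact (mul_left_cancel h2).symm
      rwa [e] at hd
  · rw [Subgroup.mem_normalizer_iff]
    refine fun d => ⟨fun hd => ?_, fun hd => ?_⟩
    · have h := fixd_comm hd 1
      rw [pow_one] at h
      rw [h.eq, mul_inv_cancel_right]
      exact hd
    · have h := fixd_comm hd 1
      rw [pow_one] at h
      have h2 : c * d = c * (c * d * c⁻¹) := by rw [h.eq]; group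
      rwa [← mul_left_cancel h2] at hd

/-- A character over a linear character of a layer. -/
theorem exists_layer_char {T K : Subgroup G} [T.Normal] (hKT : K ≤ T) (hTd : T ≤ ⁅Q, Q⁆)
    (hcT : ⁅T, Q⁆ ≤ K) {φ : T →* ℂˣ} (hφ : φ ∈ annChars T K) (hφ1 : φ ≠ 1) :
    ∃ ψ : Cfsg.IrrCharacter Q, Cfsg.charDegree (ψ : Q → ℂ) ≠ 1 ∧
      (∀ x : Q, (x : G) ∈ K → (ψ : Q → ℂ) x = (ψ : Q → ℂ) 1) ∧
      ∀ t (ht : t ∈ T) (htQ : t ∈ Q), (ψ : Q → ℂ) ⟨t, htQ⟩ = (ψ : Q → ℂ) 1 * (φ ⟨t, ht⟩ : ℂ) := by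
  have hTQ : T ≤ Q := hTd.trans (Subgroup.commutator_le_left Q Q)
  obtain ⟨ψ, hψ⟩ := exists_over_sub Q T hTQ φ (le_stab_of_kills hcT hφ)
  refine ⟨ψ, fun h1 => hφ1 (MonoidHom.ext fun t => ?_), fun x hx => ?_,
    fun t ht _ => hψ ⟨t, ht⟩⟩
  · have h0 : (ψ : Q → ℂ) 1 = 1 := by rw [← CharTools.irr_degree_cast, h1, Nat.cast_one]
    obtain ⟨ν, hν⟩ := CharDeep.Lin.exists_hom_of_deg_one (Char.IsIrrCharacter.isCharacter ψ.2) h0
    have h := hψ t
    rw [h0, one_mul, hν, AbLayer.apply_eq_one_of_mem_derived _ (hTd t.2) ν] at h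
    exact Units.ext h.symm
  · have h := hψ ⟨x, hKT hx⟩
    rw [hφ _ hx, Units.val_one, mul_one] at h
    exact h

omit hL [Finite G] in
theorem kills_comm {T K : Subgroup G} (hcT : ⁅T, Q⁆ ≤ K) {ψ : Cfsg.IrrCharacter Q}
    (hψK : ∀ x : Q, (x : G) ∈ K → (ψ : Q → ℂ) x = (ψ : Q → ℂ) 1) {t : Q} (ht : (t : G) ∈ T)
    (g : Q) : (ψ : Q → ℂ) ⁅t, g⁆ = (ψ : Q → ℂ) 1 := by
  refine hψK _ ?_
  have h : ((⁅t, g⁆ : Q) : G) = ⁅(t : G), (g : G)⁆ := map_commutatorElement Q.subtype t g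
  rw [h]
  exact hcT (Subgroup.commutator_mem_commutator ht g.2)

/-- The inertia group of a layer character is the stabiliser of the linear character. -/
theorem inertia_eq {T K : Subgroup G} [T.Normal] (hTQ : T ≤ Q) (hcT : ⁅T, Q⁆ ≤ K) {φ : T →* ℂˣ}
    (hφ : φ ∈ annChars T K) {ψ : Cfsg.IrrCharacter Q}
    (hψK : ∀ x : Q, (x : G) ∈ K → (ψ : Q → ℂ) x = (ψ : Q → ℂ) 1)
    (hψT : ∀ t (ht : t ∈ T) (htQ : t ∈ Q),
      (ψ : Q → ℂ) ⟨t, htQ⟩ = (ψ : Q → ℂ) 1 * (φ ⟨t, ht⟩ : ℂ))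
    (hv : ∀ x : Q, (x : G) ∉ T ⊔ fixd Q c → (ψ : Q → ℂ) x = 0) :
    CharTwist.inertia Q (ψ : Q → ℂ) = stab φ := by
  haveI := hL.fixd_normal
  have hQi : Q ≤ CharTwist.inertia Q (ψ : Q → ℂ) :=
    CharTwist.le_inertia Q (Char.IsIrrCharacter.isClassFunction ψ.2)
  have hQs : Q ≤ stab φ := le_stab_of_kills hcT hφ
  refine le_antisymm (fun g hg => mem_stab.2 (MonoidHom.ext fun x => Units.ext ?_)) fun g hg => ?_
  · show (φ (MulAut.conjNormal g x) : ℂ) = φ x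
    refine mul_left_cancel₀ (CharTools.irr_apply_one_ne_zero ψ) ?_
    rw [← hψT _ x.2 (hTQ x.2), ← hψT _ (MulAut.conjNormal g x).2 (hTQ (MulAut.conjNormal g x).2)]
    exact (congrArg (ψ : Q → ℂ) (Subtype.ext (by rw [MulAut.conjNormal_apply]))).trans
      (congrFun (CharTwist.mem_inertia.1 hg) ⟨x, hTQ x.2⟩)
  · obtain ⟨i, hi⟩ := hL.gen g
    have hci : c ^ i ∈ stab φ := by
      rw [show c ^ i = g * ((c ^ i)⁻¹ * g)⁻¹ by group]
      exact mul_mem hg (inv_mem (hQs hi))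
    rw [show g = c ^ i * ((c ^ i)⁻¹ * g) by group]
    refine mul_mem (CharTwist.mem_inertia.2 (funext fun n => ?_)) (hQi hi)
    show (ψ : Q → ℂ) _ = (ψ : Q → ℂ) n
    by_cases hn : (n : G) ∈ T ⊔ fixd Q c
    swap
    · rw [hv n hn, hv _ fun h => hn ?_]
      have h2 := (inferInstance : (T ⊔ fixd Q c).Normal).conj_mem _ h (c ^ i)⁻¹
      simpa [mul_assoc] using h2
    obtain ⟨t, ht, d, hd, he⟩ := Subgroup.mem_sup_of_normal_left.1 hn
    have hn' : n = ⟨t, hTQ ht⟩ * ⟨d, hd.1⟩ := Subtype.ext he.symm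
    have ht' : c ^ i * t * (c ^ i)⁻¹ ∈ T := (inferInstance : T.Normal).conj_mem t ht _
    have hconj : (⟨c ^ i * n * (c ^ i)⁻¹, (inferInstance : Q.Normal).conj_mem n n.2 _⟩ : Q) =
        ⟨c ^ i * t * (c ^ i)⁻¹, hTQ ht'⟩ * ⟨d, hd.1⟩ := Subtype.ext (by
      show c ^ i * n * (c ^ i)⁻¹ = c ^ i * t * (c ^ i)⁻¹ * d
      rw [← he, show c ^ i * (t * d) * (c ^ i)⁻¹ = c ^ i * t * (c ^ i)⁻¹ * (c ^ i * d * (c ^ i)⁻¹) by
        group, (fixd_comm hd i).eq, mul_inv_cancel_right])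
    refine mul_right_cancel₀ (CharTools.irr_apply_one_ne_zero ψ) ?_
    rw [hconj, hn', (kernel_mul ψ (kills_comm hcT hψK (t := ⟨t, hTQ ht⟩) ht)).2,
      (kernel_mul ψ (kills_comm hcT hψK (t := ⟨c ^ i * t * (c ^ i)⁻¹, hTQ ht'⟩) ht')).2,
      hψT _ ht' _, hψT _ ht _]
    congr 2
    exact congrArg Units.val ((congrArg φ (Subtype.ext (MulAut.conjNormal_apply (c ^ i) (⟨t, ht⟩ : T)).symm)).trans
      (DFunLike.congr_fun (mem_stab.1 hci) ⟨t, ht⟩))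

/-- The degree of a layer character. -/
theorem layer_sq {E K : Subgroup G} (hcE : ⁅E, Q⁆ ≤ K) {ψ : Cfsg.IrrCharacter Q}
    (hψK : ∀ x : Q, (x : G) ∈ K → (ψ : Q → ℂ) x = (ψ : Q → ℂ) 1)
    (hv : ∀ x : Q, (x : G) ∉ E → (ψ : Q → ℂ) x = 0) :
    Cfsg.charDegree (ψ : Q → ℂ) * Cfsg.charDegree (ψ : Q → ℂ) = E.relIndex Q := by
  obtain ⟨μ, hμ⟩ := exists_scalar_hom ψ (E.subgroupOf Q) fun t ht g => kills_comm hcE hψK ht g
  refine sq_degree_of_vanish ψ (E.subgroupOf Q) hv μ fun x => ?_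
  have h := hμ x 1
  rw [mul_one] at h
  rw [h, mul_comm]

/-- Over a character of `Q`: index of the inertia group times the degree is a degree of `G`. -/
theorem exists_degree (ψ : Cfsg.IrrCharacter Q) :
    ∃ χ : Cfsg.IrrCharacter G, Cfsg.charDegree (χ : G → ℂ) =
      (CharTwist.inertia Q (ψ : Q → ℂ)).index * Cfsg.charDegree (ψ : Q → ℂ) := by
  haveI := Fintype.ofFinite Q
  obtain ⟨χ, hχ⟩ := Blk83.exists_over Q ψ
  exact ⟨χ, hL.frob.degree_eq χ ψ hχ⟩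

/-- A layer: its characters vanish outside it and it is central modulo its kernel. -/
def Layered (Q : Subgroup G) [Q.Normal] (c : G) (T K : Subgroup G) : Prop :=
  K ≤ T ∧ T ≤ ⁅Q, Q⁆ ∧ ⁅T ⊔ fixd Q c, Q⁆ ≤ K ∧
  ∀ (ψ : Cfsg.IrrCharacter Q) (φ : T →* ℂˣ), φ ∈ annChars T K → φ ≠ 1 →
    Cfsg.charDegree (ψ : Q → ℂ) ≠ 1 →
    (∀ x : Q, (x : G) ∈ K → (ψ : Q → ℂ) x = (ψ : Q → ℂ) 1) →
    (∀ t (ht : t ∈ T) (htQ : t ∈ Q), (ψ : Q → ℂ) ⟨t, htQ⟩ = (ψ : Q → ℂ) 1 * (φ ⟨t, ht⟩ : ℂ)) →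
    ∀ x : Q, (x : G) ∉ T ⊔ fixd Q c → (ψ : Q → ℂ) x = 0

/-- The facts about one character of a layer. -/
theorem layer_facts {T K : Subgroup G} [T.Normal] (hTK : Layered Q c T K) {φ : T →* ℂˣ}
    (hφ : φ ∈ annChars T K) (hφ1 : φ ≠ 1) :
    ∃ (χ : Cfsg.IrrCharacter G) (d : ℕ), 1 < d ∧ d * d = (T ⊔ fixd Q c).relIndex Q ∧
      Cfsg.charDegree (χ : G → ℂ) = (stab φ).index * d ∧ ¬ stab φ ≤ Q := by
  obtain ⟨hKT, hTd, hcE, hv⟩ := hTK
  have hcT : ⁅T, Q⁆ ≤ K := (Subgroup.commutator_mono le_sup_left le_rfl).trans hcE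
  obtain ⟨ψ, hψ1, hψK, hψT⟩ := hL.exists_layer_char hKT hTd hcT hφ hφ1
  have hvψ := hv ψ φ hφ hφ1 hψ1 hψK hψT
  have hin := hL.inertia_eq (hTd.trans (Subgroup.commutator_le_left Q Q)) hcT hφ hψK hψT hvψ
  obtain ⟨χ, hχ⟩ := hL.exists_degree ψ
  exact ⟨χ, _, deg_gt hψ1, hL.layer_sq hcE hψK hvψ, hin ▸ hχ, hin ▸ hL.frob.inertia_not_le ψ hψ1⟩

/-- All the characters of a layer have the same stabiliser. -/
theorem layer_stab {T K : Subgroup G} [T.Normal] [K.Normal] (hTK : Layered Q c T K)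
    {u w : T →* ℂˣ} (hu : u ∈ annChars T K) (hu1 : u ≠ 1) (hw : w ∈ annChars T K) (hw1 : w ≠ 1) :
    stab u = stab w := by
  have hcT : ⁅T, Q⁆ ≤ K := (Subgroup.commutator_mono le_sup_left le_rfl).trans hTK.2.2.1
  refine stab_const Q hL.frob.comm (annChars T K)
    (fun g v hv x hx => hv _ ((inferInstance : K.Normal).conj_mem x hx g))
    (fun v hv => le_stab_of_kills hcT hv) (fun a ha b hb ha1 hb1 hle => ?_) hu hu1 hw hw1
  obtain ⟨χa, da, hda, hsa, hχa, -⟩ := hL.layer_facts hTK ha ha1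
  obtain ⟨χb, db, hdb, hsb, hχb, -⟩ := hL.layer_facts hTK hb hb1
  obtain rfl : da = db := Nat.mul_self_inj.1 (hsa.trans hsb.symm)
  have hpos : 0 < (stab a).index := Nat.pos_of_ne_zero Subgroup.index_ne_zero_of_finite
  have he := hL.frob.hnd χa χb (hχa ▸ lt_of_lt_of_le hda (Nat.le_mul_of_pos_left _ hpos))
    (hχa ▸ hχb ▸ Nat.mul_dvd_mul_right (Subgroup.index_dvd_of_le hle) _)
  rw [hχa, hχb] at he
  have he' := Nat.eq_of_mul_eq_mul_right (by omega) he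
  rw [← Subgroup.relIndex_mul_index hle] at he'
  exact le_antisymm hle (Subgroup.relIndex_eq_one.1 (Nat.eq_of_mul_eq_mul_right hpos
    ((one_mul _).trans he').symm))

/-- A twist by a moved character of a layer keeps the degree: a fixed and a moved character cannot
coexist. -/
theorem false_of_mixed {T K : Subgroup G} [T.Normal] [K.Normal] (hKT : K ≤ T) (hTd : T ≤ ⁅Q, Q⁆)
    (hcT : ⁅T, Q⁆ ≤ K)
    (hv : ∀ ψ : Cfsg.IrrCharacter Q, Cfsg.charDegree (ψ : Q → ℂ) ≠ 1 →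
      ∀ x : Q, (x : G) ∉ T ⊔ fixd Q c → (ψ : Q → ℂ) x = 0)
    {φ₀ : T →* ℂˣ} (hφ₀ : φ₀ ∈ annChars T K) (hφ₀1 : φ₀ ≠ 1) (hfix : c ∈ stab φ₀)
    {y : G} (hy : y ∈ T) (hmov : ⁅c, y⁆ ∉ K ⊔ fixd Q c) : False := by
  haveI := hL.fixd_normal
  haveI := Fintype.ofFinite Q
  haveI := Fintype.ofFinite G
  set E := T ⊔ fixd Q c with hEdef
  have hTQ : T ≤ Q := hTd.trans (Subgroup.commutator_le_left Q Q)
  have hEQ : E ≤ Q := sup_le hTQ inf_le_left
  obtain ⟨ψ₀, hψ₀1, hψ₀K, hψ₀T⟩ := hL.exists_layer_char hKT hTd hcT hφ₀ hφ₀1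
  have hcy : ⁅c, y⁆ ∈ E := Subgroup.mem_sup_left (by
    rw [commutatorElement_def]
    exact mul_mem ((inferInstance : T.Normal).conj_mem y hy c) (inv_mem hy))
  have hEc : ⁅E, Q⁆ ≤ K ⊔ fixd Q c := Subgroup.commutator_le.2 fun e he g hg => by
    obtain ⟨t, ht, d, hd, rfl⟩ := Subgroup.mem_sup_of_normal_left.1 he
    rw [show ⁅t * d, g⁆ = t * ⁅d, g⁆ * t⁻¹ * ⁅t, g⁆ by
      rw [commutatorElement_def, commutatorElement_def, commutatorElement_def]; group]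
    refine mul_mem (Subgroup.mem_sup_right ((inferInstance : (fixd Q c).Normal).conj_mem _ ?_ t))
      (Subgroup.mem_sup_left (hcT (Subgroup.commutator_mem_commutator ht hg)))
    rw [commutatorElement_def, show d * g * d⁻¹ * g⁻¹ = d * (g * d⁻¹ * g⁻¹) by group]
    exact mul_mem hd ((inferInstance : (fixd Q c).Normal).conj_mem _ (inv_mem hd) g)
  haveI : ((K ⊔ fixd Q c).subgroupOf E).Normal := Subgroup.normal_subgroupOf
  obtain ⟨l, hlK, hly⟩ := sep_char E (K ⊔ fixd Q c)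
    ((Subgroup.commutator_mono le_rfl hEQ).trans hEc) hcy hmov
  have hlinv : Q ≤ stab l := le_stab_of_kills hEc hlK
  haveI : (E.subgroupOf Q).Normal := Subgroup.normal_subgroupOf
  haveI := Fintype.ofFinite (E.subgroupOf Q)
  let l' : E.subgroupOf Q →* ℂˣ := l.comp (Subgroup.subgroupOfEquivOfLe hEQ).toMonoidHom
  obtain ⟨ε₀, hε₀, hc₀⟩ := Clifford.exists_constituent_res (E.subgroupOf Q) ψ₀.2
  have hε : Cfsg.IsIrrCharacter (E.subgroupOf Q) (fun x => (l' x : ℂ) * ε₀ x) :=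
    Char.IsIrrCharacter.linear_mul hε₀ l'
  obtain ⟨ψ, hψ⟩ := Blk83.exists_over (E.subgroupOf Q) ⟨_, hε⟩
  set L : (E.subgroupOf Q → ℂ) → (E.subgroupOf Q → ℂ) := fun η x => (l' x : ℂ) * η x with hLdef
  have hl'inv : ∀ (g : Q) (m : E.subgroupOf Q), l' ⟨g * m * g⁻¹,
      (inferInstance : (E.subgroupOf Q).Normal).conj_mem (m : Q) m.2 g⟩ = l' m := fun g m =>
    (congrArg l (Subtype.ext rfl)).trans (DFunLike.congr_fun (mem_stab.1 (hlinv g.2)) (Subgroup.subgroupOfEquivOfLe hEQ m))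
  have hconjL : ∀ g : Q, CharTwist.conjFun (E.subgroupOf Q) (L ε₀) g =
      L (CharTwist.conjFun (E.subgroupOf Q) ε₀ g) := fun g => funext fun m => by
    show (l' _ : ℂ) * ε₀ _ = (l' m : ℂ) * ε₀ _
    rw [hl'inv]
  have horb : Clifford.orbit (E.subgroupOf Q) (L ε₀) =
      (Clifford.orbit (E.subgroupOf Q) ε₀).image L := by
    ext η
    rw [Clifford.mem_orbit, Finset.mem_image]
    constructor
    · rintro ⟨g, rfl⟩
      exact ⟨_, (Clifford.mem_orbit _).2 ⟨g, rfl⟩, (hconjL g).symm⟩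
    · rintro ⟨x, hx, rfl⟩
      obtain ⟨g, rfl⟩ := (Clifford.mem_orbit _).1 hx
      exact ⟨g, hconjL g⟩
  have hLinj : Function.Injective L := fun a b h => funext fun x =>
    mul_left_cancel₀ (Units.ne_zero (l' x)) (congrFun h x)
  have hv₀ := hv ψ₀ hψ₀1
  set a := Cfsg.classInner (fun x : E.subgroupOf Q => (ψ : Q → ℂ) x) (L ε₀) with hadef
  set a₀ := Cfsg.classInner (fun x : E.subgroupOf Q => (ψ₀ : Q → ℂ) x) ε₀ with ha₀def
  have hres : ∀ x : E.subgroupOf Q,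
      (ψ : Q → ℂ) x = a / a₀ * ((l' x : ℂ) * (ψ₀ : Q → ℂ) x) := by
    intro x
    have h1 := congrFun (Clifford.res_eq (E.subgroupOf Q) ψ.2 hε hψ) x
    have h2 := congrFun (Clifford.res_eq (E.subgroupOf Q) ψ₀.2 hε₀ hc₀) x
    rw [show (fun x => (l' x : ℂ) * ε₀ x) = L ε₀ from rfl, horb,
      Finset.sum_image hLinj.injOn] at h1
    simp only [Pi.smul_apply, Finset.sum_apply, smul_eq_mul] at h1 h2
    rw [h1, h2]
    simp only [hLdef, ← Finset.mul_sum]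
    rw [← ha₀def, ← hadef]
    field_simp
  have hψ1 : Cfsg.charDegree (ψ : Q → ℂ) ≠ 1 := fun h1 => by
    have h0 : (ψ : Q → ℂ) 1 = 1 := by rw [← CharTools.irr_degree_cast, h1, Nat.cast_one]
    obtain ⟨ν, hν⟩ := CharDeep.Lin.exists_hom_of_deg_one (Char.IsIrrCharacter.isCharacter ψ.2) h0
    have hone := hres 1
    rw [OneMemClass.coe_one, h0, map_one, Units.val_one, one_mul] at hone
    have hy' : ∀ z (hz : z ∈ T), l ⟨z, Subgroup.mem_sup_left hz⟩ * φ₀ ⟨z, hz⟩ = 1 := fun z hz => by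
      have h' := hres ⟨⟨z, hTQ hz⟩, Subgroup.mem_sup_left hz⟩
      rw [hν, AbLayer.apply_eq_one_of_mem_derived _ (hTd hz) ν, Units.val_one, hψ₀T z hz] at h'
      refine Units.ext ?_
      rw [Units.val_mul, Units.val_one]
      calc ((l' ⟨⟨z, hTQ hz⟩, Subgroup.mem_sup_left hz⟩ : ℂˣ) : ℂ) * (φ₀ ⟨z, hz⟩ : ℂ)
          = a / a₀ * (ψ₀ : Q → ℂ) 1 *
              (((l' ⟨⟨z, hTQ hz⟩, Subgroup.mem_sup_left hz⟩ : ℂˣ) : ℂ) * (φ₀ ⟨z, hz⟩ : ℂ)) := by
            rw [← hone, one_mul]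
        _ = 1 := by rw [eq_comm, h']; ring
    have hcyT : ⁅c, y⁆ ∈ T := by
      rw [commutatorElement_def]
      exact mul_mem ((inferInstance : T.Normal).conj_mem y hy c) (inv_mem hy)
    have h3 := DFunLike.congr_fun (mem_stab.1 hfix) ⟨y, hy⟩
    refine hly ?_
    have h4 := hy' _ hcyT
    rw [show (⟨⁅c, y⁆, hcyT⟩ : T) = MulAut.conjNormal c (⟨y, hy⟩ : T) * (⟨y, hy⟩ : T)⁻¹ from
        Subtype.ext (show ⁅c, y⁆ = ((MulAut.conjNormal c (⟨y, hy⟩ : T) * (⟨y, hy⟩ : T)⁻¹ : T) : G) by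
          rw [Subgroup.coe_mul, Subgroup.coe_inv, MulAut.conjNormal_apply, commutatorElement_def]),
      map_mul φ₀, map_inv, show φ₀ (MulAut.conjNormal c ⟨y, hy⟩) = φ₀ ⟨y, hy⟩ from h3,
      mul_inv_cancel, mul_one] at h4
    exact h4
  have hvψ := hv ψ hψ1
  let lq : Q → ℂ := fun x => if hx : (x : G) ∈ E then (l ⟨x, hx⟩ : ℂ) else 1
  have hglob : ∀ x : Q, (ψ : Q → ℂ) x = a / a₀ * (lq x * (ψ₀ : Q → ℂ) x) := fun x => by
    by_cases hx : (x : G) ∈ E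
    · rw [show lq x = (l ⟨x, hx⟩ : ℂ) from dif_pos hx]
      exact hres ⟨x, hx⟩
    · rw [hvψ x hx, hv₀ x hx, mul_zero, mul_zero]
  have hlq : ∀ x, lq x * conj (lq x) = 1 := fun x => by
    simp only [lq]
    split_ifs with hx
    · rw [Complex.mul_conj', Complex.norm_eq_one_of_pow_eq_one (n := Nat.card E) ?_
        Nat.card_pos.ne', Complex.ofReal_one, one_pow]
      rw [← Units.val_pow_eq_pow_val, ← map_pow, pow_card_eq_one', map_one, Units.val_one]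
    · simp
  have hr : a / a₀ * conj (a / a₀) = 1 := by
    have h1 := Char.classInner_irr_self ψ.2
    have h0 := Char.classInner_irr_self ψ₀.2
    have hterm : ∀ x, (ψ : Q → ℂ) x * conj ((ψ : Q → ℂ) x) =
        a / a₀ * conj (a / a₀) * ((ψ₀ : Q → ℂ) x * conj ((ψ₀ : Q → ℂ) x)) := fun x => by
      rw [hglob x, map_mul, map_mul]
      linear_combination (a / a₀ * conj (a / a₀) * ((ψ₀ : Q → ℂ) x * conj ((ψ₀ : Q → ℂ) x))) * hlq x
    simp only [Cfsg.classInner, hterm, ← Finset.mul_sum] at h1 h0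
    rw [mul_left_comm, h0, mul_one] at h1
    exact h1
  have hdeg : Cfsg.charDegree (ψ : Q → ℂ) = Cfsg.charDegree (ψ₀ : Q → ℂ) := by
    refine Nat.mul_self_inj.1 (Nat.cast_injective (R := ℂ) ?_)
    have h := hglob 1
    rw [show lq 1 = 1 by simp [lq, show (⟨(1 : G), E.one_mem⟩ : E) = 1 from rfl], one_mul,
      ← CharTools.irr_degree_cast, ← CharTools.irr_degree_cast] at h
    rw [Nat.cast_mul, Nat.cast_mul]
    calc (Cfsg.charDegree (ψ : Q → ℂ) : ℂ) * Cfsg.charDegree (ψ : Q → ℂ)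
        = (Cfsg.charDegree (ψ : Q → ℂ) : ℂ) * conj (Cfsg.charDegree (ψ : Q → ℂ) : ℂ) := by
          rw [Complex.conj_natCast]
      _ = a / a₀ * conj (a / a₀) * ((Cfsg.charDegree (ψ₀ : Q → ℂ) : ℂ) *
            Cfsg.charDegree (ψ₀ : Q → ℂ)) := by
          rw [h, map_mul, Complex.conj_natCast]; ring
      _ = _ := by rw [hr, one_mul]
  -- inertia groups
  have hin₀ : CharTwist.inertia Q (ψ₀ : Q → ℂ) = ⊤ := by
    rw [hL.inertia_eq hTQ hcT hφ₀ hψ₀K hψ₀T hv₀, Subgroup.eq_top_iff']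
    intro g
    obtain ⟨k, hk⟩ := hL.gen g
    rw [show g = c ^ k * ((c ^ k)⁻¹ * g) by group]
    exact mul_mem (pow_mem hfix k) (le_stab_of_kills hcT hφ₀ hk)
  have hcψ : c ∉ CharTwist.inertia Q (ψ : Q → ℂ) := by
    intro hc
    have hcyQ : c * y * c⁻¹ ∈ Q := (inferInstance : Q.Normal).conj_mem y (hTQ hy) c
    have hcyE : c * y * c⁻¹ ∈ E :=
      Subgroup.mem_sup_left ((inferInstance : T.Normal).conj_mem y hy c)
    have h := congrFun (CharTwist.mem_inertia.1 hc) ⟨y, hTQ hy⟩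
    change (ψ : Q → ℂ) ⟨c * y * c⁻¹, hcyQ⟩ = (ψ : Q → ℂ) ⟨y, hTQ hy⟩ at h
    rw [hres ⟨⟨_, hcyQ⟩, hcyE⟩, hres ⟨⟨y, hTQ hy⟩, Subgroup.mem_sup_left hy⟩,
      hψ₀T _ hy _, hψ₀T _ ((inferInstance : T.Normal).conj_mem y hy c) _,
      show φ₀ ⟨c * y * c⁻¹, _⟩ = φ₀ ⟨y, hy⟩ from
        DFunLike.congr_fun (mem_stab.1 hfix) ⟨y, hy⟩] at h
    have hr0 : a / a₀ ≠ 0 := fun h0 => by rw [h0, zero_mul] at hr; exact zero_ne_one hr
    have h2 := mul_right_cancel₀ (mul_ne_zero (CharTools.irr_apply_one_ne_zero ψ₀) (Units.ne_zero _))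
      (mul_left_cancel₀ hr0 h)
    refine hly ?_
    rw [show (⟨⁅c, y⁆, hcy⟩ : E) = ⟨_, hcyE⟩ * (⟨y, Subgroup.mem_sup_left hy⟩ : E)⁻¹ from
      Subtype.ext (commutatorElement_def c y), map_mul, map_inv, mul_inv_eq_one]
    exact Units.ext h2
  obtain ⟨χ₀, hχ₀⟩ := hL.exists_degree ψ₀
  obtain ⟨χ, hχ⟩ := hL.exists_degree ψ
  rw [hin₀, Subgroup.index_top, one_mul] at hχ₀
  rw [hdeg] at hχ
  have he := hL.frob.hnd χ₀ χ (hχ₀ ▸ deg_gt hψ₀1) (hχ₀ ▸ hχ ▸ dvd_mul_left _ _)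
  rw [hχ₀, hχ] at he
  have h1 : (CharTwist.inertia Q (ψ : Q → ℂ)).index = 1 :=
    (Nat.eq_of_mul_eq_mul_right (CharTools.irr_degree_pos ψ₀) ((one_mul _).trans he)).symm
  exact hcψ (Subgroup.index_eq_one.1 h1 ▸ Subgroup.mem_top c)

end Lvl

end CfsgLib.NoDiv
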