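import Cfsg.Agent.Lib.NoDiv.Setup
import Cfsg.Agent.Lib.NoDiv.CamClass
import Cfsg.Agent.Lib.Char.Clifford
import Cfsg.Agent.Lib.Char.Normal

/-!
# Scalar restrictions, separating characters and common stabilisers
-/

set_option autoImplicit false

open scoped Classical commutatorElement ComplexConjugate
open CfsgLib CfsgLib.DegGraph

namespace CfsgLib.NoDiv

universe u

variable {G : Type u} [Group G] [Finite G]

/-- Characters of `A` trivial on `B` separate when `A / B` is abelian. -/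
theorem sep_char (A B : Subgroup G) [(B.subgroupOf A).Normal] (h : ⁅A, A⁆ ≤ B) {x : G}
    (hx : x ∈ A) (hxB : x ∉ B) :
    ∃ χ : A →* ℂˣ, (∀ b : A, (b : G) ∈ B → χ b = 1) ∧ χ ⟨x, hx⟩ ≠ 1 := by
  letI : CommGroup (↥A ⧸ B.subgroupOf A) :=
    { (inferInstance : Group _) with mul_comm := comm_quotient_of_le G h }
  by_contra hcon
  push Not at hcon
  refine hxB (Subgroup.mem_subgroupOf.1 ((QuotientGroup.eq_one_iff (N := B.subgroupOf A)
    (⟨x, hx⟩ : A)).1 (Four.eq_one_of_forall fun χ => ?_)))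
  refine hcon (χ.comp (QuotientGroup.mk' (B.subgroupOf A))) fun b hb => ?_
  rw [MonoidHom.comp_apply, show QuotientGroup.mk' (B.subgroupOf A) b = 1 from
    (QuotientGroup.eq_one_iff b).2 hb, map_one]

/-- An element on which a character takes its degree is in the kernel. -/
theorem kernel_mul {Γ : Type u} [Group Γ] [Finite Γ] (ψ : Cfsg.IrrCharacter Γ) {t : Γ}
    (h : ∀ g, (ψ : Γ → ℂ) ⁅t, g⁆ = (ψ : Γ → ℂ) 1) :
    (ψ : Γ → ℂ) t ≠ 0 ∧
      ∀ g, (ψ : Γ → ℂ) (t * g) * (ψ : Γ → ℂ) 1 = (ψ : Γ → ℂ) t * (ψ : Γ → ℂ) g := by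
  obtain ⟨χ, n, ρ, hρ, rfl⟩ := ψ
  haveI := hρ
  have hn : (n : ℂ) ≠ 0 := by
    have := CharTools.irr_apply_one_ne_zero
      (⟨ρ.character, n, ρ, hρ, rfl⟩ : Cfsg.IrrCharacter Γ)
    change ρ.character 1 ≠ 0 at this
    rwa [ρ.char_one, Module.finrank_fin_fun] at this
  have hker : ∀ g, ρ ⁅t, g⁆ = 1 := fun g => by
    have h1 : ρ.character ⁅t, g⁆ = (n : ℂ) := (h g).trans (by
      show ρ.character 1 = _
      rw [ρ.char_one, Module.finrank_fin_fun])
    obtain ⟨ω, hω⟩ := Char.eq_smul_one_of_norm_character_eq ρ ⁅t, g⁆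
      (by rw [h1, Complex.norm_natCast, Module.finrank_fin_fun])
    have h2 : ω * (n : ℂ) = (n : ℂ) := by
      rw [Representation.character, hω, map_smul, LinearMap.trace_one, smul_eq_mul,
        Module.finrank_fin_fun] at h1
      exact h1
    rw [hω, mul_eq_right₀ hn |>.1 h2, one_smul]
  obtain ⟨c, hc⟩ := Char.exists_scalar_of_commute ρ (ρ t) fun g => by
    rw [← map_mul, ← map_mul, show t * g = ⁅t, g⁆ * (g * t) by
      rw [commutatorElement_def]; group, map_mul, hker, one_mul]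
  have hval : ∀ g, ρ.character (t * g) = c * ρ.character g := fun g => by
    simp [Representation.character, map_mul, hc]
  have h1 : ρ.character t = c * ρ.character 1 := by simpa using hval 1
  refine ⟨fun h0 => ?_, fun g => by
    show ρ.character (t * g) * ρ.character 1 = ρ.character t * ρ.character g
    rw [hval, h1]; ring⟩
  have hc0 : c ≠ 0 := fun h2 => by
    have h3 := hval t⁻¹
    rw [mul_inv_cancel, h2, zero_mul, ρ.char_one, Module.finrank_fin_fun] at h3
    exact hn h3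
  change ρ.character t = 0 at h0
  rw [h1, ρ.char_one, Module.finrank_fin_fun] at h0
  exact mul_ne_zero hc0 hn h0

/-- The scalar of a subgroup acting centrally. -/
theorem exists_scalar_hom {Γ : Type u} [Group Γ] [Finite Γ] (ψ : Cfsg.IrrCharacter Γ)
    (T : Subgroup Γ) (h : ∀ t ∈ T, ∀ g, (ψ : Γ → ℂ) ⁅t, g⁆ = (ψ : Γ → ℂ) 1) :
    ∃ μ : T →* ℂˣ, ∀ (t : T) g, (ψ : Γ → ℂ) ((t : Γ) * g) = (μ t : ℂ) * (ψ : Γ → ℂ) g := by
  have h1 := CharTools.irr_apply_one_ne_zero ψ
  let μ : T →* ℂˣ := MonoidHom.mk'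
    (fun t => Units.mk0 ((ψ : Γ → ℂ) t / (ψ : Γ → ℂ) 1)
      (div_ne_zero (kernel_mul ψ (h t t.2)).1 h1)) fun t s => by
    refine Units.ext ?_
    show (ψ : Γ → ℂ) ((t : Γ) * s) / _ = _ / _ * (_ / _)
    rw [div_mul_div_comm, div_eq_div_iff h1 (mul_ne_zero h1 h1), ← (kernel_mul ψ (h t t.2)).2]
    ring
  refine ⟨μ, fun t g => ?_⟩
  show _ = (ψ : Γ → ℂ) t / _ * _
  rw [div_mul_eq_mul_div, eq_div_iff h1]
  exact (kernel_mul ψ (h t t.2)).2 g

/-- A character over an invariant linear character. -/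
theorem exists_over_sub (Q T : Subgroup G) [T.Normal] (hTQ : T ≤ Q) (φ : T →* ℂˣ)
    (hinv : Q ≤ stab φ) :
    ∃ ψ : Cfsg.IrrCharacter Q, ∀ t : T,
      (ψ : Q → ℂ) ⟨t, hTQ t.2⟩ = (ψ : Q → ℂ) 1 * (φ t : ℂ) := by
  haveI := Fintype.ofFinite Q
  haveI : (T.subgroupOf Q).Normal := Subgroup.normal_subgroupOf
  haveI := Fintype.ofFinite (T.subgroupOf Q)
  let e := Subgroup.subgroupOfEquivOfLe hTQ
  have hlin := Char.isIrrCharacter_linear (φ.comp e.toMonoidHom)
  obtain ⟨ψ, hψ⟩ := Blk83.exists_over (T.subgroupOf Q) ⟨_, hlin⟩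
  refine ⟨ψ, fun t => ?_⟩
  let lv : T.subgroupOf Q →* ℂˣ := φ.comp e.toMonoidHom
  have hres := Char.restrict_eq_smul_sum_conj (T.subgroupOf Q) (ψ : Q → ℂ) ψ.2 _ hlin hψ
  have hconj : {η : T.subgroupOf Q → ℂ | ∃ g : Q, η = CharTwist.conjFun (T.subgroupOf Q)
      (fun m => (lv m : ℂ)) g} = {fun m => (lv m : ℂ)} := by
    refine Set.eq_singleton_iff_unique_mem.2 ⟨⟨1, (CharTwist.conjFun_one _ _).symm⟩, ?_⟩
    rintro _ ⟨g, rfl⟩
    funext m
    refine congrArg Units.val ?_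
    exact (congrArg φ (Subtype.ext rfl)).trans
      (DFunLike.congr_fun (mem_stab.1 (hinv g.2)) (e m))
  rw [hconj, finsum_mem_singleton] at hres
  have h1 := congrFun hres 1
  have h2 := congrFun hres ⟨⟨t, hTQ t.2⟩, t.2⟩
  simp only [Pi.smul_apply, smul_eq_mul, map_one, Units.val_one, mul_one] at h1
  simp only [Pi.smul_apply, smul_eq_mul] at h2
  rw [← h1] at h2
  exact h2

/-- The degree of a character vanishing outside a subgroup on which it is scalar. -/
theorem sq_degree_of_vanish {Γ : Type u} [Group Γ] [Finite Γ] (ψ : Cfsg.IrrCharacter Γ)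
    (E : Subgroup Γ) (hv : ∀ x ∉ E, (ψ : Γ → ℂ) x = 0) (μ : E →* ℂˣ)
    (hμ : ∀ x : E, (ψ : Γ → ℂ) x = (ψ : Γ → ℂ) 1 * (μ x : ℂ)) :
    Cfsg.charDegree (ψ : Γ → ℂ) * Cfsg.charDegree (ψ : Γ → ℂ) = E.index := by
  haveI := Fintype.ofFinite Γ
  have h := Char.classInner_irr_self ψ.2
  set d := Cfsg.charDegree (ψ : Γ → ℂ)
  have hd : (ψ : Γ → ℂ) 1 = (d : ℂ) := (CharTools.irr_degree_cast ψ).symm
  have hterm : ∀ x, (ψ : Γ → ℂ) x * conj ((ψ : Γ → ℂ) x) =
      if x ∈ E then (d : ℂ) * d else 0 := fun x => by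
    split_ifs with hx
    · rw [hμ ⟨x, hx⟩, hd, map_mul, Complex.conj_natCast, mul_mul_mul_comm, Complex.mul_conj',
        Complex.norm_eq_one_of_pow_eq_one (n := Nat.card E) ?_ Nat.card_pos.ne',
        Complex.ofReal_one, one_pow, mul_one]
      rw [← Units.val_pow_eq_pow_val, ← map_pow, pow_card_eq_one', map_one, Units.val_one]
    · rw [hv x hx, zero_mul]
  simp only [Cfsg.classInner, hterm] at h
  rw [Finset.sum_ite, Finset.sum_const_zero, add_zero, Finset.sum_const, nsmul_eq_mul,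
    ← Fintype.card_subtype, ← Nat.card_eq_fintype_card, inv_mul_eq_iff_eq_mul₀
    (Nat.cast_ne_zero.2 Nat.card_pos.ne'), mul_one] at h
  have h2 : Nat.card E * (d * d) = Nat.card Γ := by exact_mod_cast h
  exact Nat.eq_of_mul_eq_mul_left Nat.card_pos (h2.trans E.card_mul_index.symm)

/-- When no stabiliser lies properly below another they all agree. -/
theorem stab_const {M : Subgroup G} [M.Normal] (N : Subgroup G) [N.Normal]
    (hab : commutator G ≤ N) (W : Subgroup (M →* ℂˣ))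
    (hW : ∀ g, ∀ v ∈ W, cj g v ∈ W) (hN : ∀ v ∈ W, N ≤ stab v)
    (hmin : ∀ u ∈ W, ∀ w ∈ W, u ≠ 1 → w ≠ 1 → stab w ≤ stab u → stab w = stab u)
    {u w : M →* ℂˣ} (hu : u ∈ W) (hu1 : u ≠ 1) (hw : w ∈ W) (hw1 : w ≠ 1) : stab u = stab w := by
  suffices key : ∀ a : G, ∀ v ∈ W, v ≠ 1 → a ∈ stab v → ∀ w ∈ W, a ∈ stab w from
    SetLike.ext fun a => ⟨fun h => key a u hu hu1 h w hw, fun h => key a w hw hw1 h u hu⟩
  intro a v hv hv1 hav w hw
  by_contra hw'
  have hcomm : ∀ (g : G), ∀ x ∈ W, cj g (cj a x) = cj a (cj g x) := fun g x hx => by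
    rw [← cj_mul, ← cj_mul]
    refine cj_eq_cj_iff.2 ?_
    rw [show a * g * (g * a)⁻¹ = ⁅a, g⁆ by rw [commutatorElement_def]; group]
    exact hN x hx (hab (Subgroup.commutator_mem_commutator (Subgroup.mem_top a) (Subgroup.mem_top g)))
  set d : (M →* ℂˣ) → (M →* ℂˣ) := fun x => cj a x / x with hd
  have hdiv : ∀ (g : G) (x y : M →* ℂˣ), cj g (x / y) = cj g x / cj g y := fun g x y => rfl
  have hdiveq : ∀ x y : M →* ℂˣ, x / y = 1 ↔ x = y := fun x y => by
    simp only [MonoidHom.ext_iff, MonoidHom.div_apply, MonoidHom.one_apply, div_eq_one]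
  have hdW : ∀ x ∈ W, d x ∈ W := fun x hx => W.div_mem (hW a x hx) hx
  have hd1 : ∀ x, d x = 1 ↔ a ∈ stab x := fun x => by rw [mem_stab]; exact hdiveq _ _
  have hone : d 1 = 1 := (hd1 1).2 (mem_stab.2 (cj_hom_one a))
  have hle : ∀ x ∈ W, stab x ≤ stab (d x) := fun x hx g hg => by
    rw [mem_stab, hd, hdiv, hcomm g x hx, mem_stab.1 hg]
  have hker : ∀ x ∈ W, d x ≠ 1 → d (d x) ≠ 1 := fun x hx hx1 h => by
    have heq := hmin _ (hdW x hx) x hx hx1 (fun h0 => hx1 (by rw [h0, hone])) (hle x hx)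
    exact hx1 ((hd1 x).2 (heq ▸ (hd1 _).1 h))
  set z := d w
  have hz : z ≠ 1 := fun h => hw' ((hd1 w).1 h)
  have hzW : z ∈ W := hdW w hw
  have hdz : d z ≠ 1 := hker w hw hz
  have hu : d v = 1 := (hd1 v).2 hav
  have hmul : ∀ x y, d (x * y) = d x * d y := fun x y => MonoidHom.ext fun l => by
    simp only [hd, cj_hom_mul, MonoidHom.div_apply, MonoidHom.mul_apply, mul_div_mul_comm]
  have hne : v * z ≠ 1 := fun h => hdz (by
    have h4 := hmul v z
    rw [h, hone, hu] at h4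
    exact MonoidHom.ext fun l => by simpa using (DFunLike.congr_fun h4 l).symm)
  have hle2 : stab (v * z) ≤ stab v := by
    intro g hg
    have h := mem_stab.1 hg
    rw [cj_hom_mul] at h
    have h2 : d (cj g v / v) = 1 := by
      simp only [hd, hdiv, ← hcomm g v hv, mem_stab.1 hav]
      exact (hdiveq _ _).2 rfl
    have h3 : cj g v / v = d (w / cj g w) := by
      rw [show cj g v / v = z / cj g z from MonoidHom.ext fun l => by
        have h5 := DFunLike.congr_fun h l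
        simp only [MonoidHom.mul_apply] at h5
        simp only [MonoidHom.div_apply]
        rw [div_eq_div_iff_mul_eq_mul, h5, mul_comm]]
      simp only [z, hd, hdiv, hcomm g w hw]
      refine MonoidHom.ext fun l => ?_
      simp only [MonoidHom.div_apply, div_div_div_comm]
    rw [mem_stab, ← hdiveq, h3]
    by_contra h4
    exact hker _ (W.div_mem hw (hW g w hw)) h4 (h3 ▸ h2)
  exact hdz (by
    have h4 := (hd1 _).2 ((hmin v hv _ (W.mul_mem hv hzW) hv1 hne hle2).symm ▸ hav)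
    rw [hmul, hu] at h4
    exact MonoidHom.ext fun l => by simpa using DFunLike.congr_fun h4 l)

end CfsgLib.NoDiv
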