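import Cfsg.Agent.Lib.NoDiv.Complement
import Cfsg.Agent.Lib.ThreeDeg.DerivedLength

/-!
# From the level back to the group
-/

set_option autoImplicit false

open scoped Classical commutatorElement
open CfsgLib CfsgLib.DegGraph

namespace CfsgLib.NoDiv

universe u

variable {G : Type u} [Group G] [Finite G] {N : Subgroup G} [N.Normal] {q : ℕ}
  {M : Subgroup G} [M.Normal] {Q : Subgroup G}

omit [Finite G] [N.Normal] [M.Normal] in
theorem comp_disjoint [Finite G] (hC : Comp N M q) (hQ : IsPGroup q Q) (hq : q.Prime) {x : G}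
    (hxM : x ∈ M) (hxQ : x ∈ Q) : x = 1 := by
  haveI : Fact q.Prime := ⟨hq⟩
  obtain ⟨k, hk⟩ := IsPGroup.iff_card.1 hQ
  exact orderOf_eq_one_iff.1 (Nat.eq_one_of_dvd_coprimes (hC.coprime.pow_right k)
    (Subgroup.orderOf_dvd_natCard M hxM) (hk ▸ Subgroup.orderOf_dvd_natCard Q hxQ))

omit [N.Normal] in
theorem comp_split (hC : Comp N M q) (hq : q.Prime) (hQN : Q ≤ N) (hQs : ¬ q ∣ Q.relIndex N)
    {n : G} (hn : n ∈ N) : ∃ m ∈ M, ∃ x ∈ Q, m * x = n := by
  obtain ⟨k, hk⟩ := hC.index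
  have h : N ≤ M ⊔ Q := by
    refine Subgroup.relIndex_eq_one.1 (Nat.eq_one_of_dvd_coprimes
      ((hq.coprime_iff_not_dvd.2 hQs).pow_left k) ?_ ?_)
    · exact hk ▸ Subgroup.relIndex_dvd_of_le_left N le_sup_left
    · exact Subgroup.relIndex_dvd_of_le_left N le_sup_right
  exact Subgroup.mem_sup_of_normal_left.1 (h hn)

/-- The layer `[M, N]`. -/
theorem comp_layer (hF : Frob N q) (hC : Comp N M q) (hQN : Q ≤ N) (hQ : IsPGroup q Q)
    (hQs : ¬ q ∣ Q.relIndex N) {c : G} (hc : c ∈ Subgroup.normalizer (Q : Set G))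
    (hgen : ∀ g : G, ∃ k : ℕ, (c ^ k)⁻¹ * g ∈ N) : Layer N q ⁅M, N⁆ Q where
  le_comm := Subgroup.commutator_mono hC.le le_rfl
  le_N := hQN
  pgroup := hQ
  sylow := hQs
  coprime := fun h => hF.prime.ne_one (Nat.eq_one_of_dvd_coprimes hC.coprime
    (h.trans (Subgroup.card_dvd_of_le (Subgroup.commutator_le_left M N))) dvd_rfl)
  sup_normal := sup_normal_of_normalizer hF hQN hc hgen fun n hn x hx => by
    obtain ⟨m, hm, y, hy, rfl⟩ := comp_split hC hF.prime hQN hQs hn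
    have hyx : ⁅y, x⁆ ∈ Q := by
      rw [commutatorElement_def]
      exact mul_mem (mul_mem (mul_mem hy hx) (inv_mem hy)) (inv_mem hx)
    rw [show ⁅m * y, x⁆ = ⁅m, ⁅y, x⁆⁆ * ⁅y, x⁆ * ⁅m, x⁆ by
      rw [commutatorElement_def, commutatorElement_def, commutatorElement_def]; group]
    exact mul_mem (mul_mem
      (Subgroup.mem_sup_left (Subgroup.commutator_mem_commutator hm (hQN hyx)))
      (Subgroup.mem_sup_right hyx))
      (Subgroup.mem_sup_left (Subgroup.commutator_mem_commutator hm (hQN hx)))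

/-- What a moved character of the layer gives on the level. -/
theorem stab_level (hF : Frob N q) (hC : Comp N M q) (hA : Layer N q ⁅M, N⁆ Q) {c : G}
    (hgen : ∀ g : G, ∃ k : ℕ, (c ^ k)⁻¹ * g ∈ N) {v : ↥⁅M, N⁆ →* ℂˣ} (hv : v ≠ 1) :
    (((stab v ⊓ N).map (QuotientGroup.mk' M)).relIndex (N.map (QuotientGroup.mk' M)) ∣
      (stab v).relIndex N) ∧
    (∀ a ∈ (stab v ⊓ N).map (QuotientGroup.mk' M), ∀ b ∈ (stab v ⊓ N).map (QuotientGroup.mk' M),
      Commute a b) ∧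
    ∃ x ∈ N.map (QuotientGroup.mk' M), ∃ j : ℕ, ¬ N.index ∣ j ∧
      (stab v).index = (stab v).relIndex N * j ∧
      ∀ b ∈ (stab v ⊓ N).map (QuotientGroup.mk' M), Commute (x * QuotientGroup.mk' M c ^ j) b := by
  obtain ⟨-, hab, -, hnle⟩ := hA.moved_facts hF hv
  set π := QuotientGroup.mk' M
  have hcomm : ∀ a ∈ stab v, ∀ b ∈ stab v, Commute (π a) (π b) := fun a ha b hb => by
    refine commutatorElement_eq_one_iff_mul_comm.1 ?_
    rw [← map_commutatorElement]
    exact (QuotientGroup.eq_one_iff _).2 (Subgroup.commutator_le_left M N (hab a ha b hb))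
  refine ⟨?_, ?_, ?_⟩
  · rw [Subgroup.relIndex_map_map, QuotientGroup.ker_mk', sup_eq_left.2 hC.le,
      ← Subgroup.inf_relIndex_right (stab v) N]
    exact Subgroup.relIndex_dvd_of_le_left N le_sup_left
  · rintro _ ⟨a, ha, rfl⟩ _ ⟨b, hb, rfl⟩
    exact hcomm a ha.1 b hb.1
  obtain ⟨y, hy, n, hn, rfl⟩ := exists_top N hgen (stab v)
  refine ⟨π n, Subgroup.mem_map_of_mem π hn, (stab v ⊔ N).index, fun hdvd => hnle ?_,
    index_eq_relIndex_mul _ _, ?_⟩
  · have h1 := Nat.dvd_antisymm (Subgroup.index_dvd_of_le (le_sup_right : N ≤ stab v ⊔ N)) hdvd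
    rw [← Subgroup.relIndex_mul_index (le_sup_right : N ≤ stab v ⊔ N)] at h1
    have h2 : N.relIndex (stab v ⊔ N) = 1 := Nat.eq_of_mul_eq_mul_right
      (Nat.pos_of_ne_zero Subgroup.index_ne_zero_of_finite) (h1.symm.trans (one_mul _).symm)
    exact le_sup_left.trans (Subgroup.relIndex_eq_one.1 h2)
  · rintro _ ⟨b, hb, rfl⟩
    rw [← map_pow, ← map_mul]
    exact hcomm _ hy b hb.1

/-- The Frobenius type, all level characters invariant: three degrees. -/
theorem degrees_of_levelInv (hF : Frob N q) (hC : Comp N M q) (hA : Layer N q ⁅M, N⁆ Q)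
    {c : G} (hgen : ∀ g : G, ∃ k : ℕ, (c ^ k)⁻¹ * g ∈ N)
    (hL : Lvl (N.map (QuotientGroup.mk' M)) q (QuotientGroup.mk' M c))
    (hI : LevelInv (N.map (QuotientGroup.mk' M))) :
    ∃ X : ℕ, ∀ χ : Cfsg.IrrCharacter G, Cfsg.charDegree (χ : G → ℂ) = 1 ∨
      Cfsg.charDegree (χ : G → ℂ) = N.index ∨ Cfsg.charDegree (χ : G → ℂ) = X := by
  haveI := Fintype.ofFinite N
  haveI : (M.subgroupOf N).Normal := Subgroup.normal_subgroupOf
  haveI := Fintype.ofFinite (M.subgroupOf N)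
  set π := QuotientGroup.mk' M with hπdef
  obtain ⟨D, hD1, ⟨ψ₀, hψ₀⟩, hall⟩ := hI
  obtain ⟨k, hk⟩ := hC.index
  obtain ⟨a, -, ha⟩ := (Nat.dvd_prime_pow hF.prime).1
    (show D ∣ q ^ k by rw [← hψ₀, ← hk, ← level_card hC]; exact CharTools.degree_dvd_card ψ₀)
  -- `D` is a degree
  obtain ⟨χD, hχD⟩ : ∃ χ : Cfsg.IrrCharacter G, Cfsg.charDegree (χ : G → ℂ) = D := by
    obtain ⟨χ, hχ⟩ := hL.exists_degree ψ₀
    rw [(hall ψ₀ (hψ₀ ▸ hD1)).1, Subgroup.index_top, one_mul, hψ₀] at hχ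
    obtain ⟨χ', hχ'⟩ := ThreeDeg.degree_quotient M χ
    exact ⟨χ', hχ'.trans hχ⟩
  have hDmax : ∀ χ : Cfsg.IrrCharacter G, D ∣ Cfsg.charDegree (χ : G → ℂ) →
      Cfsg.charDegree (χ : G → ℂ) = D := fun χ h =>
    ((hF.hnd χD χ (hχD ▸ lt_of_le_of_ne (hψ₀ ▸ CharTools.irr_degree_pos ψ₀) hD1.symm)
      (hχD ▸ h)).symm.trans hχD)
  have hDN : ∀ ψ : Cfsg.IrrCharacter N, D ∣ Cfsg.charDegree (ψ : N → ℂ) →
      Cfsg.charDegree (ψ : N → ℂ) = D := by
    intro ψ h
    obtain ⟨χ, hχ⟩ := Blk83.exists_over N ψ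
    have h2 := DegGraph.degree_dvd_of_constituent N χ ψ hχ
    exact Nat.dvd_antisymm (hDmax χ (h.trans h2) ▸ h2) h
  -- the complement has linear characters only
  set f := π.subgroupMap N with hfdef
  have hfs : Function.Surjective f := MonoidHom.subgroupMap_surjective π N
  have hlin : ∀ θ : Cfsg.IrrCharacter (M.subgroupOf N),
      Cfsg.charDegree (θ : M.subgroupOf N → ℂ) = 1 := by
    refine linear_of_level hF.prime (M.subgroupOf N) ?_ hk (a := a)
      ⟨_, CharTools.isIrrCharacter_comp f hfs ψ₀.2⟩ (fun m hm => ?_) ?_ (ha ▸ hDN)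
    · rw [Nat.card_congr (Subgroup.subgroupOfEquivOfLe hC.le).toEquiv]
      exact hC.coprime
    · show (ψ₀ : ↥(N.map π) → ℂ) (f m) = (ψ₀ : ↥(N.map π) → ℂ) (f 1)
      rw [map_one, show f m = 1 from Subtype.ext ((QuotientGroup.eq_one_iff _).2 hm)]
    · rw [← ha, ← hψ₀]
      refine Nat.cast_injective (R := ℂ) ?_
      rw [CharTools.irr_degree_cast, CharTools.irr_degree_cast]
      show (ψ₀ : ↥(N.map π) → ℂ) (f 1) = _
      rw [map_one]
  -- nonlinear degrees of `N` are multiples of `D`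
  have hdvd : ∀ ψ : Cfsg.IrrCharacter N, Cfsg.charDegree (ψ : N → ℂ) ≠ 1 →
      D ∣ Cfsg.charDegree (ψ : N → ℂ) := by
    intro ψ h1
    obtain ⟨θ, hθ⟩ := DegGraph.exists_constituent_res ψ (M.subgroupOf N)
    obtain ⟨lθ, hlθ⟩ := CharDeep.Lin.exists_hom_of_deg_one (Char.IsIrrCharacter.isCharacter θ.2)
      (by rw [← CharTools.irr_degree_cast, hlin θ, Nat.cast_one])
    let e := Subgroup.subgroupOfEquivOfLe hC.le
    let θ₀ : M →* ℂˣ := lθ.comp e.symm.toMonoidHom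
    have hθ₀ : ∀ m : M.subgroupOf N, (θ : M.subgroupOf N → ℂ) m = (θ₀ (e m) : ℂ) := fun m => by
      rw [hlθ]
      show _ = ((lθ (e.symm (e m)) : ℂˣ) : ℂ)
      rw [MulEquiv.symm_apply_apply]
    have hLM : ⁅M, N⁆ ≤ M := Subgroup.commutator_le_left M N
    let v : ↥⁅M, N⁆ →* ℂˣ := θ₀.comp (Subgroup.inclusion hLM)
    by_cases hv : v = 1
    · -- invariant
      have hinv : N ≤ stab θ₀ := fun g hg => mem_stab.2 (MonoidHom.ext fun m => by
        show θ₀ (MulAut.conjNormal g m) = θ₀ m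
        rw [← mul_inv_eq_one, ← map_inv, ← map_mul]
        have hx : ⁅g, (m : G)⁆ ∈ ⁅M, N⁆ := by
          rw [Subgroup.commutator_comm]; exact Subgroup.commutator_mem_commutator hg m.2
        refine Eq.trans (congrArg θ₀ (Subtype.ext ?_)) (DFunLike.congr_fun hv ⟨_, hx⟩)
        show _ = ⁅g, (m : G)⁆
        rw [Subgroup.coe_mul, Subgroup.coe_inv, MulAut.conjNormal_apply, commutatorElement_def])
      have hres := Char.restrict_eq_smul_sum_conj (M.subgroupOf N) (ψ : N → ℂ) ψ.2 _ θ.2 hθ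
      have hconj : {η : M.subgroupOf N → ℂ | ∃ g : N,
          η = CharTwist.conjFun (M.subgroupOf N) (θ : M.subgroupOf N → ℂ) g} =
          {(θ : M.subgroupOf N → ℂ)} := by
        refine Set.eq_singleton_iff_unique_mem.2 ⟨⟨1, (CharTwist.conjFun_one _ _).symm⟩, ?_⟩
        rintro _ ⟨g, rfl⟩
        funext m
        show (θ : M.subgroupOf N → ℂ) _ = _
        rw [hθ₀, hθ₀]
        exact congrArg Units.val ((congrArg θ₀ (Subtype.ext
          (MulAut.conjNormal_apply (g : G) (e m)).symm)).trans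
          (DFunLike.congr_fun (mem_stab.1 (hinv g.2)) (e m)))
      rw [hconj, finsum_mem_singleton] at hres
      have hψM : ∀ m : M, (ψ : N → ℂ) ⟨m, hC.le m.2⟩ = (ψ : N → ℂ) 1 * (θ₀ m : ℂ) := by
        intro m
        have h0 := congrFun hres 1
        have h2 := congrFun hres (e.symm m)
        simp only [Pi.smul_apply, smul_eq_mul, hθ₀, map_one, Units.val_one, mul_one,
          MulEquiv.apply_symm_apply] at h0 h2
        rw [← h0] at h2
        exact h2
      obtain ⟨β, hβ, -⟩ := twist_level hC hF.prime ψ θ₀ hinv hψM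
      rw [← hβ, (hall β (hβ ▸ h1)).2]
    · -- moved
      obtain ⟨hdiv, hcomm, -⟩ := stab_level hF hC hA hgen hv
      set B := (stab v ⊓ N).map π
      have hle := TwoDeg.degree_le_index ψ₀ (B.subgroupOf (N.map π))
        fun x hx y hy => Subtype.ext (hcomm _ hx _ hy).eq
      rw [hψ₀] at hle
      change D ≤ B.relIndex (N.map π) at hle
      obtain ⟨s, -, hs⟩ := (Nat.dvd_prime_pow hF.prime).1
        (show B.relIndex (N.map π) ∣ q ^ k by
          rw [← hk, ← level_card hC]; exact Subgroup.index_dvd_card _)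
      rw [ha, hs] at hle
      have hTv : CharTwist.inertia (M.subgroupOf N) (θ : M.subgroupOf N → ℂ) ≤
          (stab v).subgroupOf N := fun g hg => by
        refine mem_stab.2 (MonoidHom.ext fun l => Units.ext ?_)
        show (θ₀ (Subgroup.inclusion hLM (MulAut.conjNormal (g : G) l)) : ℂ) =
          θ₀ (Subgroup.inclusion hLM l)
        have h2 := congrFun (CharTwist.mem_inertia.1 hg) (e.symm (Subgroup.inclusion hLM l))
        simp only [CharTwist.conjFun, hθ₀, MulEquiv.apply_symm_apply] at h2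
        refine Eq.trans (congrArg (fun z => (θ₀ z : ℂ)) (Subtype.ext ?_)) h2
        show ((MulAut.conjNormal (g : G) l : ↥⁅M, N⁆) : G) = _
        rw [MulAut.conjNormal_apply]
        rfl
      rw [ha]
      calc q ^ a ∣ q ^ s := pow_dvd_pow q ((Nat.pow_le_pow_iff_right hF.prime.one_lt).1 hle)
        _ ∣ (stab v).relIndex N := hs ▸ hdiv
        _ ∣ (CharTwist.inertia (M.subgroupOf N) (θ : M.subgroupOf N → ℂ)).index :=
          Subgroup.index_dvd_of_le hTv
        _ ∣ Cfsg.charDegree (ψ : N → ℂ) :=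
          (Dvd.intro _ rfl).trans (index_mul_dvd (M.subgroupOf N) ψ θ hθ)
  refine ⟨D, fun χ => ?_⟩
  obtain ⟨ψ, hψ⟩ := DegGraph.exists_constituent_res χ N
  by_cases h1 : Cfsg.charDegree (ψ : N → ℂ) = 1
  · exact (hF.degree_of_linear_constituent χ ψ hψ h1).imp id Or.inl
  · exact Or.inr (Or.inr (hDmax χ ((hdvd ψ h1).trans
      (DegGraph.degree_dvd_of_constituent N χ ψ hψ))))

/-- The Frobenius type, moved layers: the complement is central in `N`. -/
theorem comp_central (hF : Frob N q) (hC : Comp N M q) (hA : Layer N q ⁅M, N⁆ Q)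
    [Group.IsSolvable G] {c : G} (hgen : ∀ g : G, ∃ k : ℕ, (c ^ k)⁻¹ * g ∈ N)
    (hM : LevelMoved (N.map (QuotientGroup.mk' M)) q (QuotientGroup.mk' M c)) :
    ⁅M, N⁆ = ⊥ := by
  by_contra hne
  haveI : Fact q.Prime := ⟨hF.prime⟩
  set π := QuotientGroup.mk' M with hπdef
  have hidx : (N.map π).index = N.index := level_index hC
  obtain ⟨x₀, hx₀, hx₀L⟩ :=
    SetLike.exists_of_lt (Group.IsSolvable.commutator_lt_of_ne_bot hne)
  obtain ⟨v₀, hv₀⟩ : ∃ v : ↥⁅M, N⁆ →* ℂˣ, v ≠ 1 := by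
    by_contra h
    push Not at h
    exact hx₀L (AbLayer.mem_derived_of_forall hx₀ fun v => by rw [h v]; rfl)
  -- stabilisers lie in the fixed part
  have hfix : ∀ v : ↥⁅M, N⁆ →* ℂˣ, v ≠ 1 → (stab v ⊓ N).map π ≤ fixd (N.map π) (π c) := by
    intro v hv
    obtain ⟨hdiv, -, x, hx, j, hj, hX, hcomm⟩ := stab_level hF hC hA hgen hv
    refine (hM.bound _ (Subgroup.map_mono inf_le_right) x j hx (by rwa [hidx]) hcomm).resolve_right ?_
    rintro ⟨χ, j', d, hj', -, hχ, hd, hdd⟩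
    obtain ⟨χ', hχ'⟩ := ThreeDeg.degree_quotient M χ
    obtain ⟨φ, hφ⟩ := (hA.moved_facts hF hv).1
    rw [hχ] at hχ'
    have hjpos : 0 < j := Nat.pos_of_ne_zero fun h => hj (h ▸ dvd_zero _)
    have hj'pos : 0 < j' := Nat.pos_of_ne_zero fun h => by
      rw [h, zero_dvd_iff] at hj'; omega
    obtain ⟨t, ht⟩ := hdd.trans hdiv
    have he := hF.hnd χ' φ (hχ' ▸ lt_of_lt_of_le hd (Nat.le_mul_of_pos_left _ hj'pos)) (by
      rw [hχ', hφ, hX, mul_comm _ j]
      exact Nat.mul_dvd_mul hj' ((dvd_mul_right d d).trans (hdd.trans hdiv)))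
    rw [hχ', hφ, hX, ht] at he
    have htpos : 0 < t := Nat.pos_of_ne_zero fun h0 =>
      (Nat.card_pos (α := N ⧸ (stab v).subgroupOf N)).ne' (by
        show (stab v).relIndex N = 0
        rw [ht, h0, mul_zero])
    have h3 : j' = j * d * t := Nat.eq_of_mul_eq_mul_right (show 0 < d by omega) (by rw [he]; ring)
    have h4 := Nat.le_of_dvd hjpos hj'
    have h5 : j * 1 < j * d := Nat.mul_lt_mul_of_pos_left hd hjpos
    have h6 : j * d ≤ j * d * t := Nat.le_mul_of_pos_right _ htpos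
    omega
  -- two commuting elements of order `q` acting without fixed points
  obtain ⟨u, hu, z, hz, huq, hzq, hu1, huz, hzu⟩ := hM.pair
  have hlift : ∀ w ∈ rad (N.map π) (π c), ∃ w' ∈ Q, π w' = w := by
    intro w hw
    obtain ⟨n, hn, rfl⟩ := Lvl.rad_le hw
    obtain ⟨m, hm, x, hx, rfl⟩ := comp_split hC hF.prime hA.le_N hA.sylow hn
    exact ⟨x, hx, by rw [map_mul, show π m = 1 from (QuotientGroup.eq_one_iff m).2 hm, one_mul]⟩
  have hinj : ∀ x ∈ Q, π x = 1 → x = 1 := fun x hx h =>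
    comp_disjoint hC hA.pgroup hF.prime (mem_of_mk_eq h) hx
  obtain ⟨u', hu'Q, rfl⟩ := hlift u hu
  obtain ⟨z', hz'Q, rfl⟩ := hlift z hz
  have hu'q : u' ^ q = 1 := hinj _ (pow_mem hu'Q q) (by rw [map_pow, huq])
  have hz'q : z' ^ q = 1 := hinj _ (pow_mem hz'Q q) (by rw [map_pow, hzq])
  have hcm : Commute u' z' := commutatorElement_eq_one_iff_mul_comm.1 (hinj _ (by
    rw [commutatorElement_def]
    exact mul_mem (mul_mem (mul_mem hu'Q hz'Q) (inv_mem hu'Q)) (inv_mem hz'Q)) (by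
      rw [map_commutatorElement]; exact commutatorElement_eq_one_iff_mul_comm.2 huz.eq))
  let A := Subgroup.closure ({u', z'} : Set G)
  letI : CommGroup A := Subgroup.closureCommGroupOfComm (by
    rintro x (rfl | rfl) y (rfl | rfl)
    exacts [rfl, hcm.eq, hcm.eq.symm, rfl])
  have hAQ : A ≤ Q ⊓ (rad (N.map π) (π c)).comap π := by
    rw [Subgroup.closure_le]
    rintro x (rfl | rfl)
    exacts [⟨hu'Q, hu⟩, ⟨hz'Q, hz⟩]
  have hexp : ∀ a : A, a ^ q = 1 := by
    rintro ⟨a, ha⟩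
    suffices a ^ q = 1 by exact Subtype.ext this
    induction ha using Subgroup.closure_induction with
    | mem x hx => rcases hx with rfl | rfl <;> assumption
    | one => rw [one_pow]
    | mul x y hx hy ihx ihy =>
      have h : Commute x y := congrArg Subtype.val (mul_comm (⟨x, hx⟩ : A) ⟨y, hy⟩)
      rw [h.mul_pow, ihx, ihy, one_mul]
    | inv x hx ih => rw [inv_pow, ih, inv_one]
  have hfree : ∀ a : A, a ≠ 1 → ∀ v : ↥⁅M, N⁆ →* ℂˣ, (a : G) ∈ stab v → v = 1 := by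
    intro a ha v hav
    by_contra hv
    refine ha (Subtype.ext (hinj _ (hAQ a.2).1 (Subgroup.mem_bot.1 (hM.disj ▸ ⟨(hAQ a.2).2, ?_⟩))))
    exact hfix v hv (Subgroup.mem_map_of_mem π ⟨hav, hA.le_N (hAQ a.2).1⟩)
  haveI : Finite (↥⁅M, N⁆ →* ℂˣ) := by infer_instance
  have hcyc : IsCyclic A := by
    refine isCyclic_of_semiregular (K := ↥⁅M, N⁆ →* ℂˣ) ((cjHom ⁅M, N⁆).comp A.subtype) ?_ (fun a ha v hv b => ?_) ?_
    · obtain ⟨n, hn⟩ := IsPGroup.iff_card.1 (hA.pgroup.to_le (hAQ.trans inf_le_left))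
      rw [hn]
      refine ((hF.prime.coprime_iff_not_dvd).2 fun hdvd => ?_).pow_left n
      obtain ⟨w, hw⟩ := exists_prime_orderOf_dvd_card' q hdvd
      refine hA.coprime (hw ▸ orderOf_dvd_of_pow_eq_one ?_)
      ext l
      rw [MonoidHom.pow_apply, ← map_pow, pow_card_eq_one', map_one, MonoidHom.one_apply]
    · rw [hfree a ha v ((cjHom_fixed_iff ⁅M, N⁆ (a : G) v).1 hv), map_one]
    · have hu'1 : (⟨u', Subgroup.subset_closure (Set.mem_insert _ _)⟩ : A) ≠ 1 := fun h =>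
        hu1 (by rw [show u' = 1 from congrArg Subtype.val h, map_one])
      exact ⟨⟨u', Subgroup.subset_closure (Set.mem_insert _ _)⟩, v₀,
        fun h => hv₀ (hfree _ hu'1 v₀ ((cjHom_fixed_iff ⁅M, N⁆ u' v₀).1 h))⟩
  obtain ⟨g, hg⟩ := hcyc.exists_generator
  have hu'o : orderOf u' = q := orderOf_eq_prime hu'q fun h => hu1 (by rw [h, map_one])
  have hcard : Nat.card A ≤ q := by
    rw [← orderOf_eq_card_of_forall_mem_zpowers hg]
    exact orderOf_le_of_pow_eq_one hF.prime.pos (hexp g)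
  have heq : Subgroup.zpowers u' = A := Subgroup.eq_of_le_of_card_ge
    (Subgroup.zpowers_le.2 (Subgroup.subset_closure (Set.mem_insert _ _)))
    (by rw [Nat.card_zpowers, hu'o]; exact hcard)
  refine hzu ?_
  obtain ⟨i, hi⟩ := (heq.ge (Subgroup.subset_closure (Set.mem_insert_of_mem _ rfl)) : z' ∈ Subgroup.zpowers u')
  exact ⟨i, (map_zpow π u' i).symm.trans (congrArg π hi)⟩

/-- The Frobenius type, moved layers: at most four degrees and `N'' = 1`. -/
theorem degrees_of_levelMoved (hF : Frob N q) (hC : Comp N M q) (hA : Layer N q ⁅M, N⁆ Q)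
    (hbot : ⁅M, N⁆ = ⊥) {c : G}
    (hL : Lvl (N.map (QuotientGroup.mk' M)) q (QuotientGroup.mk' M c))
    (hM : LevelMoved (N.map (QuotientGroup.mk' M)) q (QuotientGroup.mk' M c))
    (hmeta : ⁅⁅N.map (QuotientGroup.mk' M), N.map (QuotientGroup.mk' M)⁆,
      ⁅N.map (QuotientGroup.mk' M), N.map (QuotientGroup.mk' M)⁆⁆ = ⊥) :
    (∃ X Y : ℕ, ∀ χ : Cfsg.IrrCharacter G, Cfsg.charDegree (χ : G → ℂ) = 1 ∨
      Cfsg.charDegree (χ : G → ℂ) = N.index ∨ Cfsg.charDegree (χ : G → ℂ) = X ∨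
      Cfsg.charDegree (χ : G → ℂ) = Y) ∧ ⁅⁅N, N⁆, ⁅N, N⁆⁆ = ⊥ := by
  haveI := Fintype.ofFinite N
  set π := QuotientGroup.mk' M
  have hcen : ∀ m ∈ M, ∀ n ∈ N, Commute m n := fun m hm n hn =>
    commutatorElement_eq_one_iff_mul_comm.1
      (Subgroup.mem_bot.1 (hbot ▸ Subgroup.commutator_mem_commutator hm hn))
  constructor
  · obtain ⟨D2, D3, hdeg⟩ := hM.degrees
    refine ⟨D2, D3, fun χ => ?_⟩
    obtain ⟨ψ, hψ⟩ := DegGraph.exists_constituent_res χ N
    by_cases h1 : Cfsg.charDegree (ψ : N → ℂ) = 1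
    · exact (hF.degree_of_linear_constituent χ ψ hψ h1).imp id Or.inl
    obtain ⟨μ, hμ⟩ := exists_scalar_hom ψ (M.subgroupOf N) fun t ht g => by
      have h : Commute t g := Subtype.ext (hcen _ ht _ g.2).eq
      rw [commutatorElement_eq_one_iff_mul_comm.2 h.eq]
    let θ : M →* ℂˣ := μ.comp (Subgroup.subgroupOfEquivOfLe hC.le).symm.toMonoidHom
    have hθN : N ≤ stab θ := fun g hg => mem_stab.2 (MonoidHom.ext fun m => congrArg θ (Subtype.ext (by
      show ((MulAut.conjNormal g m : M) : G) = m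
      rw [MulAut.conjNormal_apply, ← (hcen _ m.2 g hg).eq, mul_inv_cancel_right])))
    have hψM : ∀ m : M, (ψ : N → ℂ) ⟨m, hC.le m.2⟩ = (ψ : N → ℂ) 1 * (θ m : ℂ) := fun m => by
      have h := hμ ⟨⟨m, hC.le m.2⟩, m.2⟩ 1
      rw [mul_one] at h
      rw [h, mul_comm]
      rfl
    obtain ⟨β, hβ, hin⟩ := twist_level hC hF.prime ψ θ hθN hψM
    obtain ⟨χβ, hχβ⟩ := hL.exists_degree β
    obtain ⟨χ', hχ'⟩ := ThreeDeg.degree_quotient M χβ
    rw [hχβ] at hχ'
    have hd := hF.degree_eq χ ψ hψ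
    have hdvd : Cfsg.charDegree (χ' : G → ℂ) ∣ Cfsg.charDegree (χ : G → ℂ) := by
      rw [hd, hχ', hβ]
      refine Nat.mul_dvd_mul_right ?_ _
      rw [← Subgroup.index_comap_of_surjective _ (QuotientGroup.mk'_surjective M)]
      exact Subgroup.index_dvd_of_le hin
    have hgt : 1 < Cfsg.charDegree (χ' : G → ℂ) := by
      rw [hχ', hβ]
      exact lt_of_lt_of_le (deg_gt h1)
        (Nat.le_mul_of_pos_left _ (Nat.pos_of_ne_zero Subgroup.index_ne_zero_of_finite))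
    have he := hF.hnd χ' χ hgt hdvd
    rw [← he, hχ']
    rcases hdeg β (hβ ▸ h1) with h | h
    · exact Or.inr (Or.inr (Or.inl h))
    · exact Or.inr (Or.inr (Or.inr h))
  · have hNQ : ⁅N, N⁆ ≤ Q := Subgroup.commutator_le.2 fun a ha b hb => by
      obtain ⟨m, hm, x, hx, rfl⟩ := comp_split hC hF.prime hA.le_N hA.sylow ha
      obtain ⟨m', hm', y, hy, rfl⟩ := comp_split hC hF.prime hA.le_N hA.sylow hb
      have e : ⁅m * x, m' * y⁆ = ⁅x, y⁆ := by
        have hNn := hA.le_N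
        have h1 : ⁅m * x, m' * y⁆ = ⁅x, m' * y⁆ := by
          have h := hcen m hm _ (mul_mem (mul_mem (mul_mem (hNn hx) hb) (inv_mem (hNn hx))) (one_mem _))
          rw [mul_one] at h
          rw [commutatorElement_def, mul_inv_rev,
            show m * x * (m' * y) * (x⁻¹ * m⁻¹) * (m' * y)⁻¹ =
              m * (x * (m' * y) * x⁻¹) * m⁻¹ * (m' * y)⁻¹ by group, h.eq, mul_inv_cancel_right,
            commutatorElement_def]
        rw [h1, commutatorElement_def, mul_inv_rev,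
          show x * (m' * y) * x⁻¹ * (y⁻¹ * m'⁻¹) = (x * m') * (y * x⁻¹ * y⁻¹) * m'⁻¹ by group,
          ← (hcen m' hm' x (hNn hx)).eq,
          show m' * x * (y * x⁻¹ * y⁻¹) * m'⁻¹ = m' * (x * y * x⁻¹ * y⁻¹) * m'⁻¹ by group,
          (hcen m' hm' (x * y * x⁻¹ * y⁻¹) (mul_mem (mul_mem (mul_mem (hNn hx) (hNn hy))
            (inv_mem (hNn hx))) (inv_mem (hNn hy)))).eq, mul_inv_cancel_right, commutatorElement_def]
      rw [e, commutatorElement_def]
      exact mul_mem (mul_mem (mul_mem hx hy) (inv_mem hx)) (inv_mem hy)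
    rw [eq_bot_iff]
    intro x hx
    refine Subgroup.mem_bot.2 (comp_disjoint hC hA.pgroup hF.prime ?_
      (hNQ (Subgroup.commutator_mono (Subgroup.commutator_le_left N N)
        (Subgroup.commutator_le_left N N) hx)))
    refine mem_of_mk_eq ?_
    rw [← Subgroup.mem_bot, ← hmeta, ← Subgroup.map_commutator, ← Subgroup.map_commutator]
    exact Subgroup.mem_map_of_mem π hx

/-- **No divisibility among the degrees: at most four degrees and derived length at most three.** -/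
theorem bounds [Group.IsSolvable G] (hnd : Nd G) :
    (∃ a b d : ℕ, ∀ χ : Cfsg.IrrCharacter G, Cfsg.charDegree (χ : G → ℂ) = 1 ∨
      Cfsg.charDegree (χ : G → ℂ) = a ∨ Cfsg.charDegree (χ : G → ℂ) = b ∨
      Cfsg.charDegree (χ : G → ℂ) = d) ∧ derivedSeries G 3 = ⊥ := by
  have hthree : ∀ a b : ℕ, (∀ χ : Cfsg.IrrCharacter G, Cfsg.charDegree (χ : G → ℂ) = 1 ∨
      Cfsg.charDegree (χ : G → ℂ) = a ∨ Cfsg.charDegree (χ : G → ℂ) = b) →
      (∃ a b d : ℕ, ∀ χ : Cfsg.IrrCharacter G, Cfsg.charDegree (χ : G → ℂ) = 1 ∨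
        Cfsg.charDegree (χ : G → ℂ) = a ∨ Cfsg.charDegree (χ : G → ℂ) = b ∨
        Cfsg.charDegree (χ : G → ℂ) = d) ∧ derivedSeries G 3 = ⊥ := fun a b h =>
    ⟨⟨a, b, b, fun χ => (h χ).imp id fun h' => h'.imp id Or.inl⟩, ThreeDeg.derived_three h⟩
  by_cases hna : commutator G = ⊥
  · refine hthree 1 1 fun χ => Or.inl ?_
    by_contra h1
    obtain ⟨η, hη, he⟩ := CharTwist.exists_irr_quotient χ.2 (⊥ : Subgroup G)
      fun x hx => by rw [Subgroup.mem_bot.1 hx]
    refine h1 ?_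
    have h := degree_dvd_of_trivial (N := (⊤ : Subgroup G)) χ ⊥ bot_le (fun a _ b _ =>
      hna ▸ commutator_def G ▸ Subgroup.commutator_mem_commutator (Subgroup.mem_top a) (Subgroup.mem_top b))
      fun x hx => by rw [Subgroup.mem_bot.1 hx]
    rwa [Subgroup.index_top, Nat.dvd_one] at h
  by_cases hp : ∀ p : ℕ, p.Prime → ∀ W : Subgroup G, W.Normal → ¬ commutator G ≤ W →
      ∀ k, W.index ≠ p ^ k
  swap
  · push Not at hp
    obtain ⟨p, hp, W, hWn, hW, k, hk⟩ := hp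
    haveI := hWn
    obtain ⟨m, -, hm⟩ := two_degrees_of_pQuotient hnd hp W hW hk
    exact hthree m m fun χ => (hm χ).imp id Or.inl
  obtain ⟨N, hN, q, hF⟩ := exists_frob hnd hna hp
  haveI := hN
  by_cases hqN : q ∣ Nat.card ↥⁅N, N⁆
  swap
  · obtain ⟨X, -, hX⟩ := degrees_typeOne hF hqN
    exact hthree N.index X hX
  obtain ⟨M, hMn, hC⟩ := exists_comp hF
  haveI := hMn
  obtain ⟨Q, c₀, hQN, hQ, hQs, hc₀, hgen₀⟩ := hF.exists_sylow_gen
  obtain ⟨c, hc, hgen, hL⟩ := exists_level hF hC hqN hp hc₀ hgen₀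
  have hA := comp_layer hF hC hQN hQ hQs hc hgen
  obtain ⟨hmeta, hI | hM⟩ := hL.cases
  · obtain ⟨X, hX⟩ := degrees_of_levelInv hF hC hA hgen hL hI
    exact hthree N.index X hX
  · obtain ⟨⟨X, Y, hXY⟩, hN''⟩ := degrees_of_levelMoved hF hC hA
      (comp_central hF hC hA hgen hM) hL hM hmeta
    refine ⟨⟨N.index, X, Y, hXY⟩, ?_⟩
    have h1 : derivedSeries G 1 ≤ N := (derivedSeries_one G).trans_le hF.comm
    have h2 : derivedSeries G 2 ≤ ⁅N, N⁆ := by
      rw [derivedSeries_succ]; exact Subgroup.commutator_mono h1 h1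
    rw [derivedSeries_succ, eq_bot_iff, ← hN'']
    exact Subgroup.commutator_mono h2 h2

end CfsgLib.NoDiv
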