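import Cfsg.Agent.Lib.NoDiv.Chief

/-!
# The bottom of a nonabelian layer is central
-/

set_option autoImplicit false

open scoped Classical commutatorElement
open CfsgLib CfsgLib.DegGraph

namespace CfsgLib.NoDiv

universe u

variable {G : Type u} [Group G] [Finite G] {N : Subgroup G} [N.Normal] {q : ℕ}

namespace AbLayer

variable {L Q : Subgroup G} [L.Normal] {c : G} (hF : Frob N q) (hA : AbLayer N q L Q c)
include hF hA

/-- `L ⊔ E` is normal for a `c`-invariant `E` inside `Q`. -/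
theorem sup_normal_E {E : Subgroup G} (hEQ : E ≤ Q)
    (hEc : ∀ k : ℕ, ∀ e ∈ E, c ^ k * e * (c ^ k)⁻¹ ∈ E) : (L ⊔ E).Normal := by
  refine ⟨fun x hx g => ?_⟩
  obtain ⟨l, hl, e, he, rfl⟩ := Subgroup.mem_sup_of_normal_left.1 hx
  obtain ⟨k, hk⟩ := hA.gen g
  set n := (c ^ k)⁻¹ * g with hn
  rw [show g * (l * e) * g⁻¹ =
      (g * l * g⁻¹) * ((c ^ k * ⁅n, e⁆ * (c ^ k)⁻¹) * (c ^ k * e * (c ^ k)⁻¹)) by
    rw [hn, commutatorElement_def]; group]
  exact mul_mem (Subgroup.mem_sup_left ((inferInstance : L.Normal).conj_mem l hl g))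
    (mul_mem (Subgroup.mem_sup_left ((inferInstance : L.Normal).conj_mem _
      (hA.abelian n hk e (hA.le_N (hEQ he))) _)) (Subgroup.mem_sup_right (hEc k e he)))

/-- An element of `E` fixing a linear character class of `L` modulo `L'` is trivial there. -/
theorem mem_derived_of_commute {e : G} (he : e ∈ N) (heA : e ∉ A1 N L) {l : G} (hl : l ∈ L)
    (h : (e * l * e⁻¹) * l⁻¹ ∈ ⁅L, L⁆) : l ∈ ⁅L, L⁆ := by
  refine mem_derived_of_forall hl fun v => ?_
  obtain ⟨w, hw⟩ := hA.exists_cj_div hF he heA v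
  have h1 : cj e w ⟨l, hl⟩ = v ⟨l, hl⟩ * w ⟨l, hl⟩ := by rw [hw, MonoidHom.mul_apply]
  have hlt : e * l * e⁻¹ ∈ L := (inferInstance : L.Normal).conj_mem l hl e
  have h2 : w (⟨e * l * e⁻¹, hlt⟩ * (⟨l, hl⟩ : L)⁻¹) = 1 :=
    apply_eq_one_of_mem_derived (mul_mem hlt (inv_mem hl)) h w
  rw [map_mul, map_inv, mul_inv_eq_one] at h2
  have h3 : cj e w ⟨l, hl⟩ = w ⟨l, hl⟩ := h2
  rw [h3] at h1
  exact mul_eq_right.1 h1.symm

/-- An element of the complement lying in `A1` is trivial. -/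
theorem eq_one_of_mem_E {E : Subgroup G} (hEfix : ∀ y e, y ∉ N → e ∈ E → ⁅y, e⁆ ∈ A1 N L → e = 1)
    {e : G} (he : e ∈ E) (heA : e ∈ A1 N L) : e = 1 := by
  obtain ⟨y, hy⟩ : ∃ y : G, y ∉ N := by
    by_contra h
    push Not at h
    exact hF.ne_one (Subgroup.index_eq_one.2 ((Subgroup.eq_top_iff' N).2 h))
  exact hEfix y e hy he (mul_mem ((inferInstance : (A1 N L).Normal).conj_mem e heA y) (inv_mem heA))

/-- The bottom is central in `L`. -/
theorem bottom_central [Group.IsSolvable G] {K : Subgroup G} (hK : Bottom L K) :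
    ⁅⁅L, L⁆, L⁆ ≤ K := by
  haveI := hK.normal
  haveI := Fintype.ofFinite G
  haveI := Fintype.ofFinite L
  obtain ⟨p, hp, hV⟩ := hA.exists_prime_dual hF
  haveI : Fact p.Prime := ⟨hp⟩
  set M := ⁅L, L⁆ with hM
  set W := annChars M K
  have hWfin : Finite W := by infer_instance
  let φW := Glauberman.restrSub (cjHom M) W (fun g v hv => annChars_invariant M K g hv)
  have hφW : ∀ (g : G) (v : W), ((φW g v : W) : M →* ℂˣ) = cjHom M g v := fun _ _ => rfl
  let ψ : G ⧸ M →* MulAut W := QuotientGroup.lift M φW fun m hm =>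
    MulEquiv.ext fun v => Subtype.ext ((cjHom_fixed_iff M m _).2 (le_stab M _ hm))
  set π := QuotientGroup.mk' M
  -- characters of the bottom fixed by `L` are trivial unless the bottom is central
  by_cases hfixL : ∃ v : M →* ℂˣ, v ∈ W ∧ v ≠ 1 ∧ L ≤ stab v
  · obtain ⟨v₀, hv₀, hv₀1, hv₀L⟩ := hfixL
    rw [Subgroup.commutator_le]
    intro a ha l hl
    have hmem : ⁅a, l⁆ ∈ M := by
      rw [commutatorElement_def, show a * l * a⁻¹ * l⁻¹ = a * (l * a⁻¹ * l⁻¹) by group]
      exact mul_mem ha ((inferInstance : M.Normal).conj_mem _ (inv_mem ha) l)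
    refine hK.mem_of_annihilated (fun v => v ∈ W ∧ L ≤ stab v) (fun v hv => hv.1) (fun g v hv => ?_)
      ⟨hv₀, hv₀L⟩ hv₀1 hmem ?_
    · refine ⟨fun x hx => hv.1 _ (hK.normal.conj_mem x hx g), fun x hx => mem_stab.2 ?_⟩
      rw [← cj_mul, show g * x = (g * x * g⁻¹) * g by group, cj_mul,
        mem_stab.1 (hv.2 ((inferInstance : L.Normal).conj_mem x hx g))]
    · intro v hv
      have hcl : v ⟨l * a⁻¹ * l⁻¹, (inferInstance : M.Normal).conj_mem _ (inv_mem ha) l⟩ =
          v ⟨a⁻¹, inv_mem ha⟩ := DFunLike.congr_fun (mem_stab.1 (hv.2 hl)) ⟨a⁻¹, inv_mem ha⟩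
      rw [show (⟨⁅a, l⁆, _⟩ : M) = ⟨a, ha⟩ * ⟨l * a⁻¹ * l⁻¹,
        (inferInstance : M.Normal).conj_mem _ (inv_mem ha) l⟩ from Subtype.ext (by
          simp [commutatorElement_def, mul_assoc]), map_mul, hcl, ← map_mul]
      exact (congrArg v (Subtype.ext (by simp))).trans (map_one v)
  exfalso
  push Not at hfixL
  obtain ⟨E, hEQ, hEc, hEfix, e₀, he₀, he₀A⟩ := hA.exists_E hF
  haveI : Fact q.Prime := ⟨hF.prime⟩
  haveI := hA.sup_normal_E hF hEQ hEc
  set F := L.map π
  set H := E.map π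
  haveI := Fintype.ofFinite F
  haveI := Fintype.ofFinite H
  have hFp : IsPGroup p F := by
    rintro ⟨_, l, hl, rfl⟩
    obtain ⟨k, hk⟩ := hA.isPGroup_quot hF hp hV l hl
    exact ⟨k, Subtype.ext (by
      show π l ^ p ^ k = 1
      rw [← map_pow]
      exact (QuotientGroup.eq_one_iff _).2 hk)⟩
  -- the bottom is prime to `p`
  have hpW : ¬ p ∣ Nat.card W := by
    intro hd
    letI : MulAction F W :=
      { smul := fun z v => ψ (z : G ⧸ M) v
        one_smul := fun v => by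
          show ψ ((1 : F) : G ⧸ M) v = v
          rw [Subgroup.coe_one, map_one]; rfl
        mul_smul := fun x y v => by
          show ψ ((x * y : F) : G ⧸ M) v = ψ (x : G ⧸ M) (ψ (y : G ⧸ M) v)
          rw [Subgroup.coe_mul, map_mul]; rfl }
    obtain ⟨v, hv, hne⟩ := hFp.exists_fixed_point_of_prime_dvd_card_of_fixed_point W hd
      (a := (1 : W)) (fun z => map_one (ψ (z : G ⧸ M)))
    obtain ⟨l, hl, hl'⟩ := SetLike.not_le_iff_exists.1
      (hfixL v v.2 (fun h => hne (Subtype.ext h).symm))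
    exact hl' ((cjHom_fixed_iff M l _).1
      (congrArg Subtype.val (hv ⟨π l, Subgroup.mem_map_of_mem π hl⟩)))
  obtain ⟨v₁, hv₁, hv₁1⟩ := hK.exists_char
  obtain ⟨w, hw⟩ := Recog.exists_norm_ne_one (V := W) ψ F H
    (fun h _ f hf => ((inferInstance : L.Normal).map π (QuotientGroup.mk'_surjective M)).conj_mem
      f hf h)
    (by
      rintro _ ⟨l, hl, rfl⟩ _ ⟨e, he, rfl⟩ he1 hcomm
      have heA : e ∉ A1 N L := fun h => he1 (by rw [hA.eq_one_of_mem_E hF hEfix he h, map_one])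
      refine (QuotientGroup.eq_one_iff l).2
        (hA.mem_derived_of_commute hF (hA.le_N (hEQ he)) heA hl ?_)
      refine (QuotientGroup.eq_one_iff _).1 ?_
      show π (e * l * e⁻¹ * l⁻¹) = 1
      rw [map_mul, map_mul, map_mul, map_inv, map_inv, hcomm, mul_inv_cancel_right, mul_inv_cancel])
    (by
      obtain ⟨k, hk⟩ := IsPGroup.iff_card.1 hFp
      rw [hk]
      exact ((hp.coprime_iff_not_dvd).2 hpW).pow_left k)
    (by
      obtain ⟨l, hl, hl'⟩ := SetLike.not_le_iff_exists.1 (hfixL v₁ hv₁ hv₁1)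
      exact ⟨π l, Subgroup.mem_map_of_mem π hl, ⟨v₁, hv₁⟩, fun h =>
        hl' ((cjHom_fixed_iff M l v₁).1 (congrArg Subtype.val h))⟩)
  -- the norm is fixed by `E`
  set v : M →* ℂˣ := ((∏ h : H, ψ (h : G ⧸ M) w : W) : M →* ℂˣ) with hvdef
  have hv1 : v ≠ 1 := fun h => hw (Subtype.ext h)
  have hvE : E ≤ stab v := by
    intro e he
    refine (cjHom_fixed_iff M e v).1 ?_
    have h1 : ψ (π e) (∏ h : H, ψ (h : G ⧸ M) w) = ∏ h : H, ψ (h : G ⧸ M) w := by
      rw [map_prod]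
      refine Fintype.prod_equiv (Equiv.mulLeft (⟨π e, Subgroup.mem_map_of_mem π he⟩ : H)) _ _
        fun h => ?_
      rw [← MulAut.mul_apply, ← map_mul]
      rfl
    exact congrArg Subtype.val h1
  -- an invariant character above it
  let φE : E →* MulAut L := MulAut.conjNormal.comp E.subtype
  have hML : M ≤ L := Subgroup.commutator_le_left L L
  haveI : (M.subgroupOf L).Normal := Subgroup.normal_subgroupOf
  haveI := Fintype.ofFinite (M.subgroupOf L)
  let eM := Subgroup.subgroupOfEquivOfLe hML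
  set θ : M.subgroupOf L → ℂ := fun m => ((v.comp eM.toMonoidHom) m : ℂ) with hθ
  have hEp : IsPGroup q E := hA.pgroup.to_le hEQ
  haveI : Group.IsNilpotent E := hEp.isNilpotent
  obtain ⟨ξ, hξ, hξE⟩ := Glauberman.exists_inv_over (Nat.card E) φE (M.subgroupOf L)
    (fun e x hx => (inferInstance : M.Normal).conj_mem _ hx (e : G)) rfl inferInstance
    (by
      obtain ⟨k, hk⟩ := IsPGroup.iff_card.1 hEp
      rw [hk]
      exact ((hF.prime.coprime_iff_not_dvd).2 hA.coprime).symm.pow_right k)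
    ⟨θ, Char.isIrrCharacter_linear _⟩
    (fun e m => by
      show ((v.comp eM.toMonoidHom) _ : ℂ) = ((v.comp eM.toMonoidHom) m : ℂ)
      refine congrArg Units.val ?_
      exact (congrArg v (Subtype.ext rfl)).trans
        (DFunLike.congr_fun (mem_stab.1 (hvE e.2)) (eM m)))
  have hξ1 : Cfsg.charDegree (ξ : L → ℂ) ≠ 1 := by
    intro h1
    obtain ⟨μ, hμ⟩ := CharDeep.Lin.exists_hom_of_deg_one (Char.IsIrrCharacter.isCharacter ξ.2)
      (by rw [← CharTools.irr_degree_cast, h1, Nat.cast_one])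
    refine hv1 ?_
    by_contra hne
    apply hξ
    have hres : (fun x : M.subgroupOf L => (ξ : L → ℂ) x) =
        fun x => ((1 : M.subgroupOf L →* ℂˣ) x : ℂ) := funext fun x => by
      rw [hμ]
      exact congrArg Units.val (apply_eq_one_of_mem_derived (x := ((x : L) : G)) (x : L).2 x.2 μ)
    rw [hres]
    refine Char.classInner_irr_of_ne (Char.isIrrCharacter_linear _) (Char.isIrrCharacter_linear _)
      fun heq => hne (MonoidHom.ext fun y => ?_)
    have h2 := congrFun heq (eM.symm y)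
    change (1 : ℂ) = ((v.comp eM.toMonoidHom) (eM.symm y) : ℂ) at h2
    have h3 : (v.comp eM.toMonoidHom) (eM.symm y) = 1 := Units.ext h2.symm
    simpa using h3
  haveI : (⊥ : Subgroup G).Normal := Subgroup.normal_bot
  have hS : L ⊔ E ≤ CharTwist.inertia L (ξ : L → ℂ) := by
    refine sup_le (CharTwist.le_inertia L (Char.IsIrrCharacter.isClassFunction ξ.2)) fun e he => ?_
    exact CharTwist.mem_inertia.2 (funext fun n => hξE ⟨e, he⟩ n)
  have hcen : ∀ {x : G}, x ∈ L ⊔ E → ∀ g : G, ⁅x, g⁆ ∈ A1 N L := fun {x} hx g =>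
    hA.central_of_fixed hF ξ hξ1 ⊥
    (fun k hk => congrArg _ (Subtype.ext (Subgroup.mem_bot.1 hk)))
    (L ⊔ E) le_sup_left (sup_le (hA.toLayer.L_le_N hF) (hEQ.trans hA.le_N))
    (by
      rw [Subgroup.relIndex_bot_left, sup_comm, Subgroup.relIndex_sup_right]
      obtain ⟨k, hk⟩ := IsPGroup.iff_card.1 hEp
      refine Nat.Coprime.coprime_dvd_left
        ((Subgroup.relIndex_dvd_card L E).trans hk.dvd) ?_
      exact ((hF.prime.coprime_iff_not_dvd).2 hA.coprime).pow_left k)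
    hS hx g
  obtain ⟨y, hy⟩ : ∃ y : G, y ∉ N := by
    by_contra h
    push Not at h
    exact hF.ne_one (Subgroup.index_eq_one.2 ((Subgroup.eq_top_iff' N).2 h))
  refine he₀A ?_
  have h1 : ⁅y, e₀⁆ ∈ A1 N L := by
    rw [← commutatorElement_inv]
    exact inv_mem (hcen (Subgroup.mem_sup_right he₀) y)
  rw [hEfix y e₀ hy he₀ h1]
  exact one_mem _

end AbLayer

end CfsgLib.NoDiv
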