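import Cfsg.Agent.Lib.NoDiv.Dichotomy
import Cfsg.Agent.Lib.DegGraph.Orbit
import Cfsg.Agent.Lib.Char.InertiaNorm
import Cfsg.Agent.Lib.Solvable.CoprimeMulAction

/-!
# The Frobenius type: first facts
-/

set_option autoImplicit false

open scoped Classical commutatorElement
open CfsgLib CfsgLib.DegGraph

namespace CfsgLib.NoDiv

universe u

variable {G : Type u} [Group G]

/-- Conjugation as an action on the linear characters of a normal subgroup. -/
def cjHom (N : Subgroup G) [N.Normal] : G →* MulAut (N →* ℂˣ) where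
  toFun g :=
    { toFun := cj g⁻¹
      invFun := cj g
      left_inv := fun ν => by rw [← cj_mul, inv_mul_cancel, cj_one]
      right_inv := fun ν => by rw [← cj_mul, mul_inv_cancel, cj_one]
      map_mul' := fun _ _ => rfl }
  map_one' := by
    refine MulEquiv.ext fun ν => ?_
    show cj (1 : G)⁻¹ ν = ν
    rw [inv_one, cj_one]
  map_mul' g h := by
    refine MulEquiv.ext fun ν => ?_
    show cj (g * h)⁻¹ ν = cj g⁻¹ (cj h⁻¹ ν)
    rw [mul_inv_rev, cj_mul]

theorem cjHom_fixed_iff (N : Subgroup G) [N.Normal] (g : G) (ν : N →* ℂˣ) :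
    cjHom N g ν = ν ↔ g ∈ stab ν := by
  rw [← inv_mem_iff, mem_stab]
  rfl

theorem le_stab (N : Subgroup G) [N.Normal] (ν : N →* ℂˣ) : N ≤ stab ν := fun g hg => by
  rw [mem_stab]
  refine MonoidHom.ext fun n => ?_
  show ν (MulAut.conjNormal g n) = ν n
  rw [show MulAut.conjNormal g n = (⟨g, hg⟩ : N) * n * (⟨g, hg⟩ : N)⁻¹ from Subtype.ext (by simp),
    map_mul, map_mul, map_inv, mul_inv_cancel_comm]

theorem exists_hom_ne [Finite G] (N : Subgroup G) (hN : ∀ a ∈ N, ∀ b ∈ N, a * b = b * a) {x : G}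
    (hx : x ∈ N) (hx1 : x ≠ 1) : ∃ ν : N →* ℂˣ, ν ⟨x, hx⟩ ≠ 1 := by
  by_contra h
  push Not at h
  exact hx1 (congrArg Subtype.val (TwoDeg.eq_of_forall_hom_eq
    (fun a b : N => Subtype.ext (hN a a.2 b b.2)) (x := (⟨x, hx⟩ : N)) (y := 1)
    fun f => by rw [h f, map_one]))

variable [Finite G]

/-- An abelian group acting coprimely, each nonidentity element fixing only global fixed
points, is cyclic. -/
theorem isCyclic_of_semiregular {A K : Type u} [CommGroup A] [Finite A] [Group K] [Finite K]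
    (φ : A →* MulAut K) (hcop : (Nat.card A).Coprime (Nat.card K))
    (hfix : ∀ a : A, a ≠ 1 → ∀ k : K, φ a k = k → ∀ b : A, φ b k = k)
    (hnt : ∃ (b : A) (k : K), φ b k ≠ k) : IsCyclic A := by
  by_contra hA
  obtain ⟨b, k, hbk⟩ := hnt
  letI : MulDistribMulAction A K := MulDistribMulAction.compHom K φ
  let W : Subgroup K :=
    { carrier := {x | ∀ a : A, φ a x = x}
      one_mem' := fun a => map_one _
      mul_mem' := fun {x y} hx hy a => by rw [map_mul, hx a, hy a]
      inv_mem' := fun {x} hx a => by rw [map_inv, hx a] }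
  have hW : W = ⊤ := Solvable.eq_top_of_smul_fixed_mem hA hcop W fun a ha x hx => hfix a ha x hx
  exact hbk ((hW.symm ▸ Subgroup.mem_top k : k ∈ W) b)

/-- The data of the Frobenius type. -/
structure Frob (N : Subgroup G) [N.Normal] (q : ℕ) : Prop where
  hnd : Nd G
  comm : commutator G ≤ N
  prime : q.Prime
  ne_one : N.index ≠ 1
  not_dvd : ¬ q ∣ N.index
  degree : ∃ χ : Cfsg.IrrCharacter G, Cfsg.charDegree (χ : G → ℂ) = N.index
  moved : ∃ l : N →* ℂˣ, l ^ q = 1 ∧ stab l ≤ N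
  twist : ∀ ψ : Cfsg.IrrCharacter N, ¬ q ∣ Cfsg.charDegree (ψ : N → ℂ) →
    ∃ χ : Cfsg.IrrCharacter G,
      Cfsg.charDegree (χ : G → ℂ) = N.index * Cfsg.charDegree (ψ : N → ℂ)

theorem exists_frob (hnd : Nd G) [Group.IsSolvable G] (hna : commutator G ≠ ⊥)
    (hnp : ∀ p : ℕ, p.Prime → ∀ W : Subgroup G, W.Normal → ¬ commutator G ≤ W →
      ∀ k, W.index ≠ p ^ k) :
    ∃ (N : Subgroup G) (_ : N.Normal) (q : ℕ), Frob N q := by
  rcases dichotomy (G := G) ⊥ inferInstance (fun h => hna (le_bot_iff.1 h)) with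
    ⟨p, hp, W, hW, hW2, k, hk⟩ | ⟨H, q, hH, hq, hc, hf, hqf, hχ, ⟨hn, l, hl, hlm⟩, htw⟩
  · exact absurd hk (hnp p hp W hW hW2 k)
  · haveI := hH
    exact ⟨H, hH, q, ⟨hnd, hc, hq, hf, hqf, hχ, ⟨l, hl, fun g hg => hlm g fun x =>
      DFunLike.congr_fun (mem_stab.1 hg) x⟩, htw⟩⟩

namespace Frob

variable {N : Subgroup G} [N.Normal] {q : ℕ} (hF : Frob N q)
include hF

theorem index_gt : 1 < N.index :=
  lt_of_le_of_ne (Nat.pos_of_ne_zero Subgroup.index_ne_zero_of_finite) (Ne.symm hF.ne_one)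

/-- The index is maximal for divisibility among the degrees. -/
theorem eq_index {χ : Cfsg.IrrCharacter G} (h : N.index ∣ Cfsg.charDegree (χ : G → ℂ)) :
    Cfsg.charDegree (χ : G → ℂ) = N.index := by
  obtain ⟨χ₀, h0⟩ := hF.degree
  exact ((hF.hnd χ₀ χ (h0 ▸ hF.index_gt) (h0 ▸ h)).symm).trans h0

/-- Divisors of the index are trivial degrees. -/
theorem eq_of_dvd_index {χ : Cfsg.IrrCharacter G} (h : Cfsg.charDegree (χ : G → ℂ) ∣ N.index)
    (h1 : Cfsg.charDegree (χ : G → ℂ) ≠ 1) : Cfsg.charDegree (χ : G → ℂ) = N.index := by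
  obtain ⟨χ₀, h0⟩ := hF.degree
  exact (hF.hnd χ χ₀ (deg_gt h1) (h0 ▸ h)).trans h0

/-- Nonlinear characters of `N` have degree divisible by `q`. -/
theorem q_dvd (ψ : Cfsg.IrrCharacter N) (h1 : Cfsg.charDegree (ψ : N → ℂ) ≠ 1) :
    q ∣ Cfsg.charDegree (ψ : N → ℂ) := by
  by_contra h
  obtain ⟨χ, hχ⟩ := hF.twist ψ h
  have := hF.eq_index (hχ ▸ dvd_mul_right _ _)
  rw [hχ] at this
  exact h1 (Nat.eq_of_mul_eq_mul_left (Nat.lt_trans Nat.one_pos hF.index_gt)
    (this.trans (mul_one _).symm))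

/-- A linear character of `N` is invariant or has inertia group `N`. -/
theorem stab_eq (l : N →* ℂˣ) : stab l = ⊤ ∨ stab l = N := by
  haveI := Fintype.ofFinite G
  haveI := Fintype.ofFinite N
  by_cases htop : stab l = ⊤
  · exact Or.inl htop
  refine Or.inr (le_antisymm ?_ (le_stab N l))
  set θ : N → ℂ := fun n => (l n : ℂ) with hθ
  have hθi : Cfsg.IsIrrCharacter N θ := Char.isIrrCharacter_linear l
  have hθ1 : Cfsg.charDegree θ = 1 := by simp [hθ, Cfsg.charDegree]
  have hind := Char.IsCharacter.indFun (H := N) (Char.IsIrrCharacter.isCharacter hθi)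
  obtain ⟨k, hk, hdeg⟩ := CharTools.exists_degree_combination hind
  have hi : Cfsg.charDegree (Cfsg.indFun N θ) = N.index := by
    refine Nat.cast_injective (R := ℂ) ?_
    rw [CharTools.degree_cast hind, Char.indFun_apply_one, hθ]
    simp
  have hover : ∀ χ : Cfsg.IrrCharacter G, k χ ≠ 0 →
      Cfsg.charDegree (χ : G → ℂ) = N.index := by
    intro χ hχ
    have hc : Cfsg.classInner (fun n : N => (χ : G → ℂ) n) θ ≠ 0 := fun h0 => hχ (by
      have h2 := hk χ
      rw [Char.classInner_indFun N _ _ (Char.IsIrrCharacter.isClassFunction χ.2),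
        ← Char.classInner_conj_symm, h0, map_zero] at h2
      exact Nat.cast_eq_zero.1 h2.symm)
    obtain ⟨j, hj, hjd⟩ := ThreeDeg.over_ratio N χ ⟨θ, hθi⟩ hc
    change _ = Cfsg.charDegree θ * j at hj
    rw [hθ1, one_mul] at hj
    refine hF.eq_of_dvd_index (hj ▸ hjd) fun h1 => htop (Subgroup.index_eq_one.1 ?_)
    have h2 := index_mul_dvd N χ ⟨θ, hθi⟩ hc
    change _ * Cfsg.charDegree θ ∣ _ at h2
    rw [hθ1, mul_one, h1] at h2
    exact Nat.dvd_one.1 h2
  rw [hi] at hdeg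
  have hsum : N.index = (∑ χ : Cfsg.IrrCharacter G, k χ) * N.index := by
    conv_lhs => rw [hdeg]
    rw [Finset.sum_mul]
    refine Finset.sum_congr rfl fun χ _ => ?_
    by_cases h0 : k χ = 0
    · simp [h0]
    · rw [hover χ h0]
  have h1 : ∑ χ : Cfsg.IrrCharacter G, k χ = 1 :=
    (Nat.eq_of_mul_eq_mul_right (Nat.lt_trans Nat.one_pos hF.index_gt)
      ((one_mul _).trans hsum)).symm
  obtain ⟨χ₀, hχ₀⟩ : ∃ χ, k χ ≠ 0 := by
    by_contra hcon
    push Not at hcon
    simp [hcon] at h1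
  have hle : ∀ χ, k χ ≤ if χ = χ₀ then 1 else 0 := by
    intro χ
    split_ifs with hχ
    · exact h1 ▸ Finset.single_le_sum (fun i _ => Nat.zero_le _) (Finset.mem_univ χ)
    · have h3 := Finset.sum_le_sum_of_subset (f := k)
        (Finset.subset_univ ({χ, χ₀} : Finset (Cfsg.IrrCharacter G)))
      rw [Finset.sum_pair hχ, h1] at h3
      omega
  have heq : Cfsg.indFun N θ = (χ₀ : G → ℂ) := by
    rw [Char.IsCharacter.eq_sum_classInner hind, Finset.sum_eq_single χ₀]
    · rw [hk, show k χ₀ = 1 by have := hle χ₀; simp at this; omega, Nat.cast_one, one_smul]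
    · intro χ _ hχ
      have := hle χ
      rw [if_neg hχ] at this
      rw [hk, show k χ = 0 by omega, Nat.cast_zero, zero_smul]
    · simp
  intro g hg
  have h4 := CharTwist.card_mul_classInner_indFun (G := G) N hθi hθi
  rw [heq, Char.classInner_irr_self χ₀.2, mul_one, Nat.cast_inj] at h4
  by_contra hgN
  have hmem : ∀ x : G, x ∈ stab l → CharTwist.conjFun N θ x = θ := fun x hx =>
    CharTwist.mem_inertia.1 hx
  let F : N ⊕ Unit → {x : G // CharTwist.conjFun N θ x = θ} :=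
    Sum.elim (fun n => ⟨n, hmem _ (le_stab N l n.2)⟩) fun _ => ⟨g, hmem _ hg⟩
  have hF' : Function.Injective F := by
    rintro (a | a) (b | b) hab <;> simp only [F, Sum.elim_inl, Sum.elim_inr, Subtype.mk.injEq] at hab
    · exact congrArg _ (Subtype.ext hab)
    · exact absurd (hab ▸ a.2) hgN
    · exact absurd (hab ▸ b.2) hgN
    · rfl
  have := Nat.card_le_card_of_injective F hF'
  rw [Nat.card_sum, show Nat.card Unit = 1 from Nat.card_unique, ← h4] at this
  omega

/-- A linear character fixed by an element outside `N` is invariant. -/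
theorem stab_top_of_mem (l : N →* ℂˣ) {g : G} (hg : g ∈ stab l) (hgN : g ∉ N) : stab l = ⊤ :=
  (hF.stab_eq l).resolve_right fun h => hgN (h ▸ hg)

theorem isCyclic_quotient : IsCyclic (G ⧸ N) := by
  obtain ⟨l, hlq, hl⟩ := hF.moved
  haveI : Fact q.Prime := ⟨hF.prime⟩
  letI : CommGroup (G ⧸ N) :=
    { (inferInstance : Group (G ⧸ N)) with mul_comm := (ThreeDeg.commutator_le_iff N).1 hF.comm }
  let φ : G ⧸ N →* MulAut (N →* ℂˣ) := QuotientGroup.lift N (cjHom N) fun n hn =>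
    MulEquiv.ext fun ν => (cjHom_fixed_iff N n ν).2 (le_stab N ν hn)
  let K : Subgroup (N →* ℂˣ) := (powMonoidHom q).ker
  have hK : ∀ (a : G ⧸ N) (ν : N →* ℂˣ), ν ∈ K → φ a ν ∈ K := fun a ν hν => by
    rw [MonoidHom.mem_ker, powMonoidHom_apply, ← map_pow, show ν ^ q = 1 from hν, map_one]
  let φK : G ⧸ N →* MulAut K :=
    { toFun := fun a =>
        { toFun := fun ν => ⟨φ a ν, hK a ν ν.2⟩
          invFun := fun ν => ⟨φ a⁻¹ ν, hK a⁻¹ ν ν.2⟩
          left_inv := fun ν => Subtype.ext (by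
            show φ a⁻¹ (φ a ν) = ν
            rw [← MulAut.mul_apply, ← map_mul, inv_mul_cancel, map_one, MulAut.one_apply])
          right_inv := fun ν => Subtype.ext (by
            show φ a (φ a⁻¹ ν) = ν
            rw [← MulAut.mul_apply, ← map_mul, mul_inv_cancel, map_one, MulAut.one_apply])
          map_mul' := fun ν μ => Subtype.ext (map_mul (φ a) ν.1 μ.1) }
      map_one' := MulEquiv.ext fun ν => Subtype.ext (by show φ 1 ν = ν; rw [map_one]; rfl)
      map_mul' := fun a b => MulEquiv.ext fun ν => Subtype.ext (by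
        show φ (a * b) ν = φ a (φ b ν); rw [map_mul]; rfl) }
  haveI : Finite (N →* ℂˣ) := by infer_instance
  refine isCyclic_of_semiregular φK ?_ ?_ ?_
  · have hKp : IsPGroup q K := fun ν => ⟨1, Subtype.ext (by rw [pow_one]; exact ν.2)⟩
    obtain ⟨e, he⟩ := IsPGroup.iff_card.1 hKp
    rw [he, ← Subgroup.index_eq_card]
    exact ((hF.prime.coprime_iff_not_dvd).2 hF.not_dvd).symm.pow_right e
  · intro a ha ν hν b
    obtain ⟨g, rfl⟩ := QuotientGroup.mk_surjective a
    obtain ⟨h, rfl⟩ := QuotientGroup.mk_surjective b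
    have hg : g ∈ stab (ν : N →* ℂˣ) := (cjHom_fixed_iff N g _).1 (congrArg Subtype.val hν)
    have htop := hF.stab_top_of_mem _ hg fun hgN => ha ((QuotientGroup.eq_one_iff g).2 hgN)
    exact Subtype.ext ((cjHom_fixed_iff N h _).2 (htop ▸ Subgroup.mem_top h))
  · obtain ⟨g, hg⟩ : ∃ g : G, g ∉ N := by
      by_contra h
      push Not at h
      exact hF.ne_one (Subgroup.index_eq_one.2 ((Subgroup.eq_top_iff' N).2 h))
    exact ⟨QuotientGroup.mk g, ⟨l, hlq⟩, fun h => hg (hl ((cjHom_fixed_iff N g l).1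
      (congrArg Subtype.val h)))⟩

/-- The degree over a character of `N`. -/
theorem degree_eq [Fintype N] (χ : Cfsg.IrrCharacter G) (ψ : Cfsg.IrrCharacter N)
    (h : Cfsg.classInner (fun n : N => (χ : G → ℂ) n) (ψ : N → ℂ) ≠ 0) :
    Cfsg.charDegree (χ : G → ℂ) =
      (CharTwist.inertia N (ψ : N → ℂ)).index * Cfsg.charDegree (ψ : N → ℂ) :=
  DegGraph.degree_eq_of_cyclic N hF.isCyclic_quotient χ ψ h

/-- A nonlinear character of `N` is fixed outside `N`. -/
theorem inertia_not_le (ψ : Cfsg.IrrCharacter N) (h1 : Cfsg.charDegree (ψ : N → ℂ) ≠ 1) :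
    ¬ CharTwist.inertia N (ψ : N → ℂ) ≤ N := by
  intro hle
  haveI := Fintype.ofFinite N
  obtain ⟨χ, hχ⟩ := Blk83.exists_over N ψ
  have hd := hF.degree_eq χ ψ hχ
  rw [le_antisymm hle (CharTwist.le_inertia N (Char.IsIrrCharacter.isClassFunction ψ.2))] at hd
  have := hF.eq_index (hd ▸ dvd_mul_right _ _)
  rw [hd] at this
  exact h1 (Nat.eq_of_mul_eq_mul_left (Nat.lt_trans Nat.one_pos hF.index_gt)
    (this.trans (mul_one _).symm))

/-- The degrees of characters trivial on `N'` are `1` and the index. -/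
theorem degree_of_linear_constituent [Fintype N] (χ : Cfsg.IrrCharacter G)
    (ψ : Cfsg.IrrCharacter N)
    (h : Cfsg.classInner (fun n : N => (χ : G → ℂ) n) (ψ : N → ℂ) ≠ 0)
    (h1 : Cfsg.charDegree (ψ : N → ℂ) = 1) :
    Cfsg.charDegree (χ : G → ℂ) = 1 ∨ Cfsg.charDegree (χ : G → ℂ) = N.index := by
  by_cases h2 : Cfsg.charDegree (χ : G → ℂ) = 1
  · exact Or.inl h2
  refine Or.inr (hF.eq_of_dvd_index ?_ h2)
  obtain ⟨j, hj, hjd⟩ := ThreeDeg.over_ratio N χ ψ h
  rw [h1, one_mul] at hj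
  exact hj ▸ hjd

end Frob

end CfsgLib.NoDiv
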